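import Cfsg.Agent.Lib.UnitaryPowerMax.BlockTo
import Cfsg.Agent.Lib.TensorPowerMax.Fixed

/-!
The root groups fix only the base coset, and the consequence for a moved subspace met with the
orthogonal of a block.
-/

set_option autoImplicit false
set_option linter.unusedSectionVars false

namespace Cfsg.Agent.Lib.UnitaryPowerMax.Fixed

open Matrix
open Cfsg.Agent.Lib.Subspaces.Transvection Cfsg.Agent.Lib.Subspaces.FormVec
  Cfsg.Agent.Lib.Subspaces.UnitaryForm Cfsg.Agent.Lib.TensorPowerMax.Basic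
  Cfsg.Agent.Lib.UnitaryPowerMax.Form Cfsg.Agent.Lib.UnitaryPowerMax.Rad
  Cfsg.Agent.Lib.UnitaryPowerMax.BlockTo

variable {ι : Type} [Fintype ι] [DecidableEq ι] {m : ℕ} {F : Type*} [Field F] {σ : F ≃+* F}
  {f : (Fin m → F) → (Fin m → F) → F}

local notation "A1" => Matrix (Fin m) (Fin m) F
local notation "W1" => Fin m → F
local notation "VV" => (ι → Fin m) → F
local notation "Big" => Matrix (ι → Fin m) (ι → Fin m) F
local notation "GG" => GL (ι → Fin m) F

/-- A root element. -/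
noncomputable def rt (f : (Fin m → F) → (Fin m → F) → F) (i : ι) (v : Fin m → F) (γ : F) :
    GL (ι → Fin m) F :=
  oneGL i (tv v (γ • formVec f v))

/-- The orthogonal of a block. -/
abbrev perp (f : (Fin m → F) → (Fin m → F) → F) (j : ι) (w : Fin m → F) : Submodule F ((ι → Fin m) → F) :=
  LinearMap.ker (ctr j (formVec f w))

variable (hf : Cfsg.Geo.IsUnitaryForm σ f)
include hf

theorem orth {v : W1} (hvv : f v v = 0) (γ : F) : (γ • formVec f v) ⬝ᵥ v = 0 := by
  rw [smul_dotProduct, formVec_dot (isLinearLeft_of_unitary hf), hvv, smul_zero]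

theorem rt_ins {i : ι} {v : W1} (hvv : f v v = 0) (γ : F) (y : W1) (u : ({k // k ≠ i} → Fin m) → F) :
    (rt f i v γ : Big) *ᵥ ins i y u = ins i y u + (γ * f y v) • ins i v u := by
  rw [rt, one_mulVec_ins, tv_mulVec (orth hf hvv γ), smul_dotProduct, formVec_dot (isLinearLeft_of_unitary hf),
    ins_add_left, ins_smul, smul_eq_mul]

theorem rt_apply {i : ι} {v : W1} (hvv : f v v = 0) (γ : F) (z : VV) :
    (rt f i v γ : Big) *ᵥ z = z + γ • ins i v (ctr i (formVec f v) z) := by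
  conv_lhs => rw [← sum_ins i z, mulVec_sum]
  rw [ctr_hv_sum]
  conv_rhs => arg 1; rw [← sum_ins i z]
  simp only [rt_ins hf hvv, map_sum, map_smul, Finset.smul_sum, Finset.sum_add_distrib, smul_smul]

theorem rt_sub_mem {i : ι} {v : W1} (hvv : f v v = 0) (γ : F) (z : VV) :
    (rt f i v γ : Big) *ᵥ z - z ∈ block i v := by
  rw [rt_apply hf hvv, add_sub_cancel_left]
  exact Submodule.smul_mem _ _ (LinearMap.mem_range_self _ _)

theorem rt_zero (i : ι) (v : W1) : rt (ι := ι) f i v 0 = 1 := by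
  have _ := hf
  rw [rt, zero_smul, tv_zero_right, Alg.oneGL_one]

theorem rt_mul {i : ι} {v : W1} (hvv : f v v = 0) (γ δ : F) : rt f i v γ * rt f i v δ = rt f i v (γ + δ) := by
  rw [rt, rt, rt, TensorPowerMax.Fixed.oneGL_mul, tv_mul_center (orth hf hvv γ) (orth hf hvv δ), add_smul]

theorem rt_mem {M : Subgroup GG} (S : Setting σ f M) (i : ι) {v : W1} (hvv : f v v = 0) {γ : F}
    (hγ : γ + σ γ = 0) : rt f i v γ ∈ M := by
  obtain ⟨g, hg, hgz⟩ := exists_tvec hf hvv hγ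
  rw [rt, show tv v (γ • formVec f v) = g from gl_ext fun z => by
    rw [tv_mulVec (orth hf hvv γ), hgz, smul_dotProduct, formVec_dot (isLinearLeft_of_unitary hf), smul_eq_mul]]
  exact S.one i g hg

theorem rt_pow {i : ι} {v : W1} (hvv : f v v = 0) (γ : F) (n : ℕ) : rt f i v γ ^ n = rt f i v ((n : F) * γ) := by
  induction n with
  | zero => rw [pow_zero, Nat.cast_zero, zero_mul, rt_zero hf]
  | succ n ih => rw [pow_succ, ih, rt_mul hf hvv, Nat.cast_succ, add_mul, one_mul]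

/-- The root group. -/
def Rt (i : ι) {v : W1} (hvv : f v v = 0) : Subgroup GG where
  carrier := {x | ∃ γ, γ + σ γ = 0 ∧ x = rt f i v γ}
  one_mem' := ⟨0, by rw [map_zero, add_zero], (rt_zero hf i v).symm⟩
  mul_mem' := by
    rintro _ _ ⟨γ, h, rfl⟩ ⟨δ, h', rfl⟩
    exact ⟨γ + δ, by rw [map_add]; linear_combination h + h', rt_mul hf hvv γ δ⟩
  inv_mem' := by
    rintro _ ⟨γ, h, rfl⟩
    exact ⟨-γ, by rw [map_neg]; linear_combination -h,
      inv_eq_of_mul_eq_one_right (by rw [rt_mul hf hvv, add_neg_cancel, rt_zero hf])⟩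

theorem tw_map_block (a : ι → GL (Fin m) F) (π : Equiv.Perm ι) {i : ι} {v : W1} (hv : v ≠ 0) :
    (block i v).map (Matrix.mulVecLin ((ptGL a * pmGL π : GG) : Big)) = block (π i) ((a (π i) : A1) *ᵥ v) := by
  have _ := hf
  refine Submodule.eq_of_le_of_finrank_le ?_ ?_
  · rintro _ ⟨z, hz, rfl⟩
    exact TensorPowerMax.Roots.tw_mulVec_block a π hv hz
  · rw [finrank_block (gl_ne_zero _ hv), ← finrank_block (j := i) hv]
    exact le_of_eq (LinearEquiv.finrank_eq (Submodule.equivMapOfInjective _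
      (fun x y e => gl_mulVec_injective _ e) (block i v)))

/-- A moved isotropic block inside a block. -/
theorem iso_of_map [Finite F] {g : GG} (hg : g ∈ isoG (Bf σ f)) {i j : ι} {v w : W1} (hv : v ≠ 0) (hvv : f v v = 0)
    (hw : w ≠ 0) (h : ∀ z ∈ block i v, (g : Big) *ᵥ z ∈ block j w) : f w w = 0 := by
  have hinj : Function.Injective (Matrix.mulVecLin (g : Big)) := fun x y e => gl_mulVec_injective g e
  have heq : (block i v).map (Matrix.mulVecLin (g : Big)) = block j w := by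
    refine Submodule.eq_of_le_of_finrank_le (fun z hz => ?_) ?_
    · obtain ⟨y, hy, rfl⟩ := hz; exact h y hy
    · rw [finrank_block hw, ← finrank_block (j := i) hv]
      exact le_of_eq (LinearEquiv.finrank_eq (Submodule.equivMapOfInjective _ hinj _))
  obtain ⟨u, -, hu⟩ := exists_anisotropic (Bf_unitary (ι := {k // k ≠ j}) hf)
    (![] : Fin 0 → ({k // k ≠ j} → Fin m) → F)
    (Fintype.card_pos_iff.2 ⟨fun _ => ⟨0, Nat.pos_of_ne_zero fun e => hw (funext fun a => (e ▸ a).elim0)⟩⟩)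
  obtain ⟨_, ⟨p, rfl⟩, hp⟩ := (heq ▸ LinearMap.mem_range_self (ins j w) u :
    ins j w u ∈ (block i v).map (Matrix.mulVecLin (g : Big)))
  have h1 := Bf_ins_ins hf j w w u u
  rw [← hp] at h1
  change Bf σ f ((g : Big) *ᵥ ins i v p) ((g : Big) *ᵥ ins i v p) = _ at h1
  rw [iso_apply hg, Bf_ins_ins hf, hvv, zero_mul] at h1
  exact (mul_eq_zero.1 h1.symm).resolve_right hu

omit hf

/-- An involution moving little fixes the factors, in dimension at least four. -/
theorem perm_one (hm : 4 ≤ m) {a : ι → GL (Fin m) F} {π : Equiv.Perm ι}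
    (hsq : ptGL a * pmGL π * (ptGL a * pmGL π) = 1) {U : Submodule F ((ι → Fin m) → F)}
    (hU : Module.finrank F U ≤ m ^ (Fintype.card ι - 1))
    (h : ∀ z, ((ptGL a * pmGL π : GG) : Big) *ᵥ z - z ∈ U) : π = 1 := by
  classical
  rw [tw_mul] at hsq
  obtain ⟨hσ2, hscal⟩ := TensorPowerMax.Roots.tw_eq_one (by omega) hsq
  by_contra hne
  have hinv : ∀ x, π (π x) = x := fun x => by rw [← Equiv.Perm.mul_apply, hσ2, Equiv.Perm.one_apply]
  have hsymm : ∀ x, π.symm x = π x := fun x => by rw [Equiv.symm_apply_eq, hinv]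
  obtain ⟨i, hi⟩ : ∃ i, π i ≠ i := by
    by_contra hc
    push Not at hc
    exact hne (Equiv.ext hc)
  let b : ι → GL (Fin m) F := fun x => if x = π i then (a i)⁻¹ else 1
  set T : GG := ptGL b
  set a' : ι → GL (Fin m) F := b⁻¹ * (a * b ∘ π.symm) with ha'
  have hx' : T⁻¹ * (ptGL a * pmGL π) * T = ptGL a' * pmGL π := by
    rw [mul_assoc, mul_assoc, pmGL_mul_ptGL, ← map_inv, ← mul_assoc (ptGL a), ← map_mul, ← mul_assoc, ← map_mul]
  have hQ : ∀ x, x = i ∨ x = π i → ∃ c : F, (a' x : A1) = c • 1 := by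
    rintro x (rfl | rfl)
    · exact ⟨1, by simp [a', b, hsymm, Ne.symm hi]⟩
    · obtain ⟨d, hd⟩ := hscal i
      refine ⟨d, ?_⟩
      rw [Pi.mul_apply, Function.comp_apply, hsymm] at hd
      rw [← hd]
      simp [a', b, hsymm, hinv, Ne.symm hi]
  let R : Finset (ι → Fin m) := Finset.univ.filter fun y => y i < y (π i)
  have hR : ∀ {y}, y ∈ R ↔ y i < y (π i) := by simp [R]
  have hsupp : ∀ y ∈ R, ∀ z ∈ R, (((ptGL a' * pmGL π : GG) : Big) *ᵥ Pi.single y 1) z = 0 := by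
    intro y hy z hz
    rw [← pv_single, tw_mulVec]
    by_contra hne
    have hne' : ∀ x, ((a' x : A1) *ᵥ Pi.single (y (π.symm x)) 1) (z x) ≠ 0 := fun x e =>
      hne (Finset.prod_eq_zero (Finset.mem_univ x) e)
    have hval : ∀ x, x = i ∨ x = π i → z x = y (π x) := by
      intro x hx
      obtain ⟨c, hc⟩ := hQ x hx
      have := hne' x
      rw [hc, hsymm, smul_mulVec, one_mulVec] at this
      by_contra hzy
      simp [hzy] at this
    rw [hR] at hy hz
    rw [hval i (Or.inl rfl), hval (π i) (Or.inr rfl), hinv] at hz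
    exact lt_asymm hy hz
  let ext : (R → F) →ₗ[F] ((ι → Fin m) → F) :=
    { toFun := fun c y => if h : y ∈ R then c ⟨y, h⟩ else 0
      map_add' := fun x y => by funext z; by_cases hz : z ∈ R <;> simp [hz]
      map_smul' := fun c x => by funext z; by_cases hz : z ∈ R <;> simp [hz] }
  let L : (R → F) →ₗ[F] ((ι → Fin m) → F) :=
    (Matrix.mulVecLin ((T : Big))).comp
      ((Matrix.mulVecLin ((((ptGL a' * pmGL π : GG)) : Big) - 1)).comp ext)
  have hinj : Function.Injective L := by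
    rw [injective_iff_map_eq_zero]
    intro c hc
    have h3 : (((ptGL a' * pmGL π : GG) : Big) - 1) *ᵥ ext c = 0 :=
      gl_mulVec_injective T ((show (T : Big) *ᵥ _ = 0 from hc).trans (mulVec_zero _).symm)
    funext z
    have h4 := congrFun h3 z.1
    simp only [ext, LinearMap.coe_mk, AddHom.coe_mk, Matrix.mulVec, dotProduct, Matrix.sub_apply, Pi.zero_apply] at h4
    have hG : ∀ y ∈ R, ((ptGL a' * pmGL π : GG) : Big) z.1 y = 0 := fun y hy => by
      have := hsupp y hy z.1 z.2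
      rwa [mulVec_single_one, Matrix.col_apply] at this
    rw [Finset.sum_eq_single z.1 (fun y _ hy => by
      by_cases hyR : y ∈ R
      · rw [hG y hyR, Matrix.one_apply_ne hy.symm, sub_zero, zero_mul]
      · rw [dif_neg hyR, mul_zero])
      (by simp), hG z.1 z.2, dif_pos z.2, Matrix.one_apply_eq, zero_sub, neg_one_mul, neg_eq_zero] at h4
    exact h4
  have hle : LinearMap.range L ≤ U := by
    rintro _ ⟨c, rfl⟩
    show (T : Big) *ᵥ ((((ptGL a' * pmGL π : GG) : Big) - 1) *ᵥ ext c) ∈ U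
    rw [sub_mulVec, one_mulVec, mulVec_sub, ← gl_mul_mulVec, show T * (ptGL a' * pmGL π) = ptGL a * pmGL π * T by
      rw [← hx', ← mul_assoc, ← mul_assoc, mul_inv_cancel, one_mul], gl_mul_mulVec]
    exact h _
  have hcardR : R.card ≤ m ^ (Fintype.card ι - 1) := by
    have := Submodule.finrank_mono hle
    rw [LinearMap.finrank_range_of_inj hinj, Module.finrank_fintype_fun_eq_card, Fintype.card_coe] at this
    omega
  set Fix : Finset (ι → Fin m) := Finset.univ.filter fun y => y i = y (π i)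
  have hcover : (Finset.univ : Finset (ι → Fin m)) ⊆ R ∪ R.image (fun y => y ∘ π) ∪ Fix := by
    intro y _
    rcases lt_trichotomy (y i) (y (π i)) with hlt | heq | hgt
    · exact Finset.mem_union_left _ (Finset.mem_union_left _ (hR.2 hlt))
    · exact Finset.mem_union_right _ (Finset.mem_filter.2 ⟨Finset.mem_univ _, heq⟩)
    · refine Finset.mem_union_left _ (Finset.mem_union_right _ (Finset.mem_image.2 ⟨y ∘ π, hR.2 ?_, ?_⟩))
      · simpa [hinv] using hgt
      · funext x; simp [hinv]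
  have hFix : Fix.card ≤ m ^ (Fintype.card ι - 1) := by
    rw [← TensorPowerMax.Roots.card_rest (m := m) (π i)]
    exact Finset.card_le_card_of_injOn (t := (Finset.univ : Finset ({x // x ≠ π i} → Fin m))) (fun y x => y x.1)
      (fun _ _ => Finset.mem_univ _) fun y hy z hz he => by
        have hy' := (Finset.mem_filter.1 hy).2
        have hz' := (Finset.mem_filter.1 hz).2
        funext x
        by_cases hxi : x = π i
        · rw [hxi, ← hy', ← hz']; exact congrFun he ⟨i, Ne.symm hi⟩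
        exact congrFun he ⟨x, hxi⟩
  have hN := Finset.card_le_card hcover
  rw [Finset.card_univ, Fintype.card_fun, Fintype.card_fin] at hN
  have h3 := Finset.card_union_le (R ∪ R.image fun y => y ∘ π) Fix
  have h4 := Finset.card_union_le R (R.image fun y => y ∘ π)
  have h5 := Finset.card_image_le (s := R) (f := fun y => y ∘ π)
  obtain ⟨t, ht⟩ : ∃ t, Fintype.card ι = t + 1 :=
    ⟨Fintype.card ι - 1, by have := Fintype.card_pos_iff.2 ⟨i⟩; omega⟩
  rw [ht, Nat.add_sub_cancel] at hcardR hFix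
  rw [ht, pow_succ] at hN
  have h0 : 0 < m ^ t := Nat.pow_pos (by omega)
  have : m ^ t * 4 ≤ m ^ t * m := Nat.mul_le_mul_left _ hm
  omega

section

variable [Finite F] {M : Subgroup (GL (ι → Fin m) F)} (S : Setting σ f M) (hG : NoRad f M)
  (hIH : Lower σ f ι)
include S hG hIH

/-- An element carrying an isotropic block into a block. -/
theorem mem_of_block' {g : GG} (hg : g ∈ M) {i j : ι} {v w : W1} (hv : v ≠ 0) (hvv : f v v = 0) (hw : w ≠ 0)
    (h : ∀ z ∈ block i v, (g : Big) *ᵥ z ∈ block j w) : g ∈ stab ι m F :=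
  mem_of_block S hG hIH hg hv hvv hw (iso_of_map S.u (S.iso hg) hv hvv hw h) h

/-- A root group is carried into the stabiliser only from inside. -/
theorem mem_of_conj {g : GG} (hg : g ∈ M) {i : ι} {v : W1} (hv : v ≠ 0) (hvv : f v v = 0)
    (h : ∀ γ, γ + σ γ = 0 → g * rt f i v γ * g⁻¹ ∈ stab ι m F) : g ∈ stab ι m F := by
  classical
  have hf := S.u
  have hm := S.hm
  set U := (block i v).map (Matrix.mulVecLin (g : Big))
  have hU : Module.finrank F U ≤ m ^ (Fintype.card ι - 1) := by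
    rw [← finrank_block (j := i) hv]; exact Submodule.finrank_map_le _ _
  have hX : ∀ γ z, ((g * rt f i v γ * g⁻¹ : GG) : Big) *ᵥ z - z =
      (g : Big) *ᵥ (γ • ins i v (ctr i (formVec f v) (((g⁻¹ : GG) : Big) *ᵥ z))) := by
    intro γ z
    rw [gl_mul_mulVec, gl_mul_mulVec, rt_apply hf hvv, mulVec_add, gl_mulVec_inv, add_sub_cancel_left]
  have hXU : ∀ γ z, ((g * rt f i v γ * g⁻¹ : GG) : Big) *ᵥ z - z ∈ U := fun γ z =>
    ⟨_, Submodule.smul_mem _ γ (LinearMap.mem_range_self _ _), (hX γ z).symm⟩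
  have hbase : ∀ γ, γ ≠ 0 → ∀ a : ι → GL (Fin m) F, g * rt f i v γ * g⁻¹ = ptGL a * pmGL (1 : Equiv.Perm ι) →
      g ∈ stab ι m F := by
    intro γ hγ a ha
    rw [map_one, mul_one] at ha
    obtain ⟨j, w, θ, hj⟩ := TensorPowerMax.Roots.base_root hm (by have := S.hι; omega) (a := a) hU fun z => by
      rw [← coe_ptGL, ← ha]; exact hXU γ z
    obtain ⟨y, -, -, hyv⟩ := exists_partner hf hv hvv
    have hgz : ∀ u, (g : Big) *ᵥ ins i v u = ins j w (γ⁻¹ • ctr j θ ((g : Big) *ᵥ ins i y u)) := by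
      intro u
      have h1 := hX γ ((g : Big) *ᵥ ins i y u)
      rw [ha, coe_ptGL, hj, add_mulVec, one_mulVec, add_sub_cancel_left, oneM_mulVec, gl_inv_mulVec, ctr_hv_ins hf,
        hyv, one_smul, mulVec_smul] at h1
      rw [map_smul, h1, inv_smul_smul₀ hγ]
    have hw : w ≠ 0 := by
      intro e
      have h0 := hgz (fun _ => 1)
      rw [e, ins_zero_left, ← mulVec_zero (g : Big)] at h0
      have h1 := ins_injective hv ((gl_mulVec_injective g h0).trans (map_zero _).symm)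
      exact one_ne_zero (congrFun h1 fun _ => ⟨0, by omega⟩)
    exact mem_of_block' S hG hIH hg hv hvv hw fun z hz => by
      obtain ⟨u, rfl⟩ := hz
      rw [hgz]; exact LinearMap.mem_range_self _ _
  have hsq : ∀ γ z, ((g * rt f i v γ * g⁻¹ : GG) : Big) *ᵥ (((g * rt f i v γ * g⁻¹ : GG) : Big) *ᵥ z) + z =
      (2 : F) • (((g * rt f i v γ * g⁻¹ : GG) : Big) *ᵥ z) := by
    intro γ z
    rw [← gl_mul_mulVec, show g * rt f i v γ * g⁻¹ * (g * rt f i v γ * g⁻¹) =
      g * (rt f i v γ * rt f i v γ) * g⁻¹ by group, rt_mul hf hvv]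
    simp only [gl_mul_mulVec, rt_apply hf hvv, mulVec_add, mulVec_smul, gl_mulVec_inv]
    module
  obtain ⟨e, he, he'⟩ := exists_skew_scalar hf
  by_cases h2 : (2 : F) = 0
  swap
  · obtain ⟨a, π, hx⟩ := h e he'
    have hπ := TensorPowerMax.Roots.perm_two_ne hm h2 (a := a) (σ := π) (by rw [← hx]; exact hsq e)
    exact hbase e he a (by rw [hx, hπ])
  have hinvol : ∀ γ (a : ι → GL (Fin m) F) (π : Equiv.Perm ι), g * rt f i v γ * g⁻¹ = ptGL a * pmGL π →
      ptGL a * pmGL π * (ptGL a * pmGL π) = 1 := by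
    intro γ a π hx
    rw [← hx, show g * rt f i v γ * g⁻¹ * (g * rt f i v γ * g⁻¹) = g * (rt f i v γ * rt f i v γ) * g⁻¹ by group,
      rt_mul hf hvv, ← two_mul, h2, zero_mul, rt_zero hf, mul_one, mul_inv_cancel]
  by_cases h4 : 4 ≤ m
  · obtain ⟨a, π, hx⟩ := h e he'
    have hπ := perm_one h4 (hinvol e a π hx) hU fun z => by rw [← hx]; exact hXU e z
    exact hbase e he a (by rw [hx, hπ])
  obtain ⟨r, hr, hr0, hr1⟩ := S.hex.resolve_left h4
  let γ : Fin 3 → F := ![e, r * e, (1 + r) * e]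
  have hγ : ∀ k, γ k + σ (γ k) = 0 := by
    intro k; fin_cases k
    · exact he'
    · show r * e + σ (r * e) = 0
      rw [map_mul, hr]; linear_combination r * he'
    · show (1 + r) * e + σ ((1 + r) * e) = 0
      rw [map_mul, map_add, map_one, hr]; linear_combination (1 + r) * he'
  have hγ0 : ∀ k, γ k ≠ 0 := by
    intro k; fin_cases k
    · exact he
    · exact mul_ne_zero hr0 he
    · exact mul_ne_zero (fun e0 => hr1 (by linear_combination e0 - h2)) he
  choose a π hx using fun k => h (γ k) (hγ k)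
  by_contra hcon
  have hs : ∀ k, Equiv.Perm.sign (π k) = -1 := fun k =>
    (TensorPowerMax.Roots.perm_swap hm (hinvol _ _ _ (hx k)) hU fun z => by rw [← hx k]; exact hXU _ z).resolve_left
      fun e1 => hcon (hbase (γ k) (hγ0 k) (a k) (by rw [hx k, e1]))
  have h3 : ptGL (a 0) * pmGL (π 0) * (ptGL (a 1) * pmGL (π 1)) = ptGL (a 2) * pmGL (π 2) := by
    rw [← hx 0, ← hx 1, ← hx 2, show γ 2 = γ 0 + γ 1 by
      show (1 + r) * e = e + r * e; ring, ← rt_mul hf hvv]
    group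
  rw [tw_mul] at h3
  have h5 : π 0 * π 1 = π 2 := by
    have h6 : ptGL ((a 2)⁻¹ * (a 0 * a 1 ∘ (π 0).symm)) * pmGL (π 0 * π 1) = pmGL (π 2) := by
      rw [map_mul ptGL, map_inv, mul_assoc, h3, inv_mul_cancel_left]
    have h7 : ptGL ((a 2)⁻¹ * (a 0 * a 1 ∘ (π 0).symm)) * pmGL (π 0 * π 1 * (π 2)⁻¹) = 1 := by
      rw [map_mul pmGL, ← mul_assoc, h6, map_inv, mul_inv_cancel]
    exact mul_inv_eq_one.1 (TensorPowerMax.Roots.tw_eq_one hm h7).1
  have h8 := congrArg Equiv.Perm.sign h5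
  rw [map_mul, hs 0, hs 1, hs 2] at h8
  exact absurd h8 (by decide)

/-- A moved subspace fixed by a root group meets the orthogonal of a block inside its conjugate by the
stabiliser. -/
theorem key {g : GG} (hg : g ∈ M) {i : ι} {v : W1} (hv : v ≠ 0) (hvv : f v v = 0)
    {Y : Submodule F ((ι → Fin m) → F)} (hY : Y ≤ perp f i v) {j : ι} {w : W1} (hw : w ≠ 0) (hww : f w w = 0) :
    ∃ x ∈ M, x ∈ stab ι m F ∧
      Y.map (Matrix.mulVecLin (g : Big)) ⊓ perp f j w ≤ Y.map (Matrix.mulVecLin (x : Big)) := by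
  classical
  have hf := S.u
  set Z := Y.map (Matrix.mulVecLin (g : Big)) ⊓ perp f j w
  let N : Subgroup GG :=
    { carrier := {x | x ∈ M ∧ ∀ z ∈ Z, (x : Big) *ᵥ z = z}
      one_mem' := ⟨M.one_mem, fun z _ => by rw [Units.val_one, one_mulVec]⟩
      mul_mem' := fun {x y} hx hy => ⟨M.mul_mem hx.1 hy.1, fun z hz => by
        rw [gl_mul_mulVec, hy.2 z hz, hx.2 z hz]⟩
      inv_mem' := fun {x} hx => ⟨M.inv_mem hx.1, fun z hz => by
        conv_lhs => rw [← hx.2 z hz, gl_inv_mulVec]⟩ }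
  have hNM : N ≤ M := fun x hx => hx.1
  let A : Subgroup GG := Rt hf j hww
  have hAN : A ≤ N := by
    rintro _ ⟨γ, hγ, rfl⟩
    refine ⟨rt_mem hf S j hww hγ, fun z hz => ?_⟩
    rw [rt_apply hf hww, LinearMap.mem_ker.1 hz.2, map_zero, smul_zero, add_zero]
  let B : Subgroup GG := (Rt hf i hvv).map (MulAut.conj g).toMonoidHom
  have hBN : B ≤ N := by
    rintro _ ⟨_, ⟨γ, hγ, rfl⟩, rfl⟩
    refine ⟨M.mul_mem (M.mul_mem hg (rt_mem hf S i hvv hγ)) (M.inv_mem hg), fun z hz => ?_⟩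
    obtain ⟨y, hy, hyz⟩ := hz.1
    subst hyz
    show ((g * rt f i v γ * g⁻¹ : GG) : Big) *ᵥ ((g : Big) *ᵥ y) = (g : Big) *ᵥ y
    rw [gl_mul_mulVec, gl_mul_mulVec, gl_inv_mulVec, rt_apply hf hvv, LinearMap.mem_ker.1 (hY hy), map_zero,
      smul_zero, add_zero]
  obtain ⟨p, hp⟩ := CharP.exists F
  haveI hpp : Fact p.Prime := ⟨(CharP.char_is_prime_or_zero F p).resolve_right (CharP.char_ne_zero_of_finite F p)⟩
  have hpC : ∀ (l : ι) (u : W1), f u u = 0 → ∀ γ, rt f l u γ ^ p = 1 := fun l u hu γ => by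
    rw [rt_pow hf hu, CharP.cast_eq_zero, zero_mul, rt_zero hf]
  have hAp : ∀ x ∈ A, x ^ p = 1 := by rintro _ ⟨γ, -, rfl⟩; exact hpC _ _ hww _
  have hBp : ∀ x ∈ B, x ^ p = 1 := by
    rintro _ ⟨_, ⟨γ, -, rfl⟩, rfl⟩
    rw [← map_pow, hpC _ _ hvv, map_one]
  have hPG : ∀ H : Subgroup GG, (∀ x ∈ H, x ^ p = 1) → ∀ K : Subgroup GG, IsPGroup p (H.subgroupOf K) :=
    fun H hH K => fun x => ⟨1, Subtype.ext (Subtype.ext (by
      rw [pow_one, Subgroup.coe_pow, Subgroup.coe_pow]; exact hH _ x.2))⟩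
  obtain ⟨P, hP⟩ := (hPG _ hAp N).exists_le_sylow
  obtain ⟨Q, hQ⟩ := (hPG _ hBp N).exists_le_sylow
  obtain ⟨n, hn⟩ := MulAction.exists_smul_eq N Q P
  -- the action on the cosets of the stabiliser part
  let T : Subgroup M := (stab ι m F).subgroupOf M
  have hfix : ∀ (a c : M), a • (c : M ⧸ T) = (c : M ⧸ T) ↔ (c : GG)⁻¹ * (a : GG)⁻¹ * (c : GG) ∈ stab ι m F := by
    intro a c
    show ((a * c : M) : M ⧸ T) = _ ↔ _
    rw [QuotientGroup.eq, Subgroup.mem_subgroupOf]
    simp [mul_assoc]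
  let PM : Subgroup M := (P.1.map N.subtype).subgroupOf M
  have hPMp : IsPGroup p PM := by
    intro x
    obtain ⟨⟨y, hy⟩⟩ : Nonempty {y : N // y ∈ P.1 ∧ (y : GG) = ((x : M) : GG)} := by
      obtain ⟨y, hy, hyx⟩ := x.2
      exact ⟨⟨y, hy, hyx⟩⟩
    obtain ⟨k, hk⟩ := P.isPGroup' ⟨y, hy.1⟩
    refine ⟨k, Subtype.ext (Subtype.ext ?_)⟩
    have h1 := congrArg (fun z : P.1 => ((z : N) : GG)) hk
    simp only [Subgroup.coe_pow, Subgroup.coe_one] at h1 ⊢
    rw [← hy.2, h1]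
  let AM : Subgroup M := A.subgroupOf M
  have hAMfix : ∀ c : M, (c : M ⧸ T) ∈ MulAction.fixedPoints AM (M ⧸ T) → (c : GG) ∈ stab ι m F := by
    intro c hc
    refine inv_mem_iff.1 (mem_of_conj S hG hIH (M.inv_mem c.2) hw hww (i := j) fun γ hγ => ?_)
    rw [inv_inv]
    have hx : rt f j w γ ∈ A := ⟨γ, hγ, rfl⟩
    have := (hfix ⟨(rt f j w γ)⁻¹, inv_mem (hNM (hAN hx))⟩ c).1
      (hc ⟨⟨(rt f j w γ)⁻¹, inv_mem (hNM (hAN hx))⟩, Subgroup.mem_subgroupOf.2 (inv_mem hx)⟩)
    simpa using this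
  haveI : Finite (M ⧸ T) := inferInstance
  have hAfixed : MulAction.fixedPoints AM (M ⧸ T) = {((1 : M) : M ⧸ T)} := by
    refine Set.eq_singleton_iff_unique_mem.2 ⟨fun x => ?_, fun q hq => ?_⟩
    · refine (hfix x.1 1).2 ?_
      obtain ⟨γ, hγ, hxγ⟩ := (x.2 : ((x : M) : GG) ∈ A)
      rw [OneMemClass.coe_one, inv_one, one_mul, mul_one, inv_mem_iff]
      exact Set.mem_of_eq_of_mem hxγ (oneGL_mem_stab _ _)
    · induction q using QuotientGroup.induction_on with
      | _ c => exact QuotientGroup.eq.2 (Subgroup.mem_subgroupOf.2 (by simpa using inv_mem (hAMfix c hq)))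
  have hAMp : IsPGroup p AM := hPG _ hAp M
  have hcard := hAMp.card_modEq_card_fixedPoints (M ⧸ T)
  rw [hAfixed, Nat.card_coe_set_eq, Set.ncard_singleton] at hcard
  have hcard2 := (hPMp.card_modEq_card_fixedPoints (M ⧸ T)).symm.trans hcard
  have hne : (MulAction.fixedPoints PM (M ⧸ T)).Nonempty := by
    rw [← Set.nonempty_coe_sort]
    refine (Nat.card_pos_iff.1 ?_).1
    rw [Nat.pos_iff_ne_zero]
    intro h0
    rw [h0] at hcard2
    have hp2 := hpp.out.one_lt
    have := hcard2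
    rw [Nat.ModEq, Nat.zero_mod, Nat.one_mod_eq_one.2 (by omega)] at this
    exact zero_ne_one this
  obtain ⟨q, hq⟩ := hne
  induction q using QuotientGroup.induction_on with
  | _ c =>
    have hmemP : ∀ y : N, y ∈ P.1 → (c : GG)⁻¹ * (y : GG)⁻¹ * (c : GG) ∈ stab ι m F := fun y hy =>
      (hfix ⟨y, hNM y.2⟩ c).1 (hq ⟨⟨y, hNM y.2⟩, Subgroup.mem_subgroupOf.2 ⟨y, hy, rfl⟩⟩)
    have hc : (c : GG) ∈ stab ι m F := hAMfix c fun x => by
      obtain ⟨x, hx⟩ := x
      exact hq ⟨x, Subgroup.mem_subgroupOf.2 ⟨⟨x, hAN hx⟩, hP (Subgroup.mem_subgroupOf.2 hx), rfl⟩⟩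
    have hh : ((n : GG) * g)⁻¹ * (c : GG) ∈ stab ι m F := by
      refine inv_mem_iff.1 (mem_of_conj S hG hIH (M.inv_mem (M.mul_mem (M.inv_mem (M.mul_mem (hNM n.2) hg)) c.2))
        hv hvv (i := i) fun γ hγ => ?_)
      have hxB : g * (rt f i v γ)⁻¹ * g⁻¹ ∈ B := ⟨(rt f i v γ)⁻¹, inv_mem ⟨γ, hγ, rfl⟩, rfl⟩
      have h1 : n * ⟨g * (rt f i v γ)⁻¹ * g⁻¹, hBN hxB⟩ * n⁻¹ ∈ P.1 := by
        rw [← hn]
        exact Subgroup.smul_mem_pointwise_smul _ (MulAut.conj n) _ (hQ (Subgroup.mem_subgroupOf.2 hxB))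
      have h2 := hmemP _ h1
      convert h2 using 1
      simp only [Subgroup.coe_mul, Subgroup.coe_inv]
      group
    refine ⟨(n : GG) * g, M.mul_mem (hNM n.2) hg, by simpa [mul_assoc] using mul_mem hc (inv_mem hh), fun z hz => ?_⟩
    obtain ⟨u, hu, huz⟩ := hz.1
    refine ⟨u, hu, ?_⟩
    show ((n : GG) * g : GG).val *ᵥ u = z
    rw [gl_mul_mulVec, show (g : Big) *ᵥ u = z from huz, n.2.2 _ hz]

/-- A moved block orthogonal to a block lies in the stabiliser. -/
theorem mem_of_perp {g : GG} (hg : g ∈ M) {i j : ι} {v w : W1} (hv : v ≠ 0) (hvv : f v v = 0) (hw : w ≠ 0)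
    (hww : f w w = 0) (h : ∀ z ∈ block i v, (g : Big) *ᵥ z ∈ perp f j w) : g ∈ stab ι m F := by
  have hf := S.u
  obtain ⟨x, -, ⟨a, π, rfl⟩, hle⟩ := key S hG hIH hg hv hvv (Y := block i v)
    (fun z hz => LinearMap.mem_ker.2 (block_perp hf hvv hz)) (j := j) hw hww
  refine mem_of_block' S hG hIH hg (i := i) hv hvv (j := π i) (w := (a (π i) : A1) *ᵥ v) (gl_ne_zero _ hv) fun z hz => ?_
  rw [← tw_map_block hf a π hv]
  exact hle ⟨⟨z, hz, rfl⟩, h z hz⟩

end

end Cfsg.Agent.Lib.UnitaryPowerMax.Fixed
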