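import Cfsg.Agent.Lib.UnitaryPowerMax.Full

/-!
Without exceptional central elements an element carrying an isotropic block onto another lies in the
stabiliser, given the dichotomy in lower degree.
-/

set_option autoImplicit false
set_option linter.unusedSectionVars false

namespace Cfsg.Agent.Lib.UnitaryPowerMax.BlockTo

open Matrix
open Cfsg.Agent.Lib.Subspaces.Transvection Cfsg.Agent.Lib.Subspaces.FormVec
  Cfsg.Agent.Lib.Subspaces.UnitaryForm Cfsg.Agent.Lib.TensorPowerMax.Basic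
  Cfsg.Agent.Lib.UnitaryPowerMax.Form Cfsg.Agent.Lib.UnitaryPowerMax.Rad

variable {ι : Type} [Fintype ι] [DecidableEq ι] {m : ℕ} {F : Type*} [Field F] {σ : F ≃+* F}
  {f : (Fin m → F) → (Fin m → F) → F}

local notation "A1" => Matrix (Fin m) (Fin m) F
local notation "W1" => Fin m → F
local notation "VV" => (ι → Fin m) → F
local notation "Big" => Matrix (ι → Fin m) (ι → Fin m) F
local notation "GG" => GL (ι → Fin m) F

/-- The dichotomy in lower degree. -/
def Lower (σ : F ≃+* F) (f : (Fin m → F) → (Fin m → F) → F) (ι : Type) [Fintype ι] : Prop :=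
  ∀ (κ : Type) [Fintype κ] [DecidableEq κ], Fintype.card κ < Fintype.card ι →
    ∀ M : Subgroup (GL (κ → Fin m) F), Setting σ f M →
      M ≤ stab κ m F ∨ ∀ x, Bf σ f x x = 0 → Full.Ctr σ f M x

/-! ### products of one factor and the rest -/

/-- An element acting by `R` on the rest and by `b` on the factor `j`. -/
def kj (j : ι) (R : GL ({i // i ≠ j} → Fin m) F) (b : GL (Fin m) F) : GL (ι → Fin m) F :=
  oneGL j b * Alg.up j R

theorem spU_kj (j : ι) (R : GL ({i // i ≠ j} → Fin m) F) (b : GL (Fin m) F) :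
    spU j (kj j R b) = TensorPowerMax.Side.kronGL R b := by
  rw [kj, map_mul, TensorPowerMax.Split.spU_oneGL_self,
    show spU j (Alg.up j R) = TensorPowerMax.Side.kronGL R 1 from (spU j).apply_symm_apply _,
    TensorPowerMax.BlockTo.kronGL_mul, one_mul, mul_one]

theorem kj_mul (j : ι) (R R' : GL ({i // i ≠ j} → Fin m) F) (b b' : GL (Fin m) F) :
    kj j R b * kj j R' b' = kj j (R * R') (b * b') :=
  (spU j).injective (by rw [map_mul, spU_kj, spU_kj, spU_kj, TensorPowerMax.BlockTo.kronGL_mul])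

theorem kj_one (j : ι) : kj (ι := ι) j (1 : GL ({i // i ≠ j} → Fin m) F) (1 : GL (Fin m) F) = 1 :=
  (spU j).injective (by rw [spU_kj, map_one, TensorPowerMax.BlockTo.kronGL_one])

theorem kj_inv (j : ι) (R : GL ({i // i ≠ j} → Fin m) F) (b : GL (Fin m) F) :
    (kj j R b)⁻¹ = kj j R⁻¹ b⁻¹ :=
  inv_eq_of_mul_eq_one_right (by rw [kj_mul, mul_inv_cancel, mul_inv_cancel, kj_one])

theorem kj_self (j : ι) (b : GL (Fin m) F) : kj (ι := ι) j 1 b = oneGL j b := by
  rw [kj, map_one, mul_one]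

theorem kj_ne {j : ι} (l : {i // i ≠ j}) (b : GL (Fin m) F) : kj j (oneGL l b) 1 = oneGL l.1 b :=
  (spU j).injective (by rw [spU_kj, TensorPowerMax.Split.spU_oneGL_ne l.2])

theorem kj_tw {j : ι} (a : ι → GL (Fin m) F) (π : Equiv.Perm ι) (h : π j = j) :
    ptGL a * pmGL π =
      kj j (ptGL (fun i : {i // i ≠ j} => a i.1) * pmGL (TensorPowerMax.Split.restrict π h)) (a j) :=
  (spU j).injective (by rw [spU_kj, TensorPowerMax.Split.spU_tw a π h])

theorem kj_ins (j : ι) (R : GL ({i // i ≠ j} → Fin m) F) (b : GL (Fin m) F) (v : W1)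
    (u : ({i // i ≠ j} → Fin m) → F) :
    (kj j R b : GG).val *ᵥ ins j v u = ins j ((b : A1) *ᵥ v) (R.val *ᵥ u) := by
  rw [kj, gl_mul_mulVec, Alg.up_mulVec, one_mulVec_ins]

theorem kj_conj_one (j : ι) (R : GL ({i // i ≠ j} → Fin m) F) (b g : GL (Fin m) F) :
    kj j R b * oneGL j g * (kj j R b)⁻¹ = oneGL j (b * g * b⁻¹) := by
  rw [← kj_self, kj_inv, kj_mul, kj_mul, mul_one, mul_inv_cancel, kj_self]

theorem pm_conj_one (τ : Equiv.Perm ι) (j : ι) (b : GL (Fin m) F) :
    (pmGL τ : GG) * oneGL j b * (pmGL τ)⁻¹ = oneGL (τ j) b := by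
  rw [oneGL, pmGL_mul_ptGL, mul_inv_cancel_right, oneGL]
  congr 1
  ext1 i
  simp only [Function.comp_apply, Function.update_apply, Pi.one_apply, Equiv.symm_apply_eq]

theorem conj_su {b g : GL (Fin m) F} (hb : b ∈ isoG f) (hg : g ∈ SU1 f) : b * g * b⁻¹ ∈ SU1 f := by
  refine ⟨mul_mem (mul_mem hb hg.1) ((isoG f).inv_mem hb), (mem_specialLinear_iff _).2 ?_⟩
  rw [Units.val_mul, Units.val_mul, det_mul, det_mul, (mem_specialLinear_iff _).1 hg.2, mul_one, ← det_mul,
    ← Units.val_mul, mul_inv_cancel, Units.val_one, det_one]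

theorem ins_left_inj {j : ι} {u : ({i // i ≠ j} → Fin m) → F} (hu : u ≠ 0) {a b : W1}
    (h : ins j a u = ins j b u) : a = b := by
  refine dotProduct_eq _ _ fun φ => ?_
  have h1 := congrArg (ctr j φ) h
  rw [ctr_ins, ctr_ins] at h1
  rw [dotProduct_comm a, dotProduct_comm b]
  exact smul_left_injective F hu h1

theorem ctr_oneM (j : ι) (φ : W1) (D : A1) (z : VV) :
    ctr j φ (oneM j D *ᵥ z) = ctr j (φ ᵥ* D) z := by
  rw [← sum_ins j z, mulVec_sum, map_sum, map_sum]
  refine Finset.sum_congr rfl fun a _ => ?_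
  rw [TensorPowerMax.Roots.oneM_mulVec_ins, ctr_ins, ctr_ins, dotProduct_mulVec]

/-- The part of an insertion at another factor. -/
theorem exists_ctr_ins {j : ι} (l : {i // i ≠ j}) (y : W1) (U : ({i // i ≠ l.1} → Fin m) → F) (a : Fin m) :
    ∃ U' : ({k : {i // i ≠ j} // k ≠ l} → Fin m) → F,
      ctr j (Pi.single a (1 : F)) (ins l.1 y U) = ins l y U' := by
  refine ⟨fun r => U fun i => if h : i.1 = j then a else r ⟨⟨i.1, h⟩, fun e => i.2 (congrArg Subtype.val e)⟩, ?_⟩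
  funext r
  simp only [ctr, ins, LinearMap.coe_mk, AddHom.coe_mk, Pi.single_apply, ite_mul, one_mul, zero_mul,
    Finset.sum_ite_eq', Finset.mem_univ, if_true]
  congr 2
  exact split_symm_of_ne j _ l.2

/-- An insertion of an insertion. -/
theorem ins_ins_mem {j : ι} (l : {i // i ≠ j}) (v w : W1) (U : ({k : {i // i ≠ j} // k ≠ l} → Fin m) → F) :
    ins j v (ins l w U) ∈ block l.1 w := by
  refine ⟨fun r => U (fun k => r ⟨k.1.1, fun e => k.2 (Subtype.ext e)⟩) * v (r ⟨j, l.2.symm⟩), ?_⟩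
  funext x
  show U (fun k => x k.1.1) * v (x j) * w (x l.1) = U (fun k => x k.1.1) * w (x l.1) * v (x j)
  ring

section

variable (hf : Cfsg.Geo.IsUnitaryForm σ f)
include hf

theorem iso_of_ins (j : ι) {g : GG}
    (h : ∀ v u v' u', Bf σ f ((g : Big) *ᵥ ins j v u) ((g : Big) *ᵥ ins j v' u') =
      Bf σ f (ins j v u) (ins j v' u')) : g ∈ isoG (Bf σ f) :=
  iso_of_pv hf fun s r => by rw [← ins_pv j s, ← ins_pv j r, h]

theorem kj_iso {j : ι} {R : GL ({i // i ≠ j} → Fin m) F} (hR : R ∈ isoG (Bf σ f)) {b : GL (Fin m) F}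
    (hb : b ∈ isoG f) : kj j R b ∈ isoG (Bf σ f) :=
  iso_of_ins hf j fun v u v' u' => by
    rw [kj_ins, kj_ins, Bf_ins_ins hf, Bf_ins_ins hf, iso_apply hb, iso_apply hR]

theorem cen_of_ins {j : ι} {w : W1} {S} {x : GG}
    (h : ∀ v u, (x : Big) *ᵥ ins j v u = ins j v u + f v w • ins j w (S *ᵥ u)) : Cen f j w S x := fun z => by
  rw [ctr_hv_sum, mulVec_sum]
  conv_lhs => rw [← sum_ins j z, mulVec_sum]
  conv_rhs => arg 1; rw [← sum_ins j z]
  have _ := hf
  simp only [h, mulVec_smul, map_sum, map_smul, Finset.sum_add_distrib]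

theorem cen_ins {j : ι} {w : W1} {S} {x : GG} (h : Cen f j w S x) (v : W1)
    (u : ({i // i ≠ j} → Fin m) → F) :
    (x : Big) *ᵥ ins j v u = ins j v u + f v w • ins j w (S *ᵥ u) := by
  rw [h, ctr_hv_ins hf, mulVec_smul, map_smul]

/-- Conjugation by an isometry preserving the block preserves the radical. -/
theorem radG_conj {j : ι} {w : W1} {h : GG} (hh : h ∈ isoG (Bf σ f))
    (hB : ∀ u, ∃ u', (h : Big) *ᵥ ins j w u = ins j w u')
    (hB' : ∀ u, ∃ u', ((h⁻¹ : GG) : Big) *ᵥ ins j w u = ins j w u') {x : GG} (hx : x ∈ radG σ f j w) :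
    h * x * h⁻¹ ∈ radG σ f j w := by
  refine ⟨mul_mem (mul_mem hh hx.1) (inv_mem hh), fun u => ?_, fun z hz => ?_⟩
  · obtain ⟨u', hu'⟩ := hB' u
    rw [gl_mul_mulVec, gl_mul_mulVec, hu', hx.2.1, ← hu', gl_mulVec_inv]
  · have hz' : ctr j (formVec f w) (((h⁻¹ : GG) : Big) *ᵥ z) = 0 := ctr_eq_zero_of hf j fun u => by
      obtain ⟨u', hu'⟩ := hB u
      rw [← iso_move hh, hu', Bf_ins hf, hz, herm_zero_left (Bf_unitary hf)]
    obtain ⟨b, hb⟩ := hx.2.2 _ hz'
    obtain ⟨u', hu'⟩ := hB b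
    refine ⟨u', ?_⟩
    rw [← hu', hb, mulVec_sub, gl_mulVec_inv, gl_mul_mulVec, gl_mul_mulVec]

end

/-- An isometry preserving a block and conjugating one-factor elements into the group is a product. -/
theorem exists_kj [Finite F] {M : Subgroup GG} (S : Setting σ f M) (hG : NoRad f M) {j : ι} {h : GG}
    (hiso : h ∈ isoG (Bf σ f)) (hconj : ∀ g ∈ SU1 f, h * oneGL j g * h⁻¹ ∈ M) {w : W1} (hw : w ≠ 0)
    (hww : f w w = 0) (hB : ∀ u, (h : Big) *ᵥ ins j w u ∈ block j w) :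
    ∃ R ∈ isoG (Bf σ f), ∃ b : GL (Fin m) F, h = kj j R b := by
  classical
  have hf := S.u
  have hl := isLinearLeft_of_unitary hf
  have hm := S.hm
  have hBu := Bf_unitary (ι := ι) hf
  have hRu := Bf_unitary (ι := {i // i ≠ j}) hf
  obtain ⟨w', hw'w', hp, hp'⟩ := exists_partner hf hw hww
  haveI := TensorPowerMax.Roots.rest_nonempty (ι := ι) hm j
  let C : (({i // i ≠ j} → Fin m) → F) →ₗ[F] (({i // i ≠ j} → Fin m) → F) :=
    (ctr j (formVec f w')).comp ((Matrix.mulVecLin (h : Big)).comp (ins j w))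
  have hC : ∀ u, (h : Big) *ᵥ ins j w u = ins j w (C u) := fun u => by
    obtain ⟨r, hr⟩ := hB u
    show _ = ins j w (ctr j (formVec f w') ((h : Big) *ᵥ ins j w u))
    rw [← hr, ctr_hv_ins hf, hp, one_smul]
  have hCinj : Function.Injective C := fun u u' e =>
    ins_injective hw (gl_mulVec_injective h (show (h : Big) *ᵥ _ = (h : Big) *ᵥ _ by rw [hC, hC, e]))
  have hCsurj : Function.Surjective C := LinearMap.injective_iff_surjective.1 hCinj
  have hB1 : ∀ u, ∃ u', (h : Big) *ᵥ ins j w u = ins j w u' := fun u => ⟨_, hC u⟩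
  have hB2 : ∀ u, ∃ u', ((h⁻¹ : GG) : Big) *ᵥ ins j w u = ins j w u' := fun u => by
    obtain ⟨u', rfl⟩ := hCsurj u
    exact ⟨u', by rw [← hC, gl_inv_mulVec]⟩
  have hhperp : ∀ y, f y w = 0 → ∀ u, ctr j (formVec f w) ((h : Big) *ᵥ ins j y u) = 0 := fun y hy u =>
    ctr_eq_zero_of hf j fun p => by
      obtain ⟨p', rfl⟩ := hCsurj p
      rw [← hC, iso_apply hiso, Bf_ins_ins hf, hy, zero_mul]
  let W0 := {y : W1 // f y w = 0 ∧ f y w' = 0}
  have hproj : ∀ v, f v w = 0 → f (v - f v w' • w) w = 0 ∧ f (v - f v w' • w) w' = 0 := fun v hv => by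
    constructor <;> rw [form_sub_left hl, hf.smul_left]
    · rw [hv, hww, mul_zero, sub_zero]
    · rw [hp, mul_one, sub_self]
  have hsplit : ∀ v : W1, f v w = 0 → v = (v - f v w' • w) + f v w' • w := fun v _ => (sub_add_cancel _ _).symm
  have hrad : ∀ g ∈ SU1 f, oneGL j g ∈ radG σ f j w →
      ∃ g' ∈ SU1 f, h * oneGL j g * h⁻¹ = oneGL j g' ∧ (g' : A1) *ᵥ w = w := by
    intro g hg hgr
    have hmem := radG_conj hf hiso hB1 hB2 hgr
    obtain ⟨g', hg', e⟩ := rad_one_factor S hG hw hww (hconj g hg) hmem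
    refine ⟨g', hg', e, ?_⟩
    rw [e] at hmem
    refine ins_left_inj (j := j) (u := fun _ => (1 : F)) (fun e0 => ?_) ?_
    · exact one_ne_zero (congrFun e0 (Classical.arbitrary _))
    · rw [← one_mulVec_ins, hmem.2.1]
  -- the dual map
  have hdual : ∀ y' : W0, ∃ c : W0, ∀ y, f y w = 0 → ∀ u,
      ctr j (formVec f c.1) ((h : Big) *ᵥ ins j y u) = -(f y y'.1) • C u := by
    intro y'
    obtain ⟨s, hs⟩ := exists_trace hf (r := -f y'.1 y'.1) (by rw [map_neg, self_fixed hf])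
    obtain ⟨g, hg, hgz⟩ := exists_eich hf hww y'.2.1 hs
    obtain ⟨g', -, e, hg'w⟩ := hrad g hg (eich_radG hf hp' hg.1 hww y'.2.1 hgz)
    obtain ⟨c0, hc0⟩ := formVec_surjective hl (add_right hf) hf.nondegenerate
      (formVec f w' ᵥ* ((g' : A1) - 1))
    have hc0w : f c0 w = 0 := by
      refine swap_eq_zero hf ?_
      rw [← formVec_dot hl, hc0, ← dotProduct_mulVec, sub_mulVec, one_mulVec, hg'w, sub_self, dotProduct_zero]
    refine ⟨⟨_, hproj c0 hc0w⟩, fun y hy u => ?_⟩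
    set z := (h : Big) *ᵥ ins j y u with hz
    have e1 : (oneGL j g' : GG).val *ᵥ z - z = -(f y y'.1) • ins j w (C u) := by
      rw [← e, hz, gl_mul_mulVec, gl_mul_mulVec, gl_inv_mulVec, one_mulVec_ins, hgz, hy, zero_smul, add_zero,
        mul_zero, zero_sub, ins_add_left, ins_smul, mulVec_add, mulVec_smul, hC, add_sub_cancel_left]
    have e2 : ctr j (formVec f c0) z = -(f y y'.1) • C u := by
      have h3 := congrArg (ctr j (formVec f w')) e1
      rw [map_smul, ctr_hv_ins hf, hp, one_smul] at h3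
      rw [← h3, hc0, ← ctr_oneM, sub_eq_add_neg (g' : A1), oneM_add, ← neg_one_smul F (1 : A1), oneM_smul,
        oneM_one, coe_oneGL, add_mulVec, smul_mulVec, one_mulVec, neg_one_smul, sub_eq_add_neg]
    have e3 : formVec f (c0 - f c0 w' • w) = formVec f c0 - σ (f c0 w') • formVec f w := by
      refine dotProduct_eq _ _ fun x => ?_
      rw [sub_dotProduct, smul_dotProduct, formVec_dot hl, formVec_dot hl, formVec_dot hl, sub_right hf,
        smul_right hf, smul_eq_mul]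
    show ctr j (formVec f (c0 - f c0 w' • w)) z = _
    rw [e3, ← e2]
    ext r
    have h0 := congrFun (hhperp y hy u) r
    simp only [ctr, LinearMap.coe_mk, AddHom.coe_mk, Pi.zero_apply, hz] at h0 ⊢
    simp only [Pi.sub_apply, Pi.smul_apply, smul_eq_mul, sub_mul, Finset.sum_sub_distrib, mul_assoc,
      ← Finset.mul_sum, h0, mul_zero, sub_zero]
  choose d hd using hdual
  obtain ⟨u0, hu0⟩ : ∃ u0 : ({i // i ≠ j} → Fin m) → F, u0 ≠ 0 :=
    ⟨fun _ => 1, fun e0 => one_ne_zero (congrFun e0 (Classical.arbitrary _))⟩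
  have hCu0 : C u0 ≠ 0 := fun e0 => hu0 (hCinj (e0.trans (map_zero C).symm))
  have hdinj : Function.Injective d := by
    intro p q e
    refine Subtype.ext (eq_of_pair hf fun x => ?_)
    have hzero : f (p.1 - q.1) x = 0 := by
      set x0 := x - f x w • w' with hx0
      have hx0w : f x0 w = 0 := by rw [hx0, form_sub_left hl, hf.smul_left, hp', mul_one, sub_self]
      have h1 : f x0 p.1 = f x0 q.1 :=
        neg_injective (smul_left_injective F hCu0 ((hd p x0 hx0w u0).symm.trans (by rw [e]; exact hd q x0 hx0w u0)))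
      refine swap_eq_zero hf ?_
      rw [show x = x0 + f x w • w' by simp [x0], hf.add_left, hf.smul_left, sub_right hf, sub_right hf, h1,
        sub_self, swap_eq_zero hf p.2.2, swap_eq_zero hf q.2.2, sub_self, mul_zero, add_zero]
    rwa [form_sub_left hl, sub_eq_zero] at hzero
  have hdsurj : Function.Surjective d := Finite.injective_iff_surjective.1 hdinj
  obtain ⟨ψ0, hψ0⟩ := exists_dot_eq_one hCu0
  let N : W1 →ₗ[F] W1 :=
    { toFun := fun y => fun a => ψ0 ⬝ᵥ ctr j (Pi.single a (1 : F)) ((h : Big) *ᵥ ins j y u0)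
      map_add' := fun y y' => by funext a; simp only [ins_add_left, mulVec_add, map_add, dotProduct_add, Pi.add_apply]
      map_smul' := fun c y => by
        funext a; simp only [ins_smul, mulVec_smul, map_smul, dotProduct_smul, Pi.smul_apply, RingHom.id_apply] }
  have hN : ∀ φ y, φ ⬝ᵥ N y = ψ0 ⬝ᵥ ctr j φ ((h : Big) *ᵥ ins j y u0) := by
    intro φ y
    simp only [N, LinearMap.coe_mk, AddHom.coe_mk, dotProduct, ctr, Finset.mul_sum, Pi.single_apply, ite_mul,
      one_mul, zero_mul, Finset.sum_ite_eq', Finset.mem_univ, if_true]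
    rw [Finset.sum_comm]
    exact Finset.sum_congr rfl fun _ _ => Finset.sum_congr rfl fun _ _ => by ring
  have hNw : ∀ y, f y w = 0 → f (N y) w = 0 := fun y hy => by
    rw [← formVec_dot hl, hN, hhperp y hy u0, dotProduct_zero]
  let n : W1 →ₗ[F] W1 :=
    { toFun := fun y => N y - f (N y) w' • w
      map_add' := fun y y' => by rw [map_add, hf.add_left]; module
      map_smul' := fun c y => by rw [map_smul, hf.smul_left, RingHom.id_apply]; module }
  have hn : ∀ y, n y = N y - f (N y) w' • w := fun y => rfl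
  have hnW : ∀ y, f y w = 0 → f (n y) w = 0 ∧ f (n y) w' = 0 := fun y hy => hproj _ (hNw y hy)
  have hmod : ∀ y, f y w = 0 → ∀ u, (h : Big) *ᵥ ins j y u - ins j (n y) (C u) ∈ block j w := by
    intro y hy u
    rw [mem_block_iff hw]
    intro φ hφ
    obtain ⟨v, rfl⟩ := formVec_surjective hl (add_right hf) hf.nondegenerate φ
    rw [formVec_dot hl] at hφ
    have hvw : f v w = 0 := swap_eq_zero hf hφ
    set v0 : W0 := ⟨_, hproj v hvw⟩ with hv0
    have e3 : formVec f v = formVec f v0.1 + σ (f v w') • formVec f w := by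
      refine dotProduct_eq _ _ fun x => ?_
      rw [add_dotProduct, smul_dotProduct, formVec_dot hl, formVec_dot hl, formVec_dot hl]
      show f x v = f x (v - f v w' • w) + σ (f v w') • f x w
      rw [sub_right hf, smul_right hf, smul_eq_mul, sub_add_cancel]
    obtain ⟨p, hpd⟩ := hdsurj v0
    have h1 : f (N y) v0.1 = -(f y p.1) := by
      rw [← formVec_dot hl, hN, ← hpd, hd p y hy, dotProduct_smul, hψ0, smul_eq_mul, mul_one]
    have h2 : f (n y) v0.1 = -(f y p.1) := by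
      rw [hn, form_sub_left hl, hf.smul_left, swap_eq_zero hf v0.2.1, mul_zero, sub_zero, h1]
    rw [e3]
    have hlin : ∀ (z : VV), ctr j (formVec f v0.1 + σ (f v w') • formVec f w) z =
        ctr j (formVec f v0.1) z + σ (f v w') • ctr j (formVec f w) z := fun z => by
      ext r; simp [ctr, add_mul, Finset.sum_add_distrib, mul_assoc, Finset.mul_sum]
    rw [hlin, map_sub, map_sub, ctr_hv_ins hf, ctr_hv_ins hf, h2, (hnW y hy).1, hhperp y hy u, ← hpd, hd p y hy,
      zero_smul, sub_zero, smul_zero, add_zero, sub_self]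
  -- the multiplier
  have hpair : ∀ y y', f y w = 0 → f y' w = 0 → ∀ u u',
      f (n y) (n y') * Bf σ f (C u) (C u') = f y y' * Bf σ f u u' := by
    intro y y' hy hy' u u'
    obtain ⟨r, hr⟩ := hmod y hy u
    obtain ⟨r', hr'⟩ := hmod y' hy' u'
    have h0 := iso_apply hiso (ins j y u) (ins j y' u')
    rw [show (h : Big) *ᵥ ins j y u = ins j (n y) (C u) + ins j w r by rw [hr]; abel,
      show (h : Big) *ᵥ ins j y' u' = ins j (n y') (C u') + ins j w r' by rw [hr']; abel] at h0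
    simp only [Bf_add_left, add_right hBu, Bf_ins_ins hf, (hnW y hy).1, swap_eq_zero hf (hnW y' hy').1, hww,
      zero_mul, add_zero] at h0
    exact h0
  obtain ⟨y0, hy0w, hy0w', hy0⟩ := exists_aniso_perp hf hm hww hw'w' hp
  obtain ⟨ua, hua⟩ : ∃ u : ({i // i ≠ j} → Fin m) → F, Bf σ f u u ≠ 0 := by
    obtain ⟨u, -, hu⟩ := exists_anisotropic hRu (![] : Fin 0 → ({i // i ≠ j} → Fin m) → F)
      (Fintype.card_pos_iff.2 inferInstance)
    exact ⟨u, hu⟩
  have hny0 : f (n y0) (n y0) ≠ 0 := fun e0 => by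
    have := hpair y0 y0 hy0w hy0w ua ua
    rw [e0, zero_mul] at this
    exact mul_ne_zero hy0 hua this.symm
  set κ := f y0 y0 / f (n y0) (n y0) with hκ
  have hκ0 : κ ≠ 0 := div_ne_zero hy0 hny0
  obtain ⟨c, hc⟩ := S.hN κ (by rw [hκ, map_div₀, self_fixed hf, self_fixed hf])
  have hc0 : c ≠ 0 := fun e0 => hκ0 (by rw [← hc, e0, zero_mul])
  have hσc : σ c ≠ 0 := by simpa using hc0
  have hCC : ∀ u u', Bf σ f (C u) (C u') = κ * Bf σ f u u' := fun u u' => by
    rw [hκ, div_mul_eq_mul_div, eq_div_iff hny0, mul_comm]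
    exact hpair y0 y0 hy0w hy0w u u'
  obtain ⟨R, hR, hRu'⟩ := exists_gl hRu (c⁻¹ • C) fun u u' => by
    rw [LinearMap.smul_apply, LinearMap.smul_apply, Bf_smul_left, smul_right hRu, hCC, ← hc, map_inv₀]
    field_simp
  have hRC : ∀ u, c • (R.val *ᵥ u) = C u := fun u => by rw [hRu', LinearMap.smul_apply, smul_inv_smul₀ hc0]
  have hnn : ∀ y y', f y w = 0 → f y' w = 0 → f (c • n y) (c • n y') = f y y' := fun y y' hy hy' => by
    have := hpair y y' hy hy' ua ua
    rw [hCC, ← hc, ← mul_assoc] at this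
    rw [hf.smul_left, smul_right hf]
    exact mul_right_cancel₀ hua (by rw [← this]; ring)
  let P0 : W1 →ₗ[F] W1 :=
    { toFun := fun z => z - f z w' • w - f z w • w'
      map_add' := fun a b => by simp only [hf.add_left]; module
      map_smul' := fun r a => by simp only [hf.smul_left, RingHom.id_apply]; module }
  have hP0 : ∀ z, f (P0 z) w = 0 ∧ f (P0 z) w' = 0 := fun z => by
    simp only [P0, LinearMap.coe_mk, AddHom.coe_mk]
    constructor <;> simp only [form_sub_left hl, hf.smul_left, hww, hw'w', hp, hp'] <;> ring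
  let L : W1 →ₗ[F] W1 :=
    { toFun := fun z => (c * f z w') • w + ((σ c)⁻¹ * f z w) • w' + c • n (P0 z)
      map_add' := fun a b => by simp only [map_add, hf.add_left]; module
      map_smul' := fun r a => by simp only [map_smul, hf.smul_left, RingHom.id_apply]; module }
  obtain ⟨b, hb, hbz⟩ := exists_gl hf L fun x y => by
    have hq : ∀ z, z = P0 z + f z w' • w + f z w • w' := fun z => by
      simp only [P0, LinearMap.coe_mk, AddHom.coe_mk]; module
    conv_rhs => rw [hq x, hq y]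
    simp only [L, LinearMap.coe_mk, AddHom.coe_mk, hf.add_left, add_right hf, hnn _ _ (hP0 x).1 (hP0 y).1,
      (hP0 x).1, (hP0 x).2, swap_eq_zero hf (hP0 y).1, (hnW _ (hP0 x).1).1, (hnW _ (hP0 x).1).2,
      swap_eq_zero hf (hnW _ (hP0 y).1).1, swap_eq_zero hf (hnW _ (hP0 y).1).2, swap_eq_zero hf (hP0 y).2,
      mul_zero, add_zero, zero_add, hf.smul_left, smul_right hf, hww, hw'w', hp, hp', map_mul, map_inv₀,
      hf.involutive]
    field_simp
    ring
  have hbw : (b : A1) *ᵥ w = c • w := by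
    have hw0 : P0 w = 0 := by simp only [P0, LinearMap.coe_mk, AddHom.coe_mk, hp, hww]; simp
    rw [hbz]
    simp only [L, LinearMap.coe_mk, AddHom.coe_mk, hp, hww, hw0, map_zero, smul_zero]
    simp
  set K := kj j R b with hK
  have hKi : K ∈ isoG (Bf σ f) := kj_iso hf hR hb
  have hKw : ∀ u, (K : Big) *ᵥ ins j w u = ins j w (C u) := fun u => by
    rw [hK, kj_ins, hbw, ins_smul, ← map_smul, hRC]
  have hK' : ∀ u, ((K⁻¹ : GG) : Big) *ᵥ ins j w (C u) = ins j w u := fun u => by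
    rw [← hKw, gl_inv_mulVec]
  set x := K⁻¹ * h with hx
  have hxw : ∀ u, (x : Big) *ᵥ ins j w u = ins j w u := fun u => by rw [hx, gl_mul_mulVec, hC, hK']
  have hxr : x ∈ radG σ f j w := by
    refine radG_of_ins hf hp' (mul_mem (inv_mem hKi) hiso) hxw fun v hv u => ?_
    set v0 := v - f v w' • w with hv0
    obtain ⟨hv0w, hv0w'⟩ : f v0 w = 0 ∧ f v0 w' = 0 := hproj v hv
    have hbv : (b : A1) *ᵥ v0 = c • n v0 := by
      rw [hbz]
      have h0 : P0 v0 = v0 := by simp [P0, v0, hv0w, hv0w']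
      simp only [L, LinearMap.coe_mk, AddHom.coe_mk, h0, hv0w, hv0w']
      simp
    obtain ⟨r, hr⟩ := hmod v0 hv0w u
    obtain ⟨r', rfl⟩ := hCsurj r
    have e : (x : Big) *ᵥ ins j v0 u = ins j v0 u + ins j w r' := by
      rw [hx, gl_mul_mulVec]
      refine gl_mulVec_injective K ?_
      show (K : Big) *ᵥ _ = (K : Big) *ᵥ _
      rw [gl_mulVec_inv, mulVec_add, hKw, hK, kj_ins, hbv, ins_smul, ← map_smul, hRC, hr, add_sub_cancel]
    rw [hsplit v hv, ins_add_left, ins_smul, mulVec_add, mulVec_smul, hxw, ← hv0, e]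
    exact ⟨r', by abel⟩
  have hcom : ∀ g ∈ SU1 f, oneGL j g ∈ radG σ f j w → x * oneGL j g * x⁻¹ * (oneGL j g)⁻¹ ∈ M := by
    intro g hg hgr
    obtain ⟨g', hg', e, -⟩ := hrad g hg hgr
    rw [show x * oneGL j g * x⁻¹ = K⁻¹ * (h * oneGL j g * h⁻¹) * K⁻¹⁻¹ by rw [hx]; group, e, hK, kj_inv,
      kj_conj_one]
    exact M.mul_mem (S.one j _ (conj_su (inv_mem hb) hg')) (M.inv_mem (S.one j g hg))
  obtain ⟨g, hg, T, hT⟩ := rad_split hf (by omega) hw hww hp hxr fun y hy =>
    rad_scalar hf hw hww hp (M' := M) (hG j w hw hww) hxr hcom hy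
  set e := (oneGL j g)⁻¹ * x with he
  set K1 := kj j R (b * g) with hK1
  have hb1 : b * g ∈ isoG f := mul_mem hb hg.1
  have hK1i : K1 ∈ isoG (Bf σ f) := kj_iso hf hR hb1
  have hhe : h = K1 * e := by
    rw [hK1, show kj j R (b * g) = K * oneGL j g by rw [hK, ← kj_self, kj_mul, mul_one], he, hx]; group
  let Q := M.comap (MulAut.conj K1).toMonoidHom
  have hQ : ∀ g0 ∈ SU1 f, e * oneGL j g0 * e⁻¹ * (oneGL j g0)⁻¹ ∈ Q := by
    intro g0 hg0
    show K1 * (e * oneGL j g0 * e⁻¹ * (oneGL j g0)⁻¹) * K1⁻¹ ∈ M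
    rw [show K1 * (e * oneGL j g0 * e⁻¹ * (oneGL j g0)⁻¹) * K1⁻¹ =
      h * oneGL j g0 * h⁻¹ * (K1 * oneGL j g0 * K1⁻¹)⁻¹ by rw [hhe]; group, hK1, kj_conj_one]
    exact M.mul_mem (hconj g0 hg0) (M.inv_mem (S.one j _ (conj_su hb1 hg0)))
  have hQrad : ∀ v, v ≠ 0 → f v v = 0 → ∀ T', ∀ y ∈ Q, Cen f j v T' y → ∃ r : F, T' = r • 1 := by
    intro v hv hvv T' y hy hyT
    have h1 := cen_conj hf hyT hK1i hR fun u => by rw [hK1, kj_ins]
    obtain ⟨r, hr⟩ := hG j _ (gl_ne_zero _ hv) (by rw [iso_apply hb1]; exact hvv) _ ⟨_, hy, h1⟩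
    refine ⟨r, ?_⟩
    have h2 := congrArg (fun X => (R⁻¹ : GL _ F).val * X * R.val) hr
    simp only [Matrix.mul_assoc] at h2
    rw [← Units.val_mul R⁻¹, inv_mul_cancel, Units.val_one, mul_one, ← Matrix.mul_assoc, ← Units.val_mul,
      inv_mul_cancel, Units.val_one, one_mul, Matrix.smul_mul, one_mul, Matrix.mul_smul, ← Units.val_mul,
      inv_mul_cancel, Units.val_one] at h2
    exact h2
  -- the central part is scalar
  obtain ⟨z0, hz0⟩ : ∃ z0 : F, T = z0 • 1 := by
    have hmove : ∀ g0 ∈ SU1 f, ∀ (μ : F) (v : W1), (g0 : A1) *ᵥ w = μ • v →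
        Cen f j v ((μ * σ μ) • T) (oneGL j g0 * e * (oneGL j g0)⁻¹) := by
      intro g0 hg0 μ v hv
      have h1 := cen_conj hf hT (oneGL_iso hf j hg0.1) (w' := μ • v) (D := 1) (one_mem _)
        fun u => by rw [one_mulVec_ins, hv, Units.val_one, one_mulVec]
      rw [inv_one, Units.val_one, one_mul, mul_one] at h1
      exact cen_smul_vec hf h1
    by_cases h3 : ∃ r : F, σ r = r ∧ r ≠ 0 ∧ r ≠ 1
    · obtain ⟨r, hr, hr0, hr1⟩ := h3
      obtain ⟨l, hl'⟩ := S.hN r hr
      have hl0 : l ≠ 0 := fun e0 => hr0 (by rw [← hl', e0, zero_mul])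
      obtain ⟨τ, hτ, hτw, -⟩ := exists_torus hf hm hww hw'w' hp hl0
      have h1 := cen_mul hf hww hT (cen_inv hf hww (hmove τ hτ l w hτw))
      rw [hl'] at h1
      obtain ⟨z, hz⟩ := hQrad w hw hww _ _ (by
        have := hQ τ hτ
        rwa [show e * oneGL j τ * e⁻¹ * (oneGL j τ)⁻¹ = e * (oneGL j τ * e * (oneGL j τ)⁻¹)⁻¹ by group] at this) h1
      refine ⟨(1 - r)⁻¹ * z, ?_⟩
      rw [mul_smul, ← hz, eq_inv_smul_iff₀ (sub_ne_zero.2 hr1.symm)]
      module
    have h4 : 4 ≤ m := S.hex.resolve_right h3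
    obtain ⟨h2, ω, hω, hσω, hωsq⟩ := Alg.two_facts hf h3
    obtain ⟨v, s, hvv, hvw, hvspan, -, -, -⟩ := Alg.exists_second hf S.hN h4 hw hww
    have hv0 : v ≠ 0 := fun e0 => hvspan (e0 ▸ Submodule.zero_mem _)
    have hwv : f w v = 0 := swap_eq_zero hf hvw
    have hQe : ∀ a, a ≠ 0 → f a a = 0 → ∃ ea, Cen f j a T ea ∧ e * ea⁻¹ ∈ Q := by
      intro a ha haa
      obtain ⟨g0, hg0, μ, hμ, hga⟩ := exists_move hf hm hw hww ha haa
      have hn1 : μ * σ μ = 1 := by
        by_contra hne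
        exact h3 ⟨μ * σ μ, by rw [map_mul, hf.involutive, mul_comm], mul_ne_zero hμ (by simpa using hμ), hne⟩
      refine ⟨_, by simpa [hn1] using hmove g0 hg0 μ a hga, ?_⟩
      have := hQ g0 hg0
      rwa [show e * oneGL j g0 * e⁻¹ * (oneGL j g0)⁻¹ = e * (oneGL j g0 * e * (oneGL j g0)⁻¹)⁻¹ by group] at this
    have hwl : ∀ l : F, w + l • v ≠ 0 ∧ f (w + l • v) (w + l • v) = 0 := fun l => by
      refine ⟨fun e0 => ?_, ?_⟩
      · have h0 : l ≠ 0 := fun el => hw (by rwa [el, zero_smul, add_zero] at e0)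
        refine hvspan (Submodule.mem_span_singleton.2 ⟨-l⁻¹, ?_⟩)
        rw [eq_neg_of_add_eq_zero_left e0, neg_smul, smul_neg, neg_neg, inv_smul_smul₀ h0]
      · rw [hf.add_left, hf.smul_left, add_right hf, add_right hf, smul_right hf, smul_right hf, hww, hwv, hvw, hvv]
        ring
    obtain ⟨e1, he1, hq1⟩ := hQe _ (hwl 1).1 (hwl 1).2
    obtain ⟨e2, he2, hq2⟩ := hQe _ (hwl ω).1 (hwl ω).2
    obtain ⟨e3, he3, hq3⟩ := hQe _ (hwl (ω + 1)).1 (hwl (ω + 1)).2
    obtain ⟨ew, hew, hqw⟩ := hQe w hw hww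
    have hdiff : ∀ a, e * a⁻¹ ∈ Q → a * ew⁻¹ ∈ Q := fun a ha => by
      have := Q.mul_mem (Q.inv_mem ha) hqw
      rwa [show (e * a⁻¹)⁻¹ * (e * ew⁻¹) = a * ew⁻¹ by group] at this
    refine hQrad v hv0 hvv T _ (Q.mul_mem (Q.mul_mem (hdiff _ hq1) (hdiff _ hq2)) (hdiff _ hq3))
      (cen_of_ins hf fun p u => ?_)
    have hσ1 : σ (ω + 1) = ω + 1 + 1 := by rw [map_add, map_one, hσω]
    simp only [gl_mul_mulVec, cen_ins hf he1, cen_ins hf he2, cen_ins hf he3, cen_ins hf (cen_inv hf hww hew),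
      mulVec_add, mulVec_smul, hf.add_left, hf.smul_left, add_right hf, smul_right hf, hww, hvv, hwv, hvw,
      mul_zero, add_zero, zero_smul, ins_add_left, ins_smul, neg_mulVec, map_neg, mulVec_neg, map_one, one_smul, one_mul,
      hσω, hσ1]
    match_scalars <;> first
      | ring1
      | linear_combination (f p v * (2 + ω)) * h2
      | linear_combination (f p v * (1 + 2 * ω + ω * ω) + f p w * (1 + ω)) * h2
  have hwz : (z0 • formVec f w) ⬝ᵥ w = 0 := by
    rw [smul_dotProduct, formVec_dot hl, hww, smul_zero]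
  refine ⟨R, hR, b * g * tv w (z0 • formVec f w), ?_⟩
  rw [hhe, hK1, show kj j R (b * g * tv w (z0 • formVec f w)) = kj j R (b * g) * oneGL j (tv w (z0 • formVec f w)) by
    rw [← kj_self, kj_mul, mul_one]]
  congr 1
  refine gl_ext_ins j fun p u => ?_
  rw [cen_ins hf hT, hz0, one_mulVec_ins, tv_mulVec hwz, smul_dotProduct, formVec_dot hl, smul_mulVec, one_mulVec,
    ins_add_left, ins_smul, map_smul, smul_smul, smul_eq_mul, mul_comm z0]

/-- The projection to the factors other than `j`. -/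
def proj (σ : F ≃+* F) (f : (Fin m → F) → (Fin m → F) → F) (M : Subgroup (GL (ι → Fin m) F)) (j : ι) :
    Subgroup (GL ({i // i ≠ j} → Fin m) F) where
  carrier := {C | C ∈ isoG (Bf σ f) ∧ ∃ b, kj j C b ∈ M}
  one_mem' := ⟨one_mem _, 1, by rw [kj_one]; exact one_mem _⟩
  mul_mem' := by
    rintro A B ⟨hA, a, ha⟩ ⟨hB, b, hb⟩
    exact ⟨mul_mem hA hB, a * b, by rw [← kj_mul]; exact mul_mem ha hb⟩
  inv_mem' := by
    rintro A ⟨hA, a, ha⟩
    exact ⟨inv_mem hA, a⁻¹, by rw [← kj_inv]; exact inv_mem ha⟩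

variable {M : Subgroup (GL (ι → Fin m) F)}

theorem proj_setting (S : Setting σ f M) (hι : 3 ≤ Fintype.card ι) (j : ι) : Setting σ f (proj σ f M j) where
  u := S.u
  hN := S.hN
  iso := fun x hx => hx.1
  one l b hb := ⟨oneGL_iso S.u l hb.1, 1, by rw [kj_ne]; exact S.one _ b hb⟩
  perm := Or.inr fun π => by
    obtain ⟨a, ha, hM⟩ := (S.perm.resolve_left (by omega)) (Equiv.Perm.ofSubtype π)
    have hfix : Equiv.Perm.ofSubtype π j = j := Equiv.Perm.ofSubtype_apply_of_not_mem π (by simp)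
    have e2 : TensorPowerMax.Split.restrict (Equiv.Perm.ofSubtype π) hfix = π := by
      refine Equiv.ext fun i => Subtype.ext ?_
      show Equiv.Perm.ofSubtype π i.1 = _
      rw [Equiv.Perm.ofSubtype_apply_coe]
    rw [kj_tw a _ hfix, e2] at hM
    exact ⟨fun i => a i.1, fun i => ha i.1, mul_mem (ptGL_iso S.u fun i => ha i.1) (pmGL_iso S.u π), _, hM⟩
  hm := S.hm
  hι := by rw [Fintype.card_subtype_compl, Fintype.card_subtype_eq]; omega
  hex := S.hex

theorem not_full [Finite F] (S : Setting σ f M) (hG : NoRad f M) (hι : 3 ≤ Fintype.card ι) (j : ι)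
    (hfull : ∀ x, Bf σ f x x = 0 → Full.Ctr σ f (proj σ f M j) x) : False := by
  classical
  have hf := S.u
  have hl := isLinearLeft_of_unitary hf
  have hcard : 1 < Fintype.card {i // i ≠ j} := by
    rw [Fintype.card_subtype_compl, Fintype.card_subtype_eq]; omega
  obtain ⟨l, k, hlk⟩ := Fintype.exists_pair_of_one_lt_card hcard
  have hB1 := Bf_unitary (ι := {i // i ≠ j}) hf
  have hB2 := Bf_unitary (ι := {i : {i // i ≠ j} // i ≠ l}) hf
  obtain ⟨w, hw, hww, -⟩ := TensorFormMax.UnitSide.exists_iso_orth hf S.hN (![] : Fin 0 → W1) (by have := S.hm; omega)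
  obtain ⟨w', hw'w', hp, hp'⟩ := exists_partner hf hw hww
  obtain ⟨c, hcw, -, hc⟩ := exists_aniso_perp hf S.hm hww hw'w' hp
  set u' := pv fun _ : {i : {i // i ≠ j} // i ≠ l} => w with hu'
  have hu'0 : u' ≠ 0 := pv_ne_zero fun _ => hw
  have huu : Bf σ f u' u' = 0 := by
    rw [hu', Bf_pv hf]
    exact Finset.prod_eq_zero (Finset.mem_univ ⟨k, hlk.symm⟩) hww
  set p := ins l c u' with hpdef
  have hpp : Bf σ f p p = 0 := by rw [Bf_ins_ins hf, huu, mul_zero]
  obtain ⟨γ, hγ, hγ'⟩ := exists_skew_scalar hf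
  obtain ⟨a, ⟨hai, b, hab⟩, haz⟩ := hfull p hpp γ hγ'
  obtain ⟨s, hs⟩ := exists_trace hf (r := -f c c) (by rw [map_neg, self_fixed hf])
  obtain ⟨g, hg, hgz⟩ := exists_eich hf hww hcw hs
  set T := oneGL (ι := {i // i ≠ j}) l g with hT
  set C := a * (T * a⁻¹ * T⁻¹) with hC
  have hGM : kj j C 1 ∈ M := by
    have hTM : kj j T 1 ∈ M := by rw [hT, kj_ne]; exact S.one l.1 g hg
    have := M.mul_mem hab (M.mul_mem (M.mul_mem hTM (M.inv_mem hab)) (M.inv_mem hTM))
    simpa [kj_inv, kj_mul] using this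
  set q := (T.val) *ᵥ p with hq
  have hainv : ∀ z, (a⁻¹ : GL _ F).val *ᵥ z = z - (γ * Bf σ f z p) • p := fun z => by
    refine gl_mulVec_injective a ?_
    show a.val *ᵥ _ = a.val *ᵥ _
    rw [gl_mulVec_inv, mulVec_sub, mulVec_smul, haz, haz, hpp]
    module
  have hqe : q = ins l (c - f c c • w) u' := by
    rw [hq, hpdef, hT, one_mulVec_ins, hgz, hcw]
    congr 2
    module
  have hqp : Bf σ f q p = 0 := by rw [hqe, hpdef, Bf_ins_ins hf, huu, mul_zero]
  have hCz : ∀ z, C.val *ᵥ z = z - (γ * Bf σ f z q) • q + (γ * Bf σ f z p) • p := fun z => by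
    rw [hC, gl_mul_mulVec, gl_mul_mulVec, gl_mul_mulVec, hainv, mulVec_sub, mulVec_smul, gl_mulVec_inv,
      ← iso_move (oneGL_iso hf l hg.1), ← hq, haz, form_sub_left (isLinearLeft_of_unitary hB1), Bf_smul_left, hqp,
      mul_zero, sub_zero]
  have hCins : ∀ y, f y w = 0 → ∀ u,
      C.val *ᵥ ins l y u = ins l y u + (γ * f y c * Bf σ f u u' * f c c) • ins l w u' := by
    intro y hy u
    rw [hCz, hqe, hpdef, Bf_ins_ins hf, Bf_ins_ins hf, sub_right hf, smul_right hf, hy, mul_zero, sub_zero,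
      ins_sub_left, ins_smul]
    module
  have hGw : ∀ U, (kj j C 1 : GG).val *ᵥ ins l.1 w U = ins l.1 w U := fun U => by
    conv_lhs => rw [← sum_ins j (ins l.1 w U), mulVec_sum]
    conv_rhs => rw [← sum_ins j (ins l.1 w U)]
    refine Finset.sum_congr rfl fun i _ => ?_
    obtain ⟨U', hU'⟩ := exists_ctr_ins l w U i
    rw [kj_ins, hU', hCins w hww, swap_eq_zero hf hcw, mul_zero, zero_mul, zero_mul, zero_smul, add_zero,
      Units.val_one, one_mulVec]
  have hGr : kj j C 1 ∈ radG σ f l.1 w := radG_of_ins hf hp' (S.iso hGM) hGw fun y hy U => by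
    conv => enter [2]; rw [← sum_ins j (ins l.1 y U), mulVec_sum, ← Finset.sum_sub_distrib]
    refine sum_mem fun i _ => ?_
    obtain ⟨U', hU'⟩ := exists_ctr_ins l y U i
    rw [kj_ins, hU', hCins y hy, Units.val_one, one_mulVec, map_add, add_sub_cancel_left, map_smul]
    exact Submodule.smul_mem _ _ (ins_ins_mem l _ _ _)
  obtain ⟨g', -, hg'⟩ := rad_one_factor S hG hw hww hGM hGr
  rw [← kj_ne] at hg'
  have hCg : ∀ t, C.val *ᵥ t = (oneGL l g').val *ᵥ t := fun t => ins_injective hw (by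
    have := congrArg (fun X : GG => X.val *ᵥ ins j w t) hg'
    simpa only [kj_ins, Units.val_one, one_mulVec] using this)
  have hg'c : (g' : A1) *ᵥ c = c := ins_left_inj hu'0 (by
    rw [← one_mulVec_ins, ← hCg, hCins c hcw, huu, mul_zero, zero_mul, zero_smul, add_zero])
  obtain ⟨u, hu⟩ := (hB2.nondegenerate u' hu'0).1
  have h1 := hCins c hcw u
  rw [hCg, one_mulVec_ins, hg'c, left_eq_add, smul_eq_zero, or_iff_right
    (mul_ne_zero (mul_ne_zero (mul_ne_zero hγ hc) hu) hc)] at h1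
  exact hu'0 (ins_injective hw (h1.trans (map_zero _).symm))

/-- An element carrying an isotropic block onto another. -/
theorem mem_of_block [Finite F] (S : Setting σ f M) (hG : NoRad f M) (hIH : Lower σ f ι) {g : GG} (hg : g ∈ M)
    {i j : ι} {v w : W1} (hv : v ≠ 0) (hvv : f v v = 0) (hw : w ≠ 0) (hww : f w w = 0)
    (hgb : ∀ z ∈ block i v, (g : Big) *ᵥ z ∈ block j w) : g ∈ stab ι m F := by
  classical
  have hf := S.u
  set τ := Equiv.swap i j with hτ
  have hτj : τ j = i := Equiv.swap_apply_right i j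
  -- a twist sending the factor `j` to `i`
  obtain ⟨a, ha, hconj, h3⟩ : ∃ a : ι → GL (Fin m) F, (∀ k, a k ∈ isoG f) ∧
      (∀ g' ∈ SU1 f, ptGL a * pmGL τ * oneGL j g' * (ptGL a * pmGL τ)⁻¹ ∈ M) ∧
      (3 ≤ Fintype.card ι → ptGL a * pmGL τ ∈ M) := by
    by_cases h3 : 3 ≤ Fintype.card ι
    · obtain ⟨a, ha, hM⟩ := (S.perm.resolve_left (by omega)) τ
      exact ⟨a, ha, fun g' hg' => M.mul_mem (M.mul_mem hM (S.one j g' hg')) (M.inv_mem hM), fun _ => hM⟩
    · refine ⟨1, fun k => one_mem _, fun g' hg' => ?_, fun h => absurd h h3⟩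
      rw [map_one, one_mul, pm_conj_one, hτj]
      exact S.one i g' hg'
  set v' := (((a i)⁻¹ : GL (Fin m) F) : A1) *ᵥ v
  have hv' : v' ≠ 0 := gl_ne_zero _ hv
  have hv'v' : f v' v' = 0 := by rw [iso_apply (inv_mem (ha i))]; exact hvv
  obtain ⟨g1, hg1, μ, -, hg1w⟩ := exists_move hf S.hm hw hww hv' hv'v'
  set N := ptGL a * pmGL τ * oneGL j g1 with hN
  set h := g * N with hh
  have hmap : ∀ u, (h : Big) *ᵥ ins j w u ∈ block j w := by
    intro u
    rw [hh, hN, gl_mul_mulVec, gl_mul_mulVec _ (oneGL j g1), one_mulVec_ins, hg1w, ins_smul, mulVec_smul,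
      mulVec_smul]
    refine Submodule.smul_mem _ _ (hgb _ ?_)
    have := TensorPowerMax.Roots.tw_mulVec_block a τ hv' (z := ins j v' u) (LinearMap.mem_range_self _ _)
    rwa [hτj, gl_mulVec_inv] at this
  have hNi : N ∈ isoG (Bf σ f) :=
    mul_mem (mul_mem (ptGL_iso hf ha) (pmGL_iso hf τ)) (oneGL_iso hf j hg1.1)
  obtain ⟨R, hR, b, hhkj⟩ := exists_kj S hG (h := h) (mul_mem (S.iso hg) hNi) (fun g' hg' => by
    rw [hh, hN, show g * (ptGL a * pmGL τ * oneGL j g1) * oneGL j g' *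
      (g * (ptGL a * pmGL τ * oneGL j g1))⁻¹ =
      g * (ptGL a * pmGL τ * (oneGL j g1 * oneGL j g' * (oneGL j g1)⁻¹) * (ptGL a * pmGL τ)⁻¹) * g⁻¹ by group]
    refine M.mul_mem (M.mul_mem hg ?_) (M.inv_mem hg)
    rw [← kj_self, kj_conj_one]
    exact hconj _ (conj_su hg1.1 hg')) hw hww hmap
  have hfin : R ∈ stab {x // x ≠ j} m F → g ∈ stab ι m F := fun hRs => by
    have h1 := TensorPowerMax.BlockTo.mem_stab_of_kron hRs (h := h) (by rw [hhkj, spU_kj])
    have := mul_mem h1 (inv_mem (mul_mem (mul_mem (ptGL_mem_stab a) (pmGL_mem_stab τ)) (oneGL_mem_stab j g1)))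
    rwa [hh, mul_inv_cancel_right] at this
  by_cases h3' : 3 ≤ Fintype.card ι
  swap
  · refine hfin (TensorPowerMax.BlockTo.mem_stab_of_unique ?_ R)
    rw [Fintype.card_subtype_compl, Fintype.card_subtype_eq]
    have := S.hι
    omega
  have hP : R ∈ proj σ f M j :=
    ⟨hR, b, hhkj ▸ M.mul_mem hg (M.mul_mem (h3 h3') (S.one j g1 hg1))⟩
  rcases hIH {x // x ≠ j} (by rw [Fintype.card_subtype_compl, Fintype.card_subtype_eq]; omega)
    (proj σ f M j) (proj_setting S h3' j) with hle | hfull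
  · exact hfin (hle hP)
  · exact (not_full S hG h3' j hfull).elim

end Cfsg.Agent.Lib.UnitaryPowerMax.BlockTo
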