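import Cfsg.Agent.Lib.UnitaryPowerMax.Fixed
import Cfsg.Agent.Lib.TensorPowerMax.Rigid

/-!
Elements of the stabiliser whose displacement lies in a subspace meeting the orthogonal of a block in a
product of few blocks.
-/

set_option autoImplicit false
set_option linter.unusedSectionVars false

namespace Cfsg.Agent.Lib.UnitaryPowerMax.Near

open Matrix
open Cfsg.Agent.Lib.Subspaces.Transvection Cfsg.Agent.Lib.Subspaces.FormVec
  Cfsg.Agent.Lib.Subspaces.UnitaryForm Cfsg.Agent.Lib.TensorPowerMax.Basic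
  Cfsg.Agent.Lib.UnitaryPowerMax.Form Cfsg.Agent.Lib.UnitaryPowerMax.Rad
  Cfsg.Agent.Lib.UnitaryPowerMax.BlockTo Cfsg.Agent.Lib.UnitaryPowerMax.Fixed

variable {ι : Type} [Fintype ι] [DecidableEq ι] {m : ℕ} {F : Type*} [Field F] {σ : F ≃+* F}
  {f : (Fin m → F) → (Fin m → F) → F}

local notation "A1" => Matrix (Fin m) (Fin m) F
local notation "W1" => Fin m → F
local notation "VV" => (ι → Fin m) → F
local notation "Big" => Matrix (ι → Fin m) (ι → Fin m) F
local notation "GG" => GL (ι → Fin m) F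

/-- The vector at the factor `j` over an index of the others. -/
def slice (j : ι) (z : (ι → Fin m) → F) (r : {i // i ≠ j} → Fin m) : Fin m → F :=
  fun a => z ((TensorPowerMax.Basic.split j).symm (r, a))

theorem slice_ins (j : ι) (v : W1) (u : ({i // i ≠ j} → Fin m) → F) (r : {i // i ≠ j} → Fin m) :
    slice j (ins j v u) r = u r • v := by
  funext a
  show u (TensorPowerMax.Basic.split j ((TensorPowerMax.Basic.split j).symm (r, a))).1 *
    v ((TensorPowerMax.Basic.split j).symm (r, a) j) = _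
  rw [Equiv.apply_symm_apply, split_symm_self]
  rfl

theorem mem_block_of_slice {j : ι} {u : W1} (hu : u ≠ 0) {z : VV}
    (h : ∀ r, slice j z r ∈ Submodule.span F {u}) : z ∈ block j u := by
  rw [mem_block_iff hu]
  intro φ hφ
  funext r
  obtain ⟨c, hc⟩ := Submodule.mem_span_singleton.1 (h r)
  show φ ⬝ᵥ slice j z r = 0
  rw [← hc, dotProduct_smul, hφ, smul_zero]

theorem const_ne_zero (hm : 3 ≤ m) (j : ι) : (fun _ => 1 : ({i // i ≠ j} → Fin m) → F) ≠ 0 := fun e =>
  one_ne_zero (congrFun e fun _ => ⟨0, by omega⟩)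

/-- A pure vector in a product of blocks has its factor in their span. -/
theorem dot_eq_zero_of_pv {j : ι} {s : ι → W1} (hs : ∀ i, s i ≠ 0) {φ : W1} (h : ctr j φ (pv s) = 0) :
    φ ⬝ᵥ s j = 0 := by
  rw [ctr_pv, smul_eq_zero] at h
  exact h.resolve_right (pv_ne_zero fun i => hs i.1)

/-- An element of the stabiliser fixing a block, moving everything into `U`, is one-factor. -/
theorem one_of_stab (hf : Cfsg.Geo.IsUnitaryForm σ f) (hm : 3 ≤ m) {j : ι} {w : W1} (hw : w ≠ 0)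
    {Q : Submodule F W1} (hwQ : w ∈ Q) {U : Submodule F VV}
    (hUQ : ∀ z ∈ U, z ∈ perp f j w → ∀ φ : W1, (∀ q ∈ Q, φ ⬝ᵥ q = 0) → ctr j φ z = 0)
    (hQ : ∀ d : W1, (∀ u, ins j d u ∈ U) → d ∈ Q) {y0 φ0 : W1} (hy0 : f y0 w = 0)
    (hφ0 : ∀ q ∈ Q, φ0 ⬝ᵥ q = 0) (h01 : φ0 ⬝ᵥ y0 = 1) {x : GG} (hxi : x ∈ isoG (Bf σ f))
    (hxs : x ∈ stab ι m F) (hxU : ∀ z, (x : Big) *ᵥ z - z ∈ U)
    (hxB : ∀ z ∈ block j w, (x : Big) *ᵥ z ∈ block j w) :
    ∃ D : A1, (∀ y, D *ᵥ y ∈ Q) ∧ ∀ y u, (x : Big) *ᵥ ins j y u = ins j y u + ins j (D *ᵥ y) u := by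
  classical
  obtain ⟨a, π, rfl⟩ := hxs
  have hy0w : y0 ∉ Submodule.span F {w} := fun e => by
    obtain ⟨c, rfl⟩ := Submodule.mem_span_singleton.1 e
    rw [dotProduct_smul, hφ0 w hwQ, smul_zero] at h01
    exact zero_ne_one h01
  have hy00 : y0 ≠ 0 := fun e => hy0w (e ▸ Submodule.zero_mem _)
  have hmap : (block j w).map (Matrix.mulVecLin ((ptGL a * pmGL π : GG) : Big)) = block j w := by
    refine Submodule.eq_of_le_of_finrank_le (fun z hz => ?_) ?_
    · obtain ⟨y, hy, rfl⟩ := hz; exact hxB y hy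
    · rw [tw_map_block hf a π hw, finrank_block hw, finrank_block (gl_ne_zero _ hw)]
  have hmap' := tw_map_block hf a π (i := j) hw
  rw [hmap] at hmap'
  have hπ : π j = j := by
    by_contra hne
    set s : ι → W1 := fun k => if k = π j then (a (π j) : A1) *ᵥ w else y0
    have hs : ∀ k, s k ≠ 0 := fun k => by
      simp only [s]; split_ifs
      · exact gl_ne_zero _ hw
      · exact hy00
    have h1 : pv s ∈ block j w := by rw [hmap']; exact pv_mem_block (by simp [s])
    have h2 := TensorPowerMax.Rigid.mem_span_of_pv_block hw hs h1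
    simp only [s, if_neg (Ne.symm hne)] at h2
    exact hy0w h2
  rw [hπ] at hmap'
  rw [kj_tw a π hπ] at hxi hxU hmap ⊢
  set R := ptGL (fun i : {i // i ≠ j} => a i.1) * pmGL (TensorPowerMax.Split.restrict π hπ)
  set b := a j
  haveI := TensorPowerMax.Roots.rest_nonempty (ι := ι) hm j
  set μ := φ0 ⬝ᵥ ((b : A1) *ᵥ y0)
  have hRu : ∀ u, μ • (R.val *ᵥ u) = u := by
    intro u
    have hperp : (kj j R b : GG).val *ᵥ ins j y0 u ∈ perp f j w := LinearMap.mem_ker.2 <|
      ctr_eq_zero_of hf j fun p => by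
        obtain ⟨_, ⟨p', rfl⟩, hp'⟩ := (hmap.symm ▸ LinearMap.mem_range_self (ins j w) p :
          ins j w p ∈ (block j w).map (Matrix.mulVecLin (kj j R b : GG).val))
        rw [← hp', show Matrix.mulVecLin (kj j R b : GG).val (ins j w p') = (kj j R b : GG).val *ᵥ ins j w p' from rfl,
          iso_apply hxi, Bf_ins_ins hf, hy0, zero_mul]
    have hy : ins j y0 u ∈ perp f j w := LinearMap.mem_ker.2 (by rw [ctr_hv_ins hf, hy0, zero_smul])
    have h1 := hUQ _ (hxU (ins j y0 u)) (Submodule.sub_mem _ hperp hy) φ0 hφ0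
    rwa [kj_ins, map_sub, ctr_ins, ctr_ins, h01, one_smul, sub_eq_zero] at h1
  have hμ : μ ≠ 0 := fun e => by
    have := congrFun (hRu fun _ => 1) (Classical.arbitrary _)
    simp [e] at this
  have hx : ∀ y u, (kj j R b : GG).val *ᵥ ins j y u = ins j ((μ⁻¹ • (b : A1)) *ᵥ y) u := by
    intro y u
    rw [kj_ins, smul_mulVec, ins_smul, ← map_smul]
    congr 1
    conv_rhs => rw [← hRu u, inv_smul_smul₀ hμ]
  refine ⟨μ⁻¹ • (b : A1) - 1, fun y => hQ _ fun u => ?_, fun y u => ?_⟩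
  · have := hxU (ins j y u)
    rwa [hx, ← ins_sub_left, show (μ⁻¹ • (b : A1)) *ᵥ y - y = (μ⁻¹ • (b : A1) - 1) *ᵥ y by
      rw [sub_mulVec, one_mulVec]] at this
  · rw [hx, sub_mulVec, one_mulVec, ins_sub_left, add_sub_cancel]

/-- A one-factor isometry moving along one isotropic vector is a root element. -/
theorem root_of_one [Finite F] (hf : Cfsg.Geo.IsUnitaryForm σ f) (hm : 3 ≤ m) {j : ι} {w : W1} (hw : w ≠ 0)
    (hww : f w w = 0) {x : GG} (hxi : x ∈ isoG (Bf σ f)) {D : A1} (hD : ∀ y, D *ᵥ y ∈ Submodule.span F {w})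
    (hx : ∀ y u, (x : Big) *ᵥ ins j y u = ins j y u + ins j (D *ᵥ y) u) :
    ∃ γ, γ + σ γ = 0 ∧ x = rt f j w γ := by
  haveI := TensorPowerMax.Roots.rest_nonempty (ι := ι) hm j
  choose c hc using fun y => Submodule.mem_span_singleton.1 (hD y)
  obtain ⟨w', hw'w', hp, hp'⟩ := exists_partner hf hw hww
  obtain ⟨u, -, hu⟩ := exists_anisotropic (Bf_unitary (ι := {k // k ≠ j}) hf)
    (![] : Fin 0 → ({k // k ≠ j} → Fin m) → F) (Fintype.card_pos_iff.2 inferInstance)
  have h : ∀ y y', f (y + c y • w) (y' + c y' • w) = f y y' := fun y y' => by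
    have h0 := iso_apply hxi (ins j y u) (ins j y' u)
    rw [hx, hx, ← hc, ← hc, ← ins_add_left, ← ins_add_left, Bf_ins_ins hf, Bf_ins_ins hf] at h0
    exact mul_right_cancel₀ hu h0
  have h1 : ∀ y, c y = -(σ (c w') * f y w) := fun y => by
    have h0 := h y w'
    simp only [hf.add_left, add_right hf, hf.smul_left, smul_right hf, hww, hp, mul_zero, add_zero, mul_one] at h0
    linear_combination h0
  have hskew : c w' + σ (c w') = 0 := by
    have := h1 w'
    rw [hp', mul_one] at this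
    linear_combination this
  refine ⟨c w', hskew, gl_ext_ins j fun y u => ?_⟩
  rw [hx, rt_ins hf hww, ← hc, ins_smul, h1 y]
  congr 2
  linear_combination -(f y w) * hskew

/-- Two involutions which are not conjugate centralise a further one. -/
theorem exists_central {G : Type*} [Group G] [Finite G] {s t : G} (hs : s * s = 1) (ht : t * t = 1)
    (hne : ∀ k : G, k * t * k⁻¹ ≠ s) :
    ∃ n : ℕ, (s * t) ^ n ≠ 1 ∧ (s * t) ^ n * s = s * (s * t) ^ n ∧ (s * t) ^ n * t = t * (s * t) ^ n := by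
  set c := s * t
  have hsi : s⁻¹ = s := inv_eq_of_mul_eq_one_right hs
  have hti : t⁻¹ = t := inv_eq_of_mul_eq_one_right ht
  have hsc : s * c * s⁻¹ = c⁻¹ := by
    rw [_root_.mul_inv_rev, hsi, hti, ← mul_assoc s s t, hs, one_mul]
  have htc : t * c * t⁻¹ = c⁻¹ := by
    rw [_root_.mul_inv_rev, hsi, hti, mul_assoc, mul_assoc s t t, ht, mul_one]
  have hsn : ∀ n : ℕ, s * c ^ n = (c ^ n)⁻¹ * s := fun n => by
    rw [← inv_pow, ← hsc, conj_pow, inv_mul_cancel_right]
  have htn : ∀ n : ℕ, t * c ^ n = (c ^ n)⁻¹ * t := fun n => by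
    rw [← inv_pow, ← htc, conj_pow, inv_mul_cancel_right]
  have hn := pow_orderOf_eq_one c
  rcases Nat.even_or_odd (orderOf c) with ⟨k, hk⟩ | ⟨k, hk⟩
  · have hk0 : 0 < k := by have := orderOf_pos c; omega
    have hinv : (c ^ k)⁻¹ = c ^ k := inv_eq_of_mul_eq_one_right (by rw [← pow_add, ← hk, hn])
    refine ⟨k, pow_ne_one_of_lt_orderOf (by omega) (by omega), ?_, ?_⟩
    · rw [hsn, hinv]
    · rw [htn, hinv]
  · exfalso
    refine hne (c ^ k)⁻¹ ?_
    have hk1 : (c ^ k)⁻¹ * (c ^ k)⁻¹ = c := by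
      rw [← _root_.mul_inv_rev, ← pow_add]
      refine inv_eq_of_mul_eq_one_left ?_
      rw [← pow_succ', show k + k + 1 = orderOf c by omega, hn]
    rw [inv_inv, mul_assoc, htn, ← mul_assoc, hk1]
    show s * t * t = s
    rw [mul_assoc, ht, mul_one]

end Cfsg.Agent.Lib.UnitaryPowerMax.Near
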