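import Cfsg.Agent.Lib.UnitaryPowerMax.Rad

/-!
A matrix algebra on a tensor power normalised by the one-factor special unitary groups contains a full
factor unless it is scalar.
-/

set_option autoImplicit false
set_option linter.unusedSectionVars false

namespace Cfsg.Agent.Lib.UnitaryPowerMax.Alg

open Matrix
open Cfsg.Agent.Lib.Subspaces.Transvection Cfsg.Agent.Lib.Subspaces.FormVec
  Cfsg.Agent.Lib.Subspaces.UnitaryForm Cfsg.Agent.Lib.TensorPowerMax.Basic
  Cfsg.Agent.Lib.UnitaryPowerMax.Form Cfsg.Agent.Lib.UnitaryPowerMax.Rad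

variable {ι : Type} [Fintype ι] [DecidableEq ι] {m : ℕ} {F : Type*} [Field F] {σ : F ≃+* F}
  {f : (Fin m → F) → (Fin m → F) → F}

local notation "A1" => Matrix (Fin m) (Fin m) F
local notation "W1" => Fin m → F
local notation "VV" => (ι → Fin m) → F
local notation "Big" => Matrix (ι → Fin m) (ι → Fin m) F
local notation "GG" => GL (ι → Fin m) F

/-- Normalised by the one-factor special unitary groups. -/
def Inv (f : (Fin m → F) → (Fin m → F) → F) (S : Subalgebra F (Matrix (ι → Fin m) (ι → Fin m) F)) : Prop :=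
  ∀ (i : ι), ∀ g ∈ SU1 f, ∀ A ∈ S,
    (oneGL i g : GL (ι → Fin m) F).val * A * ((oneGL i g)⁻¹ : GL (ι → Fin m) F).val ∈ S

/-- The group generated by the one-factor special unitary groups. -/
def grp (ι : Type) [Fintype ι] [DecidableEq ι] (f : (Fin m → F) → (Fin m → F) → F) :
    Subgroup (GL (ι → Fin m) F) :=
  Subgroup.closure {x | ∃ i, ∃ g ∈ SU1 f, x = oneGL i g}

theorem oneGL_one (i : ι) : oneGL i (1 : GL (Fin m) F) = 1 := by
  rw [oneGL, Function.update_eq_self_iff.2 (by simp), map_one]

theorem oneGL_inv (i : ι) (g : GL (Fin m) F) : (oneGL i g)⁻¹ = oneGL i g⁻¹ :=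
  inv_eq_of_mul_eq_one_right (by rw [TensorPowerMax.Fixed.oneGL_mul, mul_inv_cancel, oneGL_one])

theorem inv_grp {S : Subalgebra F Big} (hS : Inv f S) {x : GG} (hx : x ∈ grp ι f) {A : Big} (hA : A ∈ S) :
    x.val * A * (x⁻¹ : GG).val ∈ S := by
  induction hx using Subgroup.closure_induction'' generalizing A with
  | one => simpa using hA
  | mem x hx => obtain ⟨i, g, hg, rfl⟩ := hx; exact hS i g hg A hA
  | inv_mem x hx =>
    obtain ⟨i, g, hg, rfl⟩ := hx
    have := hS i g⁻¹ (inv_mem hg) A hA
    rwa [← oneGL_inv] at this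
  | mul x y _ _ h1 h2 =>
    have := h1 (h2 hA)
    simpa [Units.val_mul, mul_assoc] using this

/-- An element at the factor `i` built from a vector, a functional and a matrix of the rest. -/
def el (i : ι) (v φ : Fin m → F) (R : Matrix ({k // k ≠ i} → Fin m) ({k // k ≠ i} → Fin m) F) :
    Matrix (ι → Fin m) (ι → Fin m) F :=
  LinearMap.toMatrix' ((ins i v).comp ((Matrix.mulVecLin R).comp (ctr i φ)))

theorem el_mulVec (i : ι) (v φ : W1) (R) (z : VV) :
    el i v φ R *ᵥ z = ins i v (R *ᵥ ctr i φ z) := LinearMap.toMatrix'_mulVec _ z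

theorem el_ins (i : ι) (v φ : W1) (R) (y : W1) (u : ({k // k ≠ i} → Fin m) → F) :
    el i v φ R *ᵥ ins i y u = (φ ⬝ᵥ y) • ins i v (R *ᵥ u) := by
  rw [el_mulVec, ctr_ins, mulVec_smul, map_smul]

theorem el_mul (i : ι) (v φ v' φ' : W1) (R R') :
    el i v φ R * el i v' φ' R' = (φ ⬝ᵥ v') • el i v φ' (R * R') :=
  ext_ins i fun y u => by
    rw [← mulVec_mulVec, el_ins, mulVec_smul, el_ins, smul_mulVec, el_ins, smul_smul, smul_smul, mulVec_mulVec,
      mul_comm]

theorem el_smul (i : ι) (c : F) (v φ : W1) (R) : el i v φ (c • R) = c • el i v φ R :=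
  ext_ins i fun y u => by
    rw [smul_mulVec, el_ins, el_ins, smul_mulVec, map_smul, smul_comm]

theorem el_add (i : ι) (v φ : W1) (R R') : el i v φ (R + R') = el i v φ R + el i v φ R' :=
  ext_ins i fun y u => by
    rw [add_mulVec, el_ins, el_ins, el_ins, add_mulVec, map_add, smul_add]

theorem el_vec_smul (i : ι) (c : F) (v φ : W1) (R) : el i (c • v) φ R = c • el i v φ R :=
  ext_ins i fun y u => by rw [smul_mulVec, el_ins, el_ins, ins_smul, smul_comm]

theorem el_vec_add (i : ι) (v v' φ : W1) (R) : el i (v + v') φ R = el i v φ R + el i v' φ R :=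
  ext_ins i fun y u => by rw [add_mulVec, el_ins, el_ins, el_ins, ins_add_left, smul_add]

theorem el_ax_smul (i : ι) (c : F) (v φ : W1) (R) : el i v (c • φ) R = c • el i v φ R :=
  ext_ins i fun y u => by rw [smul_mulVec, el_ins, el_ins, smul_dotProduct, smul_eq_mul, smul_smul]

theorem el_ax_add (i : ι) (v φ φ' : W1) (R) : el i v (φ + φ') R = el i v φ R + el i v φ' R :=
  ext_ins i fun y u => by rw [add_mulVec, el_ins, el_ins, el_ins, add_dotProduct, add_smul]

theorem el_one (i : ι) (v φ : W1) : el i v φ (1 : Matrix ({k // k ≠ i} → Fin m) _ F) = oneM i (vecMulVec v φ) :=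
  ext_ins i fun y u => by
    rw [el_ins, one_mulVec, TensorPowerMax.Roots.oneM_mulVec_ins, vecMulVec_mulVec, op_smul_eq_smul, ins_smul]

theorem el_ne_zero {i : ι} {v φ : W1} (hv : v ≠ 0) (hφ : φ ≠ 0) {R} (hR : R ≠ 0) : el i v φ R ≠ 0 := by
  intro e
  obtain ⟨y, hy⟩ := exists_dot_eq_one hφ
  rw [dotProduct_comm] at hy
  refine hR (Matrix.mulVec_injective (funext fun u => ins_injective hv ?_))
  have h := el_ins i v φ R y u
  rw [e, zero_mulVec, hy, one_smul] at h
  rw [← h, zero_mulVec, map_zero]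

/-- The entry of a matrix at a pair of vectors of the factor `i`. -/
def ent (i : ι) (A : Matrix (ι → Fin m) (ι → Fin m) F) (v φ : Fin m → F) :
    Matrix ({k // k ≠ i} → Fin m) ({k // k ≠ i} → Fin m) F :=
  LinearMap.toMatrix' ((ctr i φ).comp ((Matrix.mulVecLin A).comp (ins i v)))

theorem ent_mulVec (i : ι) (A : Big) (v φ : W1) (u) : ent i A v φ *ᵥ u = ctr i φ (A *ᵥ ins i v u) :=
  LinearMap.toMatrix'_mulVec _ u

theorem el_mid (i : ι) (A : Big) (v φ v' φ' : W1) :
    el i v φ 1 * A * el i v' φ' 1 = el i v φ' (ent i A v' φ) :=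
  ext_ins i fun y u => by
    rw [← mulVec_mulVec, ← mulVec_mulVec, el_ins, one_mulVec, mulVec_smul, mulVec_smul, el_mulVec, one_mulVec,
      el_ins, ent_mulVec]

/-- Elements of the rest acting on the whole space. -/
def up (i : ι) : GL ({k // k ≠ i} → Fin m) F →* GL (ι → Fin m) F where
  toFun R := (spU i).symm (TensorPowerMax.Side.kronGL R 1)
  map_one' := by rw [TensorPowerMax.BlockTo.kronGL_one, map_one]
  map_mul' R R' := by rw [← map_mul, TensorPowerMax.BlockTo.kronGL_mul, one_mul]

theorem up_grp (i : ι) {R : GL ({k // k ≠ i} → Fin m) F} (hR : R ∈ grp {k // k ≠ i} f) :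
    up i R ∈ grp ι f := by
  have hle : grp {k // k ≠ i} f ≤ (grp ι f).comap (up i) := (Subgroup.closure_le _).2 fun x hx => by
    obtain ⟨l, g, hg, rfl⟩ := hx
    refine Subgroup.subset_closure ⟨l.1, g, hg, ?_⟩
    show (spU i).symm _ = _
    rw [MulEquiv.symm_apply_eq, TensorPowerMax.Split.spU_oneGL_ne l.2]
  exact hle hR

theorem up_mulVec (i : ι) (R : GL ({k // k ≠ i} → Fin m) F) (v : W1) (u : ({k // k ≠ i} → Fin m) → F) :
    (up i R).val *ᵥ ins i v u = ins i v (R.val *ᵥ u) := by
  have h := TensorPowerMax.Roots.sp_mulVec i (up i R).val (ins i v u)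
  rw [← coe_spU, show spU i (up i R) = TensorPowerMax.Side.kronGL R 1 from (spU i).apply_symm_apply _,
    TensorPowerMax.Roots.ins_comp] at h
  have e : (TensorPowerMax.Side.kronGL R (1 : GL (Fin m) F)).val *ᵥ TensorPowerMax.Side.tens u v =
      TensorPowerMax.Side.tens (R.val *ᵥ u) v :=
    (TensorPowerMax.Side.kron_mulVec_tens R.val _ u v).trans (by rw [Units.val_one, one_mulVec])
  rw [e, ← TensorPowerMax.Roots.ins_comp] at h
  ext x
  simpa using (congrFun h (TensorPowerMax.Basic.split i x)).symm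

/-- Conjugating an element at the factor `i`. -/
theorem conj_el (i : ι) (g : GL (Fin m) F) (R : GL ({k // k ≠ i} → Fin m) F) (v φ : W1) (A) :
    (oneGL i g * up i R).val * el i v φ A * ((oneGL i g * up i R)⁻¹ : GG).val =
      el i ((g : A1) *ᵥ v) (φ ᵥ* ((g⁻¹ : GL (Fin m) F) : A1)) (R.val * A * (R⁻¹ : GL _ F).val) := by
  set h : GG := oneGL i g * up i R
  have hins : ∀ y u, h.val *ᵥ ins i y u = ins i ((g : A1) *ᵥ y) (R.val *ᵥ u) := fun y u => by
    rw [gl_mul_mulVec, up_mulVec, one_mulVec_ins]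
  have key : h.val * el i v φ A =
      el i ((g : A1) *ᵥ v) (φ ᵥ* ((g⁻¹ : GL (Fin m) F) : A1)) (R.val * A * (R⁻¹ : GL _ F).val) * h.val :=
    ext_ins i fun y u => by
      rw [← mulVec_mulVec, ← mulVec_mulVec, el_ins, mulVec_smul, hins, hins, el_ins, ← dotProduct_mulVec,
        gl_inv_mulVec, mulVec_mulVec, mulVec_mulVec, Matrix.mul_assoc (R.val * A), ← Units.val_mul, inv_mul_cancel,
        Units.val_one, mul_one]
  rw [key, mul_assoc, ← Units.val_mul, mul_inv_cancel, Units.val_one, mul_one]

variable (hf : Cfsg.Geo.IsUnitaryForm σ f) (hN : ∀ r : F, σ r = r → ∃ c, c * σ c = r) (hm : 3 ≤ m)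

include hf hN hm

/-- An invariant algebra on one factor is scalar or everything. -/
theorem factor_top [Finite F] {S : Subalgebra F A1}
    (hS : ∀ g ∈ SU1 f, ∀ A ∈ S, (g : A1) * A * ((g⁻¹ : GL (Fin m) F) : A1) ∈ S)
    (hns : ∃ A ∈ S, ∀ c : F, A ≠ c • 1) : S = ⊤ := by
  have hinv : TensorFormMax.InvariantAlgebra.Invariant f S := by
    intro g g' hgg hd hiso A hA
    let gg : GL (Fin m) F := ⟨g, g', hgg, mul_eq_one_comm.1 hgg⟩
    exact hS gg ⟨fun x y => hiso x y, (mem_specialLinear_iff gg).2 hd⟩ A hA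
  obtain ⟨e, he, he'⟩ := exists_skew_scalar hf
  exact TensorFormMax.InvariantAlgebra.eq_top (TensorFormMax.UnitSide.sform hf) hinv (by omega)
    (fun a ha haa => TensorFormMax.UnitSide.span_nonorth hf ha haa) (by
      obtain ⟨v, hv, hvv, -⟩ := TensorFormMax.UnitSide.exists_iso_orth hf hN (![] : Fin 0 → W1) (by omega)
      exact ⟨v, hv, hvv⟩) ⟨e, he, by rw [one_mul]; exact he'⟩ (Or.inl hm)
    fun w hw => TensorFormMax.UnitSide.no_line hf hN (by omega) (Or.inl hm) S hinv hns w hw

omit hf hN hm in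
/-- An algebra containing every factor is everything. -/
theorem eq_top_of_factors {S : Subalgebra F Big} (h : ∀ (i : ι) (D : A1), oneM i D ∈ S) : S = ⊤ := by
  refine eq_top_iff.2 fun A _ => ?_
  rw [Matrix.matrix_eq_sum_single A]
  refine sum_mem fun x _ => sum_mem fun y _ => ?_
  have hall : ∀ a : ι → A1, pt a ∈ S := by
    intro a
    suffices hK : ∀ K : Finset ι, pt (K.piecewise a 1) ∈ S by simpa [Finset.piecewise_univ] using hK Finset.univ
    intro K
    induction K using Finset.induction_on with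
    | empty => rw [Finset.piecewise_empty, pt_one]; exact S.one_mem
    | insert k K hk ih =>
      have := S.mul_mem (h k (a k)) ih
      rw [oneM, pt_mul] at this
      convert this using 2
      ext1 l
      by_cases hl : l = k
      · subst hl; simp [hk]
      · simp [Finset.piecewise, Function.update_of_ne hl, hl]
  have := S.smul_mem (hall fun i => Matrix.single (x i) (y i) (1 : F)) (A x y)
  rwa [pt_single, Matrix.smul_single, smul_eq_mul, mul_one] at this

/-- The one-factor algebra of an algebra on the tensor power. -/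
def fac (S : Subalgebra F Big) (i : ι) : Subalgebra F A1 where
  carrier := {D | oneM i D ∈ S}
  mul_mem' {D E} hD hE := by have := S.mul_mem hD hE; rwa [oneM_mul] at this
  one_mem' := by show oneM i 1 ∈ S; rw [oneM_one]; exact S.one_mem
  add_mem' {D E} hD hE := by have := S.add_mem hD hE; rwa [← oneM_add] at this
  zero_mem' := by show oneM i 0 ∈ S; rw [oneM_zero]; exact S.zero_mem
  algebraMap_mem' c := by
    show oneM i _ ∈ S
    rw [Algebra.algebraMap_eq_smul_one, oneM_smul, oneM_one]
    exact S.smul_mem S.one_mem c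

theorem fac_top [Finite F] {S : Subalgebra F Big} (hS : Inv f S) {i : ι} {D : A1} (hD : oneM i D ∈ S)
    (hns : ∀ c : F, D ≠ c • 1) : ∀ D' : A1, oneM i D' ∈ S := by
  have htop := factor_top hf hN hm (S := fac S i) (fun g hg A hA => ?_) ⟨D, hD, hns⟩
  · exact fun D' => (htop ▸ Algebra.mem_top : D' ∈ fac S i)
  · show oneM i _ ∈ S
    have := hS i g hg _ hA
    rwa [coe_oneGL, oneGL_inv,
      coe_oneGL, oneM_mul, oneM_mul] at this

/-- Two non-zero matrices are linked by an element of the group. -/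
theorem exists_link [Finite F] {a b : Big} (ha : a ≠ 0) (hb : b ≠ 0) :
    ∃ x ∈ grp ι f, a * x.val * b ≠ 0 := by
  by_contra hc
  push Not at hc
  let W : Submodule F VV := ⨅ x : grp ι f, LinearMap.ker (Matrix.mulVecLin (a * (x : GG).val))
  have hW : ∀ z, z ∈ W ↔ ∀ x ∈ grp ι f, (a * (x : GG).val) *ᵥ z = 0 := fun z => by
    simp [W, Submodule.mem_iInf]
  let S : Subalgebra F Big :=
    { carrier := {A | ∀ z ∈ W, A *ᵥ z ∈ W}
      mul_mem' := fun {A B} hA hB z hz => by rw [← mulVec_mulVec]; exact hA _ (hB z hz)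
      one_mem' := fun z hz => by rwa [one_mulVec]
      add_mem' := fun {A B} hA hB z hz => by rw [add_mulVec]; exact W.add_mem (hA z hz) (hB z hz)
      zero_mem' := fun z _ => by rw [zero_mulVec]; exact W.zero_mem
      algebraMap_mem' := fun c z hz => by
        rw [Algebra.algebraMap_eq_smul_one, smul_mulVec, one_mulVec]; exact W.smul_mem c hz }
  have hgS : ∀ x ∈ grp ι f, (x : GG).val ∈ S := fun x hx z hz => (hW _).2 fun y hy => by
    rw [mulVec_mulVec, Matrix.mul_assoc, ← Units.val_mul]
    exact (hW z).1 hz _ (mul_mem hy hx)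
  have hS : Inv f S := fun i g hg A hA => by
    have h1 := Subgroup.subset_closure (k := {x : GG | ∃ i, ∃ g ∈ SU1 f, x = oneGL i g}) ⟨i, g, hg, rfl⟩
    exact S.mul_mem (S.mul_mem (hgS _ h1) hA) (hgS _ (inv_mem h1))
  have htop : S = ⊤ := eq_top_of_factors fun i => by
    obtain ⟨v, hv, hvv, -⟩ := TensorFormMax.UnitSide.exists_iso_orth hf hN (![] : Fin 0 → W1) (by omega)
    obtain ⟨e, he, he'⟩ := exists_skew_scalar hf
    obtain ⟨t, ht, htz⟩ := exists_tvec hf hvv he'
    obtain ⟨v', -, hp, hp'⟩ := exists_partner hf hv hvv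
    refine fac_top hf hN hm hS (D := (t : A1)) ?_ fun c hc' => ?_
    · rw [← coe_oneGL]
      exact hgS _ (Subgroup.subset_closure ⟨i, t, ht, rfl⟩)
    · have h1 := htz v'
      have h2 := htz v
      rw [hc', smul_mulVec, one_mulVec, hvv, mul_zero, zero_smul, add_zero] at h2
      rw [hc', smul_mulVec, one_mulVec, hp', mul_one] at h1
      have hc1 : c = 1 := by
        by_contra hne
        exact hv ((smul_eq_zero.1 (show (c - 1) • v = 0 by rw [sub_smul, h2, one_smul, sub_self])).resolve_left
          (sub_ne_zero.2 hne))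
      rw [hc1, one_smul, left_eq_add, smul_eq_zero] at h1
      exact h1.elim he hv
  rcases eq_or_ne W ⊥ with hbot | hbot
  · refine hb (Matrix.mulVec_injective (funext fun z => ?_))
    rw [zero_mulVec]
    have : b *ᵥ z ∈ W := (hW _).2 fun x hx => by rw [mulVec_mulVec, hc x hx, zero_mulVec]
    rwa [hbot, Submodule.mem_bot] at this
  · obtain ⟨z0, hz0, hne⟩ := Submodule.exists_mem_ne_zero_of_ne_bot hbot
    refine ha (Matrix.mulVec_injective (funext fun y => ?_))
    obtain ⟨φ, hφ⟩ := exists_dot_eq_one hne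
    have hy : y ∈ W := by
      have := (htop ▸ Algebra.mem_top : vecMulVec y φ ∈ S) z0 hz0
      rwa [vecMulVec_mulVec, op_smul_eq_smul, hφ, one_smul] at this
    have := (hW y).1 hy 1 (one_mem _)
    rw [zero_mulVec]
    simpa using this

omit hN in
/-- A sesquilinear function vanishing on the isotropic vectors is a multiple of the form. -/
theorem sesq_vanish [Finite F] (s : W1 → W1 → F) (haddl : ∀ x y z, s (x + y) z = s x z + s y z)
    (haddr : ∀ x y z, s x (y + z) = s x y + s x z) (hsl : ∀ (c : F) x y, s (c • x) y = c * s x y)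
    (hsr : ∀ (c : F) x y, s x (c • y) = σ c * s x y) (hiso : ∀ u, f u u = 0 → s u u = 0)
    {w w' : W1} (hww : f w w = 0) (hw'w' : f w' w' = 0) (hp : f w w' = 1) :
    ∀ x y, s x y = s w w' * f x y := by
  have _ := hm
  have hp' : f w' w = 1 := by rw [hf.herm, hp, map_one]
  have hl := isLinearLeft_of_unitary hf
  obtain ⟨e, he, he'⟩ := exists_skew_scalar hf
  have hσe : σ e = -e := eq_neg_of_add_eq_zero_right he'
  set c0 := s w w'
  have hsw : s w' w = c0 := by
    have h1 := hiso (w + e • w') (by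
      rw [expand_add_smul hf, hww, hw'w', hp', mul_one, he', mul_zero, add_zero, add_zero])
    simp only [haddl, haddr, hsl, hsr, hiso w hww, hiso w' hw'w', hσe] at h1
    have h2 : e * (s w' w - c0) = 0 := by linear_combination h1
    exact sub_eq_zero.1 ((mul_eq_zero.1 h2).resolve_left he)
  obtain ⟨a, b, ha, hb, ha1, hb1, hab⟩ := TensorFormMax.UnitSide.exists_norm_one hf
  have hY : ∀ y, f y w = 0 → f y w' = 0 →
      s y w = 0 ∧ s y w' = 0 ∧ s w y = 0 ∧ s w' y = 0 ∧ s y y = c0 * f y y := by
    intro y hyw hyw'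
    have hwy : f w y = 0 := swap_eq_zero hf hyw
    have hw'y : f w' y = 0 := swap_eq_zero hf hyw'
    have key : ∀ γ : F, γ + σ γ = -f y y →
        s y y - c0 * f y y = 0 ∧ s y w + σ γ * s y w' = 0 ∧ s w y + γ * s w' y = 0 := by
      intro γ hγ
      have hE : ∀ μ : F, μ * σ μ = 1 → μ * (s y y - c0 * f y y) + μ * μ * (s y w + σ γ * s y w') +
          (s w y + γ * s w' y) = 0 := by
        intro μ hμ
        have h1 := hiso (w + μ • y + γ • w') (by
          simp only [hf.add_left, add_right hf, hf.smul_left, smul_right hf, hww, hw'w', hp, hp', hyw, hyw', hwy,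
            hw'y]
          linear_combination hγ + f y y * hμ)
        simp only [haddl, haddr, hsl, hsr, hiso w hww, hiso w' hw'w', hsw] at h1
        linear_combination μ * h1 - μ * c0 * hγ - (μ * s y y + s w y + γ * s w' y) * hμ
      have h1 := hE 1 (by rw [map_one, one_mul])
      have h2 := hE a ha
      have h3 := hE b hb
      have hX : s y w + σ γ * s y w' = 0 := by
        have e1 : (1 - a) * ((s y y - c0 * f y y) + (1 + a) * (s y w + σ γ * s y w')) = 0 := by
          linear_combination h1 - h2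
        have e2 : (1 - b) * ((s y y - c0 * f y y) + (1 + b) * (s y w + σ γ * s y w')) = 0 := by
          linear_combination h1 - h3
        have e1' := (mul_eq_zero.1 e1).resolve_left (sub_ne_zero.2 ha1.symm)
        have e2' := (mul_eq_zero.1 e2).resolve_left (sub_ne_zero.2 hb1.symm)
        have e3 : (a - b) * (s y w + σ γ * s y w') = 0 := by linear_combination e1' - e2'
        exact (mul_eq_zero.1 e3).resolve_left (sub_ne_zero.2 hab)
      rw [hX] at h1 h2
      have e1 : (1 - a) * (s y y - c0 * f y y) = 0 := by linear_combination h1 - h2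
      have hK := (mul_eq_zero.1 e1).resolve_left (sub_ne_zero.2 ha1.symm)
      rw [hK] at h1
      exact ⟨hK, hX, by linear_combination h1⟩
    obtain ⟨γ, hγ⟩ := exists_trace hf (r := -f y y) (by rw [map_neg, self_fixed hf])
    obtain ⟨hK, hX, hY'⟩ := key γ hγ
    obtain ⟨-, hX', hY''⟩ := key (γ + e) (by rw [map_add]; linear_combination hγ + he')
    have h4 : e * s y w' = 0 := by rw [map_add, hσe] at hX'; linear_combination hX - hX'
    have h5 : e * s w' y = 0 := by linear_combination hY'' - hY'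
    have h4' := (mul_eq_zero.1 h4).resolve_left he
    have h5' := (mul_eq_zero.1 h5).resolve_left he
    rw [h4', mul_zero, add_zero] at hX
    rw [h5', mul_zero, add_zero] at hY'
    exact ⟨hX, h4', hY', h5', sub_eq_zero.1 hK⟩
  obtain ⟨l, hl1⟩ : ∃ l, σ l ≠ l := by
    by_contra h
    push Not at h
    exact hf.ne_refl (RingEquiv.ext h)
  have hYY : ∀ y y', f y w = 0 → f y w' = 0 → f y' w = 0 → f y' w' = 0 → s y y' = c0 * f y y' := by
    intro y y' h1 h2 h3 h4
    have hq : ∀ t : F, σ t * (s y y' - c0 * f y y') + t * (s y' y - c0 * f y' y) = 0 := by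
      intro t
      have := (hY (y + t • y') (by rw [hf.add_left, hf.smul_left, h1, h3]; ring)
        (by rw [hf.add_left, hf.smul_left, h2, h4]; ring)).2.2.2.2
      simp only [haddl, haddr, hsl, hsr, hf.add_left, add_right hf, hf.smul_left, smul_right hf] at this
      linear_combination this - (hY y h1 h2).2.2.2.2 - t * σ t * (hY y' h3 h4).2.2.2.2
    have e1 := hq 1
    have e2 := hq l
    rw [map_one] at e1
    have e3 : (σ l - l) * (s y y' - c0 * f y y') = 0 := by linear_combination e2 - l * e1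
    exact sub_eq_zero.1 ((mul_eq_zero.1 e3).resolve_left (sub_ne_zero.2 hl1))
  intro x y
  set x0 := x - f x w' • w - f x w • w'
  set y0 := y - f y w' • w - f y w • w'
  have hx0 : f x0 w = 0 ∧ f x0 w' = 0 := by
    constructor <;> simp [x0, form_sub_left hl, hf.smul_left, hww, hw'w', hp, hp']
  have hy0 : f y0 w = 0 ∧ f y0 w' = 0 := by
    constructor <;> simp [y0, form_sub_left hl, hf.smul_left, hww, hw'w', hp, hp']
  obtain ⟨x1, x2, -, -, -⟩ := hY x0 hx0.1 hx0.2
  obtain ⟨-, -, y3, y4, -⟩ := hY y0 hy0.1 hy0.2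
  have hxy := hYY x0 y0 hx0.1 hx0.2 hy0.1 hy0.2
  have ex : x = f x w' • w + f x w • w' + x0 := by simp only [x0]; abel
  have ey : y = f y w' • w + f y w • w' + y0 := by simp only [y0]; abel
  rw [ex, ey]
  simp only [haddl, haddr, hsl, hsr, hiso w hww, hiso w' hw'w', hsw, x1, x2, y3, y4, hxy, hf.add_left, add_right hf,
    hf.smul_left, smul_right hf, hww, hw'w', hp, hp', hx0.1, hx0.2, swap_eq_zero hf hy0.1, swap_eq_zero hf hy0.2]
  ring

omit hN in
/-- A matrix without diagonal entries at isotropic vectors of the factor `i` is trivial there. -/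
theorem one_of_zero [Finite F] {i : ι} {A : Big} {w w' : W1} (hww : f w w = 0) (hw'w' : f w' w' = 0)
    (hp : f w w' = 1) (h : ∀ u, f u u = 0 → ent i A u (formVec f u) = 0) : TensorPowerMax.AlgTop.One i A := by
  have key : ∀ v u, A *ᵥ ins i v u = ins i v (ent i A w (formVec f w') *ᵥ u) := by
    intro v u
    refine ctr_ext (j := i) fun φ => ?_
    obtain ⟨y, rfl⟩ := formVec_surjective (isLinearLeft_of_unitary hf) (add_right hf) hf.nondegenerate φ
    rw [ctr_hv_ins hf]
    funext r
    have hctr : ∀ (c : F) (φ : W1) (z : VV), ctr i (c • φ) z = c • ctr i φ z := fun c φ z => by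
      ext r; simp [ctr, Finset.mul_sum, mul_assoc]
    have hctra : ∀ (φ φ' : W1) (z : VV), ctr i (φ + φ') z = ctr i φ z + ctr i φ' z := fun φ φ' z => by
      ext r; simp [ctr, add_mul, Finset.sum_add_distrib]
    have := sesq_vanish hf hm (fun x y => ctr i (formVec f y) (A *ᵥ ins i x u) r)
      (fun x y z => by rw [ins_add_left, mulVec_add, map_add]; rfl)
      (fun x y z => by rw [formVec_add hf, hctra]; rfl)
      (fun c x y => by rw [ins_smul, mulVec_smul, map_smul]; rfl)
      (fun c x y => by rw [formVec_smul hf, hctr]; rfl)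
      (fun x hx => by rw [← ent_mulVec, h x hx, zero_mulVec]; rfl) hww hw'w' hp v y
    rw [this, Pi.smul_apply, smul_eq_mul, ent_mulVec, mul_comm]
  intro D
  refine ext_ins i fun v u => ?_
  rw [← mulVec_mulVec, ← mulVec_mulVec, key, TensorPowerMax.Roots.oneM_mulVec_ins,
    TensorPowerMax.Roots.oneM_mulVec_ins, key]

variable (hex : 4 ≤ m ∨ ∃ r : F, σ r = r ∧ r ≠ 0 ∧ r ≠ 1)
include hex

omit hN hm hex in
/-- Conjugation by transvections of a factor inside a set normalised by the one-factor groups. -/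
theorem tvec_conj {T : AddSubgroup Big} (hT : ∀ (i : ι), ∀ g ∈ SU1 f, ∀ A ∈ T,
    (oneGL i g : GL (ι → Fin m) F).val * A * ((oneGL i g)⁻¹ : GL (ι → Fin m) F).val ∈ T) (i : ι) :
    ∀ (x : W1) (c : F), f x x = 0 → c + σ c = 0 → ∀ B ∈ T,
      (1 + c • el i x (formVec f x) 1) * B * (1 - c • el i x (formVec f x) 1) ∈ T := by
    intro x c hx hc B hB
    obtain ⟨t, ht, htz⟩ := exists_tvec hf hx hc
    have h1 := hT i t ht B hB
    have hv : (oneGL i t : GG).val = 1 + c • el i x (formVec f x) 1 := ext_ins i fun v r => by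
      rw [one_mulVec_ins, htz, add_mulVec, one_mulVec, smul_mulVec, el_ins, one_mulVec,
        formVec_dot (isLinearLeft_of_unitary hf), ins_add_left, ins_smul, smul_smul]
    have hi : ((oneGL i t)⁻¹ : GG).val = 1 - c • el i x (formVec f x) 1 := by
      refine Units.inv_eq_of_mul_eq_one_right ?_
      rw [hv, add_mul, mul_sub, mul_sub, one_mul, one_mul, mul_one, Matrix.smul_mul, Matrix.mul_smul,
        el_mul, formVec_dot (isLinearLeft_of_unitary hf), hx, zero_smul, smul_zero, smul_zero, sub_zero,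
        sub_add_cancel]
    rwa [hv, hi] at h1

omit hN hm hex in
/-- The field with four elements. -/
theorem two_facts [Finite F] (h3 : ¬ ∃ r : F, σ r = r ∧ r ≠ 0 ∧ r ≠ 1) :
    (2 : F) = 0 ∧ ∃ ω : F, ω * σ ω = 1 ∧ σ ω = ω + 1 ∧ ω * ω + ω + 1 = 0 := by
  push Not at h3
  have h2 : (2 : F) = 0 := by
    by_contra h2
    have := h3 2 (map_ofNat σ 2) h2
    exact one_ne_zero (by linear_combination this)
  obtain ⟨ω, -, hω, -, hω1, -, -⟩ := TensorFormMax.UnitSide.exists_norm_one hf
  have hω0 : ω ≠ 0 := fun e0 => by rw [e0, zero_mul] at hω; exact zero_ne_one hω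
  have hωs : ω + σ ω = 1 := by
    refine h3 _ (by rw [map_add, hf.involutive, add_comm]) fun e0 => hω1 (h3 ω ?_ hω0)
    linear_combination e0 - ω * h2
  have hσω : σ ω = ω + 1 := by linear_combination hωs - ω * h2
  have hωsq : ω * ω + ω + 1 = 0 := by
    rw [hσω] at hω; linear_combination hω + h2
  exact ⟨h2, ω, hω, hσω, hωsq⟩

omit hm hex in
/-- An isotropic vector orthogonal to a given one, and one separating the two. -/
theorem exists_second [Finite F] (h4 : 4 ≤ m) {u : W1} (hu : u ≠ 0) (huu : f u u = 0) :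
    ∃ v s, f v v = 0 ∧ f v u = 0 ∧ v ∉ Submodule.span F {u} ∧ f s s = 0 ∧ f s u = 0 ∧ f s v ≠ 0 := by
  -- an orthogonal isotropic partner
  obtain ⟨p, hp, hpu⟩ := TensorFormMax.UnitSide.exists_orth hf ![u] ![u] (by omega)
  have hup : p ∉ Submodule.span F {u} := fun e0 => hp (by rwa [Matrix.range_cons, Matrix.range_empty, Set.union_empty])
  obtain ⟨v, hvv, hvu, hvp⟩ : ∃ v, f v v = 0 ∧ f v u = 0 ∧ f v p ≠ 0 := by
    by_contra hc
    push Not at hc
    exact hup (TensorFormMax.UnitSide.avoid hf hN h4 hu huu hc)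
  have hvspan : v ∉ Submodule.span F {u} := fun e0 => hvp (by
    obtain ⟨c, rfl⟩ := Submodule.mem_span_singleton.1 e0
    rw [hf.smul_left, swap_eq_zero hf (show f p u = 0 from hpu 0), mul_zero])
  obtain ⟨s, hss, hsu, hsv⟩ : ∃ s, f s s = 0 ∧ f s u = 0 ∧ f s v ≠ 0 := by
    by_contra hc
    push Not at hc
    exact hvspan (TensorFormMax.UnitSide.avoid hf hN h4 hu huu hc)
  exact ⟨v, s, hvv, hvu, hvspan, hss, hsu, hsv⟩

omit hN hm hex in
/-- The mixed term of two transvections on an isotropic line pair. -/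
theorem cross_mem (h2 : (2 : F) = 0) {T : AddSubgroup Big} (hT : ∀ (i : ι), ∀ g ∈ SU1 f, ∀ A ∈ T,
    (oneGL i g : GL (ι → Fin m) F).val * A * ((oneGL i g)⁻¹ : GL (ι → Fin m) F).val ∈ T) {i : ι} {A : Big}
    (hA : A ∈ T) {u v : W1} (huu : f u u = 0) (hvv : f v v = 0) (hvu : f v u = 0) :
    ∀ ε : F, ε * σ ε = 1 →
      el i u (formVec f u) 1 * A * el i v (formVec f v) 1 + el i v (formVec f v) 1 * A * el i u (formVec f u) 1 +
        ε • (el i u (formVec f u) 1 * A * el i u (formVec f v) 1 +
          el i u (formVec f v) 1 * A * el i u (formVec f u) 1) +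
        σ ε • (el i u (formVec f u) 1 * A * el i v (formVec f u) 1 +
          el i v (formVec f u) 1 * A * el i u (formVec f u) 1) ∈ T := by
  intro ε hε
  have huv : f u v = 0 := swap_eq_zero hf hvu
  have hone : (1 : F) + σ 1 = 0 := by rw [map_one]; linear_combination h2
  have hmove := tvec_conj hf hT i
  set U := el i u (formVec f u) (1 : Matrix ({k // k ≠ i} → Fin m) _ F) with hU
  set P := el i u (formVec f v) (1 : Matrix ({k // k ≠ i} → Fin m) _ F) with hP
  set Q := el i v (formVec f u) (1 : Matrix ({k // k ≠ i} → Fin m) _ F) with hQ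
  set V := el i v (formVec f v) (1 : Matrix ({k // k ≠ i} → Fin m) _ F) with hV
  set x := v + ε • u with hx
  set X := el i x (formVec f x) (1 : Matrix ({k // k ≠ i} → Fin m) _ F) with hX
  have hxx : f x x = 0 := by rw [hx, expand_add_smul hf, hvv, huv, huu, mul_zero, map_zero]; ring
  have hXe : X = V + σ ε • Q + ε • P + U := by
    rw [hX, hx, formVec_add hf, formVec_smul hf, el_vec_add, el_ax_add, el_ax_add, el_ax_smul, el_ax_smul,
      el_vec_smul, el_vec_smul, smul_smul, mul_comm (σ ε), hε, one_smul]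
    abel
  have hUX : U * X = 0 := by
    rw [hU, hX, el_mul, formVec_dot (isLinearLeft_of_unitary hf), hx, hf.add_left, hf.smul_left, hvu, huu,
      mul_zero, add_zero, zero_smul]
  have hXU : X * U = 0 := by
    rw [hU, hX, el_mul, formVec_dot (isLinearLeft_of_unitary hf), hx, add_right hf, smul_right hf, huv, huu,
      mul_zero, add_zero, zero_smul]
  have a1 := hmove u 1 huu hone A hA
  have a2 := hmove x 1 hxx hone A hA
  have a12 := hmove u 1 huu hone _ a2
  rw [one_smul] at a1 a2 a12
  rw [one_smul] at a12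
  have hneg : ∀ B : Big, -B = B := fun B => by
    rw [← neg_one_smul F B, show (-1 : F) = 1 by linear_combination -h2, one_smul]
  have h12 := sub_mem (sub_mem (sub_mem a12 hA) (sub_mem a1 hA)) (sub_mem a2 hA)
  convert h12 using 1
  have e1 : U * A * X + X * A * U = U * A * V + V * A * U + ε • (U * A * P + P * A * U) +
      σ ε • (U * A * Q + Q * A * U) + (U * A * U + U * A * U) := by
    rw [hXe]
    simp only [mul_add, add_mul, Matrix.mul_smul, Matrix.smul_mul, smul_add, Matrix.mul_assoc]
    abel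
  rw [show U * A * U + U * A * U = 0 by rw [← two_smul F, h2, zero_smul], add_zero] at e1
  rw [← e1, ← hU, ← hX]
  have e2 : (1 + U) * ((1 + X) * A * (1 - X)) * (1 - U) - A - ((1 + U) * A * (1 - U) - A) -
      ((1 + X) * A * (1 - X) - A) = -(U * A * X) - X * A * U := by
    have k1 : (1 + U) * (1 + X) = 1 + U + X := by rw [add_mul, mul_add, mul_add, hUX]; simp only [one_mul, mul_one]; abel
    have k2 : (1 - X) * (1 - U) = 1 - U - X := by rw [sub_mul, mul_sub, mul_sub, hXU]; simp only [one_mul, mul_one]; abel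
    rw [show (1 + U) * ((1 + X) * A * (1 - X)) * (1 - U) = (1 + U) * (1 + X) * A * ((1 - X) * (1 - U)) by
      simp only [mul_assoc], k1, k2]
    noncomm_ring
  rw [e2, hneg (U * A * X), sub_eq_add_neg, hneg (X * A * U)]

/-- An invariant algebra with a non-zero diagonal entry contains an elementary element there. -/
theorem exists_root [Finite F] {S : Subalgebra F Big} (hS : Inv f S) {i : ι} {A : Big} (hA : A ∈ S) {u : W1}
    (hu : u ≠ 0) (huu : f u u = 0) (hne : ent i A u (formVec f u) ≠ 0) :
    ∃ R, R ≠ 0 ∧ el i u (formVec f u) R ∈ S := by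
  set U := el i u (formVec f u) (1 : Matrix ({k // k ≠ i} → Fin m) _ F) with hU
  have hmove := tvec_conj hf (T := S.toSubmodule.toAddSubgroup) hS i
  by_cases h3 : ∃ r : F, σ r = r ∧ r ≠ 0 ∧ r ≠ 1
  · obtain ⟨r, hr, hr0, hr1⟩ := h3
    obtain ⟨e, he, he'⟩ := exists_skew_scalar hf
    have d1 := sub_mem (hmove u e huu he' A hA) hA
    have d2 := sub_mem (hmove u (r * e) huu (by rw [map_mul, hr]; linear_combination r * he') A hA) hA
    have hUAU : U * A * U ∈ S := by
      have hh := S.smul_mem (sub_mem (S.smul_mem d1 r) d2) (r * r * e * e - r * e * e)⁻¹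
      convert hh using 1
      rw [eq_inv_smul_iff₀ (by
        rw [show r * r * e * e - r * e * e = r * (r - 1) * (e * e) by ring]
        exact mul_ne_zero (mul_ne_zero hr0 (sub_ne_zero.2 hr1)) (mul_ne_zero he he))]
      simp only [← hU, mul_sub, add_mul, sub_mul, one_mul, mul_one, Matrix.smul_mul, Matrix.mul_smul, smul_sub,
        smul_add, smul_smul, ← Matrix.mul_assoc, sub_smul]
      module
    rw [hU, el_mid] at hUAU
    exact ⟨_, hne, hUAU⟩
  · have h4 : 4 ≤ m := hex.resolve_right h3
    obtain ⟨h2, ω, hω, hσω, hωsq⟩ := two_facts hf h3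
    have hone : (1 : F) + σ 1 = 0 := by rw [map_one]; linear_combination h2
    obtain ⟨v, s, hvv, hvu, hvspan, hss, hsu, hsv⟩ := exists_second hf hN h4 hu huu
    have huv : f u v = 0 := swap_eq_zero hf hvu
    set P := el i u (formVec f v) (1 : Matrix ({k // k ≠ i} → Fin m) _ F) with hP
    set Q := el i v (formVec f u) (1 : Matrix ({k // k ≠ i} → Fin m) _ F) with hQ
    set V := el i v (formVec f v) (1 : Matrix ({k // k ≠ i} → Fin m) _ F) with hV
    have cross : ∀ ε : F, ε * σ ε = 1 →
        U * A * V + V * A * U + ε • (U * A * P + P * A * U) + σ ε • (U * A * Q + Q * A * U) ∈ S :=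
      fun ε hε => cross_mem hf h2 (T := S.toSubmodule.toAddSubgroup) hS hA huu hvv hvu ε hε
    have c1 := cross 1 (by rw [map_one, one_mul])
    have c2 := cross ω hω
    have c3 := cross (ω + 1) (by rw [map_add, map_one, hσω]; linear_combination hωsq + ω * h2)
    rw [map_one, one_smul, one_smul] at c1
    rw [hσω] at c2
    rw [map_add, map_one, hσω] at c3
    have hW : U * A * P + P * A * U ∈ S := by
      convert add_mem (add_mem c1 (S.smul_mem c2 (ω + 1))) (S.smul_mem c3 (ω + 1 + 1)) using 1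
      match_scalars <;> first
        | linear_combination -(ω + 2) * h2 | linear_combination -(ω * ω + 2 * ω + 1) * h2
        | linear_combination -(ω * ω + 3 * ω + 3) * h2 | linear_combination -(ω + 1) * h2
        | linear_combination -(ω * ω + ω + 1) * h2
    have hW2 : U * A * Q + Q * A * U ∈ S := by
      convert add_mem (add_mem c1 (S.smul_mem c2 ω)) (S.smul_mem c3 (ω + 1)) using 1
      match_scalars <;> first
        | linear_combination -(ω + 2) * h2 | linear_combination -(ω * ω + 2 * ω + 1) * h2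
        | linear_combination -(ω * ω + 3 * ω + 3) * h2 | linear_combination -(ω + 1) * h2
        | linear_combination -(ω * ω + ω + 1) * h2
    rw [hU, hP, el_mid, el_mid] at hW
    rw [hU, hQ, el_mid, el_mid] at hW2
    set a := ent i A u (formVec f u)
    obtain ⟨x, hx, hax⟩ := exists_link hf hN hm (ι := {k // k ≠ i}) hne hne
    obtain ⟨t, ht, htz⟩ := exists_tvec hf hss hone
    set h := oneGL i t * up i x with hh
    have hmem : h ∈ grp ι f := mul_mem (Subgroup.subset_closure ⟨i, t, ht, rfl⟩) (up_grp i hx)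
    have hW2' := inv_grp hS hmem hW2
    rw [hh, mul_add, add_mul, conj_el, conj_el] at hW2'
    have hprod := S.mul_mem hW hW2'
    have htu : (t : A1) *ᵥ u = u := by
      rw [htz, swap_eq_zero hf hsu, mul_zero, zero_smul, add_zero]
    have hti : formVec f u ᵥ* ((t⁻¹ : GL (Fin m) F) : A1) = formVec f u := by
      have := formVec_iso hf (inv_mem ht.1) u
      rwa [show ((t⁻¹ : GL (Fin m) F) : A1) *ᵥ u = u by conv_lhs => rw [← htu, gl_inv_mulVec]] at this
    have hl := isLinearLeft_of_unitary hf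
    have k1 : formVec f v ⬝ᵥ (t : A1) *ᵥ v = f v s * f s v := by
      rw [formVec_dot hl, htz, hf.add_left, hf.smul_left, hvv, one_mul, zero_add]
    simp only [add_mul, mul_add, el_mul, htu, hti, k1, formVec_dot hl, huv, huu, zero_smul, add_zero, zero_add]
      at hprod
    rw [show f ((t : A1) *ᵥ v) u = 0 by
      rw [htz, hf.add_left, hf.smul_left, hvu, one_mul, hsu, mul_zero, add_zero], zero_smul, add_zero] at hprod
    refine ⟨(f v s * f s v) • (a * (x.val * a * (x⁻¹ : GL _ F).val)), ?_, ?_⟩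
    · refine smul_ne_zero (mul_ne_zero (fun e0 => hsv (swap_eq_zero hf e0)) hsv) fun e0 => hax ?_
      have := congrArg (fun Z => Z * x.val) e0
      simpa [Matrix.mul_assoc] using this
    · rw [el_smul]
      exact hprod

/-- An invariant algebra which is not scalar contains a full factor. -/
theorem exists_factor [Finite F] (n : ℕ) : ∀ (ι : Type) [Fintype ι] [DecidableEq ι], Fintype.card ι = n →
    ∀ S : Subalgebra F (Matrix (ι → Fin m) (ι → Fin m) F), Inv f S →
      (∃ A ∈ S, ∀ c : F, A ≠ c • 1) → ∃ l : ι, ∀ D : A1, oneM l D ∈ S := by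
  induction n using Nat.strong_induction_on with
  | _ n ih =>
    intro ι _ _ hn S hS hns
    classical
    obtain ⟨A, hA, hns⟩ := hns
    have hl := isLinearLeft_of_unitary hf
    obtain ⟨u0, hu0, huu0, -⟩ := TensorFormMax.UnitSide.exists_iso_orth hf hN (![] : Fin 0 → W1) (by omega)
    obtain ⟨u0', hu0', hp0, -⟩ := exists_partner hf hu0 huu0
    obtain ⟨i, u, huu, hne⟩ : ∃ (i : ι) (u : W1), f u u = 0 ∧ ent i A u (formVec f u) ≠ 0 := by
      by_contra hc
      push Not at hc
      obtain ⟨z, hz⟩ := TensorPowerMax.AlgTop.eq_scalar_of_one (by omega)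
        fun i => one_of_zero hf hm huu0 hu0' hp0 (hc i)
      exact hns z hz
    have hu : u ≠ 0 := fun e => hne (Matrix.mulVec_injective (funext fun r => by
      rw [ent_mulVec, e, ins_zero_left, mulVec_zero, map_zero, zero_mulVec]))
    obtain ⟨R, hR, hRS⟩ := exists_root hf hN hm hex hS hA hu huu hne
    -- an idempotent at the factor
    obtain ⟨u', hu'u', -, hu'u⟩ := exists_partner hf hu huu
    obtain ⟨e, he, he'⟩ := exists_skew_scalar hf
    obtain ⟨t, ht, htz⟩ := exists_tvec hf hu'u' he'
    obtain ⟨x, hx, hRx⟩ := exists_link hf hN hm (ι := {k // k ≠ i}) hR hR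
    have hmem : oneGL i t * up i x ∈ grp ι f :=
      mul_mem (Subgroup.subset_closure ⟨i, t, ht, rfl⟩) (up_grp i hx)
    have hE := S.mul_mem hRS (inv_grp hS hmem hRS)
    rw [conj_el, el_mul] at hE
    set ψ := formVec f u ᵥ* ((t⁻¹ : GL (Fin m) F) : A1) with hψ
    have hψu : ψ ⬝ᵥ u ≠ 0 := by
      have hti := formVec_iso hf (inv_mem ht.1) ((t : A1) *ᵥ u)
      rw [gl_inv_mulVec] at hti
      rw [hψ, hti, formVec_dot hl, htz, add_right hf, smul_right hf, huu, zero_add, map_mul, eq_neg_of_add_eq_zero_right he',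
        ← hf.herm u' u, hu'u, hf.herm u u', hu'u, map_one]
      simpa using he
    have hκ : formVec f u ⬝ᵥ (t : A1) *ᵥ u ≠ 0 := by
      rw [formVec_dot hl, htz, hf.add_left, hf.smul_left, huu, zero_add, hu'u, hf.herm u u', hu'u, map_one]
      simpa using he
    set R1 := R * (x.val * R * (x⁻¹ : GL _ F).val)
    have hR1 : R1 ≠ 0 := fun e0 => hRx (by
      have := congrArg (fun Z => Z * x.val) e0
      simpa [R1, Matrix.mul_assoc] using this)
    set x0 := (ψ ⬝ᵥ u)⁻¹ • u
    have hψx : ψ ⬝ᵥ x0 = 1 := by rw [dotProduct_smul, smul_eq_mul, inv_mul_cancel₀ hψu]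
    let J : Submodule F (Matrix ({k // k ≠ i} → Fin m) ({k // k ≠ i} → Fin m) F) :=
      { carrier := {G | el i x0 ψ G ∈ S}
        add_mem' := fun {G G'} hG hG' => show el i x0 ψ _ ∈ S by rw [el_add]; exact S.add_mem hG hG'
        zero_mem' := show el i x0 ψ 0 ∈ S by
          rw [← zero_smul F (1 : Matrix ({k // k ≠ i} → Fin m) _ F), el_smul, zero_smul]; exact S.zero_mem
        smul_mem' := fun c G hG => show el i x0 ψ _ ∈ S by rw [el_smul]; exact S.smul_mem hG c }
    have hJR : R1 ∈ J := by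
      show el i x0 ψ R1 ∈ S
      rw [el_vec_smul]
      have := S.smul_mem hE (formVec f u ⬝ᵥ (t : A1) *ᵥ u)⁻¹
      rw [inv_smul_smul₀ hκ] at this
      exact S.smul_mem this _
    have hJmul : ∀ {G G'}, G ∈ J → G' ∈ J → G * G' ∈ J := fun {G G'} hG hG' => by
      have := S.mul_mem (hG : el i x0 ψ G ∈ S) (hG' : el i x0 ψ G' ∈ S)
      rwa [el_mul, hψx, one_smul] at this
    have hone : (1 : Matrix ({k // k ≠ i} → Fin m) ({k // k ≠ i} → Fin m) F) ∈ J := by
      by_cases hs : ∀ G ∈ J, ∃ c : F, G = c • 1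
      · obtain ⟨c, hc⟩ := hs R1 hJR
        have hc0 : c ≠ 0 := fun e0 => hR1 (by rw [hc, e0, zero_smul])
        have := J.smul_mem c⁻¹ hJR
        rwa [hc, inv_smul_smul₀ hc0] at this
      push Not at hs
      obtain ⟨G, hG, hGs⟩ := hs
      let T : Subalgebra F (Matrix ({k // k ≠ i} → Fin m) ({k // k ≠ i} → Fin m) F) :=
        { carrier := {G | ∃ c : F, G - c • 1 ∈ J}
          mul_mem' := fun {G G'} ⟨c, hc⟩ ⟨c', hc'⟩ => ⟨c * c', by
            have := J.add_mem (J.add_mem (hJmul hc hc') (J.smul_mem c' hc)) (J.smul_mem c hc')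
            convert this using 1
            simp only [sub_mul, mul_sub, Matrix.smul_mul, Matrix.mul_smul, one_mul, mul_one, smul_sub, smul_smul,
              mul_comm c]
            module⟩
          one_mem' := ⟨1, by rw [one_smul, sub_self]; exact J.zero_mem⟩
          add_mem' := fun {G G'} ⟨c, hc⟩ ⟨c', hc'⟩ => ⟨c + c', by
            have := J.add_mem hc hc'
            rwa [sub_add_sub_comm, ← add_smul] at this⟩
          zero_mem' := ⟨0, by rw [zero_smul, sub_zero]; exact J.zero_mem⟩
          algebraMap_mem' := fun c => ⟨c, by rw [Algebra.algebraMap_eq_smul_one, sub_self]; exact J.zero_mem⟩ }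
      have hT : Inv f T := by
        intro l g hg B ⟨c, hc⟩
        refine ⟨c, ?_⟩
        show el i x0 ψ _ ∈ S
        have h1 := inv_grp hS (up_grp i (Subgroup.subset_closure ⟨l, g, hg, rfl⟩)) (hc : el i x0 ψ _ ∈ S)
        rw [← one_mul (up i (oneGL l g)), ← oneGL_one i, conj_el] at h1
        rw [Units.val_one, inv_one, Units.val_one, one_mulVec, vecMul_one] at h1
        convert h1 using 2
        simp only [mul_sub, sub_mul, Matrix.mul_smul, Matrix.smul_mul, mul_one]
        rw [← Units.val_mul, mul_inv_cancel, Units.val_one]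
      obtain ⟨l, hl'⟩ := ih _ (by rw [Fintype.card_subtype_compl, Fintype.card_subtype_eq]; have := Fintype.card_pos_iff.2 ⟨i⟩; omega)
        {k // k ≠ i} rfl T hT ⟨G, ⟨0, by rwa [zero_smul, sub_zero]⟩, hGs⟩
      have hcomm : ∀ D D' : A1, oneM l (D * D' - D' * D) ∈ J := fun D D' => by
        obtain ⟨c, hc⟩ := hl' D
        obtain ⟨c', hc'⟩ := hl' D'
        have := J.sub_mem (hJmul hc hc') (hJmul hc' hc)
        convert this using 1
        rw [sub_eq_add_neg (D * D'), oneM_add, ← neg_one_smul F (D' * D), oneM_smul, neg_one_smul, ← oneM_mul,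
          ← oneM_mul]
        simp only [sub_mul, mul_sub, Matrix.smul_mul, Matrix.mul_smul, one_mul, mul_one, smul_smul, smul_sub,
          mul_comm c]
        abel
      rw [← oneM_one l, ← TensorPowerMax.AlgTop.sum_single_one, TensorPowerMax.AlgTop.oneM_sum]
      refine sum_mem fun a _ => ?_
      obtain ⟨b, hb⟩ : ∃ b : Fin m, b ≠ a := Fintype.exists_ne_of_one_lt_card (by simp; omega) a
      obtain ⟨d, -, hd⟩ := Finset.exists_mem_notMem_of_card_lt_card
        (show ({a, b} : Finset (Fin m)).card < (Finset.univ : Finset (Fin m)).card by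
          rw [Finset.card_univ, Fintype.card_fin]; exact lt_of_le_of_lt Finset.card_le_two (by omega))
      simp only [Finset.mem_insert, Finset.mem_singleton, not_or] at hd
      have := hJmul (hcomm (Matrix.single a b 1) (Matrix.single b a 1))
        (hcomm (Matrix.single a d 1) (Matrix.single d a 1))
      rw [oneM_mul] at this
      simpa [Matrix.single_mul_single_same, Matrix.single_mul_single_of_ne, sub_mul, mul_sub, hb, hb.symm, hd.1,
        Ne.symm hd.1, hd.2, Ne.symm hd.2] using this
    refine ⟨i, fac_top hf hN hm hS (D := vecMulVec x0 ψ) ?_ fun c hc => ?_⟩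
    · rw [← el_one]; exact hone
    · obtain ⟨z, hz, hz0⟩ := exists_common_zero_not_mem (⊥ : Submodule F W1) ![ψ] (by
        rw [finrank_bot, Fintype.card_fin]; omega)
      have h1 := congrArg (fun Z : A1 => Z *ᵥ z) hc
      simp only [vecMulVec_mulVec, op_smul_eq_smul, show ψ ⬝ᵥ z = 0 from hz0 0, zero_smul, smul_mulVec,
        one_mulVec] at h1
      rcases smul_eq_zero.1 h1.symm with e0 | e0
      · have h2 := congrArg (fun Z : A1 => Z *ᵥ x0) hc
        simp only [vecMulVec_mulVec, op_smul_eq_smul, hψx, one_smul, e0, zero_smul, zero_mulVec] at h2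
        rw [h2, dotProduct_zero] at hψx
        exact zero_ne_one hψx
      · exact hz (by rw [e0]; exact Submodule.zero_mem _)

end Cfsg.Agent.Lib.UnitaryPowerMax.Alg
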