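import Cfsg.Agent.Lib.TensorPowerMax.Roots
import Cfsg.Agent.Lib.Subspaces.UnitaryForm
import Cfsg.Agent.Lib.TensorFormMax.UnitSide
import Cfsg.Agent.Lib.Subspaces.UnitaryGen

/-!
The tensor power of a hermitian form, its isometry group and the elementary isometries of one factor.
-/

set_option autoImplicit false
set_option linter.unusedSectionVars false

namespace Cfsg.Agent.Lib.UnitaryPowerMax.Form

open Matrix
open Cfsg.Agent.Lib.Subspaces.Transvection Cfsg.Agent.Lib.Subspaces.FormVec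
  Cfsg.Agent.Lib.Subspaces.UnitaryForm Cfsg.Agent.Lib.TensorPowerMax.Basic

variable {F : Type*} [Field F]

/-- The isometries of a two-argument form. -/
def isoG {κ : Type} [Fintype κ] [DecidableEq κ] (B : (κ → F) → (κ → F) → F) : Subgroup (GL κ F) where
  carrier := {g | ∀ x y, B ((g : Matrix κ κ F) *ᵥ x) ((g : Matrix κ κ F) *ᵥ y) = B x y}
  one_mem' := fun x y => by rw [Units.val_one, one_mulVec, one_mulVec]
  mul_mem' := fun {g h} hg hh x y => by rw [gl_mul_mulVec, gl_mul_mulVec, hg, hh]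
  inv_mem' := fun {g} hg x y => by
    conv_rhs => rw [← gl_mulVec_inv g x, ← gl_mulVec_inv g y]
    rw [hg]

section single

variable {κ : Type} [Fintype κ] [DecidableEq κ] {σ : F ≃+* F} {f : (κ → F) → (κ → F) → F}

theorem gram_eq (hf : Cfsg.Geo.IsUnitaryForm σ f) (x y : κ → F) :
    f x y = x ⬝ᵥ (Cfsg.Geo.gramMatrix f *ᵥ (σ ∘ y)) := by
  conv_lhs => rw [← Finset.univ_sum_single x]
  let R : (κ → F) →+ F := AddMonoidHom.mk' (fun z => f z y) fun a b => hf.add_left a b y
  show R _ = _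
  rw [map_sum, dotProduct]
  refine Finset.sum_congr rfl fun a _ => ?_
  show f (Pi.single a (x a)) y = _
  rw [show Pi.single a (x a) = x a • (Pi.single a 1 : κ → F) by simp [← Pi.single_smul], hf.smul_left]
  congr 1
  conv_lhs => rw [← Finset.univ_sum_single y]
  let L : (κ → F) →+ F := AddMonoidHom.mk' (f (Pi.single a 1)) fun u v => add_right hf _ u v
  show L _ = _
  rw [map_sum, Matrix.mulVec, dotProduct]
  refine Finset.sum_congr rfl fun b _ => ?_
  show f _ (Pi.single b (y b)) = _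
  rw [show Pi.single b (y b) = y b • (Pi.single b 1 : κ → F) by simp [← Pi.single_smul], smul_right hf,
    mul_comm, Function.comp_apply]
  rfl

theorem formVec_eq (hf : Cfsg.Geo.IsUnitaryForm σ f) (w : κ → F) :
    formVec f w = Cfsg.Geo.gramMatrix f *ᵥ (σ ∘ w) :=
  dotProduct_eq _ _ fun u => by
    rw [formVec_dot (isLinearLeft_of_unitary hf), gram_eq hf, dotProduct_comm]

theorem gram_herm (hf : Cfsg.Geo.IsUnitaryForm σ f) (a b : κ) :
    σ (Cfsg.Geo.gramMatrix f a b) = Cfsg.Geo.gramMatrix f b a := (hf.herm _ _).symm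

theorem gram_det (hf : Cfsg.Geo.IsUnitaryForm σ f) : (Cfsg.Geo.gramMatrix f).det ≠ 0 := by
  intro h
  obtain ⟨v, hv, hv'⟩ := exists_mulVec_eq_zero_iff.2 h
  have hv0 : (σ ∘ v) ≠ 0 := fun e => hv (funext fun a => σ.injective ((congrFun e a).trans (map_zero σ).symm))
  obtain ⟨x, hx⟩ := (hf.nondegenerate _ hv0).1
  refine hx ?_
  rw [gram_eq hf, show (σ ∘ σ ∘ v : κ → F) = v from funext fun a => hf.involutive _, hv', dotProduct_zero]

/-- An isometry has determinant of norm one. -/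
theorem det_norm (hf : Cfsg.Geo.IsUnitaryForm σ f) {b : Matrix κ κ F}
    (hb : ∀ x y, f (b *ᵥ x) (b *ᵥ y) = f x y) : b.det * σ b.det = 1 := by
  have he : bᵀ * Cfsg.Geo.gramMatrix f * b.map σ = Cfsg.Geo.gramMatrix f := by
    ext i j
    have h := hb (Pi.single i 1) (Pi.single j 1)
    rw [gram_eq hf, mulVec_single_one, mulVec_single_one] at h
    rw [show Cfsg.Geo.gramMatrix f i j = f (Pi.single i 1) (Pi.single j 1) from rfl, ← h, Matrix.mul_assoc,
      Matrix.mul_apply]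
    rfl
  have h1 := congrArg Matrix.det he
  rw [det_mul, det_mul, det_transpose, show (b.map σ).det = σ b.det from (RingHom.map_det σ.toRingHom b).symm] at h1
  exact mul_right_cancel₀ (gram_det hf) (by rw [one_mul]; linear_combination h1)

/-- A linear isometry is invertible. -/
theorem exists_gl (hf : Cfsg.Geo.IsUnitaryForm σ f) (L : (κ → F) →ₗ[F] (κ → F))
    (hL : ∀ x y, f (L x) (L y) = f x y) :
    ∃ g : GL κ F, g ∈ isoG f ∧ ∀ x, (g : Matrix κ κ F) *ᵥ x = L x := by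
  have h : ∀ x, LinearMap.toMatrix' L *ᵥ x = L x := fun x => LinearMap.toMatrix'_mulVec L x
  have hd := det_norm hf (b := LinearMap.toMatrix' L) fun x y => by rw [h, h, hL]
  refine ⟨GeneralLinearGroup.mkOfDetNeZero _ (left_ne_zero_of_mul_eq_one hd), fun x y => ?_, h⟩
  show f (LinearMap.toMatrix' L *ᵥ x) (LinearMap.toMatrix' L *ᵥ y) = _
  rw [h, h, hL]

theorem iso_apply {g : GL κ F} (hg : g ∈ isoG f) (x y : κ → F) :
    f ((g : Matrix κ κ F) *ᵥ x) ((g : Matrix κ κ F) *ᵥ y) = f x y := hg x y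

theorem iso_move {g : GL κ F} (hg : g ∈ isoG f) (x y : κ → F) :
    f x ((g : Matrix κ κ F) *ᵥ y) = f (((g⁻¹ : GL κ F) : Matrix κ κ F) *ᵥ x) y :=
  Cfsg.Agent.Lib.Subspaces.UnitaryGen.isometry_inv hg x y

theorem formVec_iso (hf : Cfsg.Geo.IsUnitaryForm σ f) {g : GL κ F} (hg : g ∈ isoG f) (v : κ → F) :
    formVec f ((g : Matrix κ κ F) *ᵥ v) ᵥ* (g : Matrix κ κ F) = formVec f v :=
  dotProduct_eq _ _ fun u => by
    rw [← dotProduct_mulVec, formVec_dot (isLinearLeft_of_unitary hf), formVec_dot (isLinearLeft_of_unitary hf)]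
    exact hg u v

end single

/-! ### the tensor power -/

variable {ι : Type} [Fintype ι] [DecidableEq ι] {m : ℕ} {σ : F ≃+* F}
  {f : (Fin m → F) → (Fin m → F) → F}

local notation "W1" => Fin m → F
local notation "VV" => (ι → Fin m) → F
local notation "Big" => Matrix (ι → Fin m) (ι → Fin m) F
local notation "GG" => GL (ι → Fin m) F

/-- The tensor power of a form. -/
def Bf (σ : F ≃+* F) (f : (Fin m → F) → (Fin m → F) → F) (x y : (ι → Fin m) → F) : F :=
  x ⬝ᵥ (pt (fun _ => Cfsg.Geo.gramMatrix f) *ᵥ (σ ∘ y))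

theorem Bf_pv (hf : Cfsg.Geo.IsUnitaryForm σ f) (s r : ι → W1) :
    Bf σ f (pv s) (pv r) = ∏ i, f (s i) (r i) := by
  rw [Bf, show (σ ∘ pv r : VV) = pv (fun i => σ ∘ r i) from funext fun x => map_prod σ _ _, pt_mulVec, pv_dot]
  exact Finset.prod_congr rfl fun i _ => (gram_eq hf _ _).symm

theorem Bf_add_left (x y z : VV) : Bf σ f (x + y) z = Bf σ f x z + Bf σ f y z := add_dotProduct _ _ _

theorem Bf_smul_left (c : F) (x y : VV) : Bf σ f (c • x) y = c * Bf σ f x y := by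
  rw [Bf, smul_dotProduct, smul_eq_mul]; rfl

theorem Bf_herm (hf : Cfsg.Geo.IsUnitaryForm σ f) (x y : VV) : Bf σ f x y = σ (Bf σ f y x) := by
  have hG : ∀ a b : ι → Fin m, σ (pt (fun _ => Cfsg.Geo.gramMatrix f) a b) = pt (fun _ => Cfsg.Geo.gramMatrix f) b a := by
    intro a b
    rw [pt_apply, map_prod, pt_apply]
    exact Finset.prod_congr rfl fun i _ => gram_herm hf _ _
  simp only [Bf, dotProduct, Matrix.mulVec, Function.comp_apply, map_sum, map_mul, hf.involutive, hG,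
    Finset.mul_sum]
  rw [Finset.sum_comm]
  exact Finset.sum_congr rfl fun a _ => Finset.sum_congr rfl fun b _ => by ring

theorem Bf_unitary (hf : Cfsg.Geo.IsUnitaryForm σ f) :
    Cfsg.Geo.IsUnitaryForm σ (Bf σ f : VV → VV → F) where
  ne_refl := hf.ne_refl
  involutive := hf.involutive
  add_left := Bf_add_left
  smul_left := Bf_smul_left
  herm := Bf_herm hf
  nondegenerate := fun v hv => by
    let G : GG := ptGL fun _ => GeneralLinearGroup.mkOfDetNeZero (Cfsg.Geo.gramMatrix f) (gram_det hf)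
    have hG : (G : Big) = pt (fun _ => Cfsg.Geo.gramMatrix f) := coe_ptGL _
    have h1 : pt (fun _ => Cfsg.Geo.gramMatrix f) *ᵥ (σ ∘ v) ≠ 0 := by
      intro e
      rw [← hG] at e
      have e2 := gl_mulVec_injective G (e.trans (mulVec_zero _).symm)
      exact hv (funext fun a => σ.injective ((congrFun e2 a).trans (map_zero σ).symm))
    obtain ⟨a, ha⟩ := Function.ne_iff.1 h1
    have h2 : Bf σ f (Pi.single a 1) v ≠ 0 := by
      rw [Bf, single_dotProduct, one_mul]
      exact ha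
    exact ⟨⟨_, h2⟩, ⟨Pi.single a 1, fun e => h2 (by rw [Bf_herm hf, e, map_zero])⟩⟩

/-- The contraction of a factor against the form. -/
theorem Bf_ins (hf : Cfsg.Geo.IsUnitaryForm σ f) (j : ι) (z : VV) (w : W1) (u : ({i // i ≠ j} → Fin m) → F) :
    Bf σ f z (ins j w u) = Bf σ f (ctr j (formVec f w) z) u := by
  have hσ : (σ ∘ ins j w u : VV) ∘ (TensorPowerMax.Basic.split j).symm = TensorPowerMax.Side.tens (σ ∘ u) (σ ∘ w) := by
    rw [Function.comp_assoc, TensorPowerMax.Roots.ins_comp]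
    funext p
    exact map_mul σ _ _
  have h1 : Bf σ f z (ins j w u) = (z ∘ (TensorPowerMax.Basic.split j).symm) ⬝ᵥ
      (sp j (pt (fun _ => Cfsg.Geo.gramMatrix f)) *ᵥ ((σ ∘ ins j w u : VV) ∘ (TensorPowerMax.Basic.split j).symm)) := by
    rw [TensorPowerMax.Roots.sp_mulVec, Bf]
    exact (comp_equiv_dotProduct_comp_equiv _ _ _).symm
  rw [h1, sp_pt, hσ, TensorPowerMax.Side.kron_mulVec_tens, ← formVec_eq hf]
  simp only [dotProduct, Fintype.sum_prod_type, TensorPowerMax.Side.tens, Bf, ctr, LinearMap.coe_mk, AddHom.coe_mk,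
    Function.comp_apply, Finset.sum_mul]
  exact Finset.sum_congr rfl fun r _ => Finset.sum_congr rfl fun a _ => by ring

theorem ctr_eq_zero_of (hf : Cfsg.Geo.IsUnitaryForm σ f) (j : ι) {z : VV} {w : W1}
    (h : ∀ u, Bf σ f z (ins j w u) = 0) : ctr j (formVec f w) z = 0 := by
  by_contra hne
  obtain ⟨u, hu⟩ := ((Bf_unitary (ι := {i // i ≠ j}) hf).nondegenerate _ hne).2
  exact hu (by rw [← Bf_ins hf]; exact h u)

/-- Isometries may be checked on pure tensors. -/
theorem iso_of_pv (hf : Cfsg.Geo.IsUnitaryForm σ f) {g : GG}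
    (h : ∀ s r : ι → W1, Bf σ f ((g : Big) *ᵥ pv s) ((g : Big) *ᵥ pv r) = Bf σ f (pv s) (pv r)) :
    g ∈ isoG (Bf σ f) := by
  have hB := Bf_unitary (ι := ι) hf
  intro x y
  have hx : ∀ x : VV, x = ∑ a, x a • pv (fun i => Pi.single (a i) (1 : F)) := fun x => by
    simp [pv_single, ← Pi.single_smul, Finset.univ_sum_single]
  rw [hx x, hx y, mulVec_sum, mulVec_sum]
  let L : ∀ z : VV, VV →+ F := fun z => AddMonoidHom.mk' (fun v => Bf σ f v z) fun a b => Bf_add_left a b z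
  let R : ∀ z : VV, VV →+ F := fun z => AddMonoidHom.mk' (fun v => Bf σ f z v) fun a b => add_right hB z a b
  show L _ _ = L _ _
  rw [map_sum, map_sum]
  refine Finset.sum_congr rfl fun a _ => ?_
  show R _ _ = R _ _
  rw [map_sum, map_sum]
  refine Finset.sum_congr rfl fun b _ => ?_
  show Bf σ f _ _ = Bf σ f _ _
  rw [mulVec_smul, mulVec_smul, Bf_smul_left, Bf_smul_left, smul_right hB, smul_right hB, h]

theorem ptGL_iso (hf : Cfsg.Geo.IsUnitaryForm σ f) {a : ι → GL (Fin m) F} (ha : ∀ i, a i ∈ isoG f) :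
    ptGL a ∈ isoG (Bf σ f) :=
  iso_of_pv hf fun s r => by
    rw [coe_ptGL, pt_mulVec, pt_mulVec, Bf_pv hf, Bf_pv hf]
    exact Finset.prod_congr rfl fun i _ => ha i _ _

theorem pmGL_iso (hf : Cfsg.Geo.IsUnitaryForm σ f) (π : Equiv.Perm ι) :
    (pmGL π : GG) ∈ isoG (Bf σ f) :=
  iso_of_pv hf fun s r => by
    rw [coe_pmGL, pm_mulVec, pm_mulVec, Bf_pv hf, Bf_pv hf]
    exact (Fintype.prod_equiv π _ _ fun i => by simp).symm

theorem oneGL_iso (hf : Cfsg.Geo.IsUnitaryForm σ f) (j : ι) {b : GL (Fin m) F} (hb : b ∈ isoG f) :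
    oneGL j b ∈ isoG (Bf σ f) :=
  ptGL_iso hf fun i => by
    by_cases h : i = j
    · rw [h, Function.update_self]; exact hb
    · rw [Function.update_of_ne h]; exact (isoG f).one_mem

theorem one_mulVec_ins (j : ι) (b : GL (Fin m) F) (v : W1) (u : ({i // i ≠ j} → Fin m) → F) :
    (oneGL j b : GG).val *ᵥ ins j v u = ins j ((b : Matrix (Fin m) (Fin m) F) *ᵥ v) u := by
  rw [coe_oneGL, TensorPowerMax.Roots.oneM_mulVec_ins]

/-! ### elementary isometries of one factor -/

section factor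

variable (hf : Cfsg.Geo.IsUnitaryForm σ f)
include hf

/-- The isometries of determinant one of a factor. -/
theorem su_mk {g : GL (Fin m) F} (hg : g ∈ isoG f) (hd : (g : Matrix (Fin m) (Fin m) F).det = 1) :
    g ∈ isoG f ⊓ Cfsg.Geo.specialLinear (Fin m) F := by
  have _ := hf
  exact ⟨hg, (mem_specialLinear_iff g).2 hd⟩

theorem exists_partner {w : W1} (hw : w ≠ 0) (hww : f w w = 0) :
    ∃ w', f w' w' = 0 ∧ f w w' = 1 ∧ f w' w = 1 := by
  obtain ⟨b, hb, hbw⟩ := TensorFormMax.UnitSide.exists_hyperbolic hf hw hww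
  exact ⟨b, hb, by rw [hf.herm, hbw, map_one], hbw⟩

/-- An Eichler transformation. -/
theorem exists_eich {w y : W1} (hww : f w w = 0) (hyw : f y w = 0) {s : F} (hs : s + σ s = -f y y) :
    ∃ g ∈ isoG f ⊓ Cfsg.Geo.specialLinear (Fin m) F, ∀ z, (g : Matrix (Fin m) (Fin m) F) *ᵥ z =
      z + f z w • y + (s * f z w - f z y) • w := by
  have hl := isLinearLeft_of_unitary hf
  have hwy : f w y = 0 := swap_eq_zero hf hyw
  set φ := s • formVec f w - formVec f y
  have hφ : φ ⬝ᵥ w = 0 := by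
    simp [φ, sub_dotProduct, formVec_dot hl, hww, hwy]
  have hy : formVec f w ⬝ᵥ y = 0 := by rw [formVec_dot hl, hyw]
  have hact : ∀ z, ((tv y (formVec f w) * tv w φ : GL (Fin m) F) : Matrix (Fin m) (Fin m) F) *ᵥ z =
      z + f z w • y + (s * f z w - f z y) • w := by
    intro z
    rw [gl_mul_mulVec, tv_mulVec hφ, tv_mulVec hy]
    simp only [φ, sub_dotProduct, smul_dotProduct, formVec_dot hl, hf.add_left, hf.smul_left, hww, smul_eq_mul]
    module
  refine ⟨_, su_mk hf (fun x z => ?_) ?_, hact⟩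
  · rw [hact, hact]
    simp only [hf.add_left, add_right hf, hf.smul_left, smul_right hf, hww, hyw, hwy, map_mul, map_sub]
    rw [← hf.herm w z, ← hf.herm y z]
    linear_combination f x w * f w z * hs
  · rw [Units.val_mul, det_mul, det_tv, det_tv, one_mul]

theorem exists_tvec {w : W1} (hww : f w w = 0) {s : F} (hs : s + σ s = 0) :
    ∃ g ∈ isoG f ⊓ Cfsg.Geo.specialLinear (Fin m) F,
      ∀ z, (g : Matrix (Fin m) (Fin m) F) *ᵥ z = z + (s * f z w) • w :=
  ⟨tv w (s • formVec f w), ⟨fun x y => utv_isometry hf hww hs x y, tv_mem_specialLinear _ _⟩,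
    utv_mulVec hf hww s⟩

theorem exists_qref {c : W1} (hc : f c c ≠ 0) {d : F} (hd : d * σ d = 1) :
    ∃ g ∈ isoG f, (g : Matrix (Fin m) (Fin m) F).det = d ∧
      (∀ z, f z c = 0 → (g : Matrix (Fin m) (Fin m) F) *ᵥ z = z) ∧
      (g : Matrix (Fin m) (Fin m) F) *ᵥ c = d • c := by
  have h1 := TensorFormMax.UnitSide.qref_det hf hc d
  refine ⟨GeneralLinearGroup.mkOfDetNeZero _ (h1.trans_ne (left_ne_zero_of_mul_eq_one hd)),
    TensorFormMax.UnitSide.qref_isometry hf hc hd, h1, fun z hz => ?_, ?_⟩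
  · show TensorFormMax.UnitSide.qref f c d *ᵥ z = z
    rw [TensorFormMax.UnitSide.qref_mulVec hf, hz, mul_zero, zero_smul, add_zero]
  · show TensorFormMax.UnitSide.qref f c d *ᵥ c = d • c
    rw [TensorFormMax.UnitSide.qref_mulVec hf, div_mul_cancel₀ _ hc, sub_smul, one_smul, add_sub_cancel]

/-- Correcting the determinant away from a non-isotropic vector. -/
theorem fix_det {c : W1} (hc : f c c ≠ 0) {b : GL (Fin m) F} (hb : b ∈ isoG f) :
    ∃ b' ∈ isoG f ⊓ Cfsg.Geo.specialLinear (Fin m) F,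
      ∀ z, f z c = 0 → (b' : Matrix (Fin m) (Fin m) F) *ᵥ z = (b : Matrix (Fin m) (Fin m) F) *ᵥ z := by
  have hn := det_norm hf hb
  obtain ⟨g, hg, hd, hfix, -⟩ := exists_qref hf hc (d := σ (b : Matrix (Fin m) (Fin m) F).det)
    (by rw [hf.involutive, mul_comm]; exact hn)
  refine ⟨b * g, su_mk hf (mul_mem hb hg) ?_, fun z hz => by rw [gl_mul_mulVec, hfix z hz]⟩
  rw [Units.val_mul, det_mul, hd, hn]

theorem exists_aniso_perp [Finite F] (hm : 3 ≤ m) {w w' : W1} (hww : f w w = 0) (hw'w' : f w' w' = 0)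
    (hp : f w w' = 1) : ∃ c, f c w = 0 ∧ f c w' = 0 ∧ f c c ≠ 0 := by
  obtain ⟨z, hz, hzs⟩ := TensorFormMax.UnitSide.exists_orth hf (![] : Fin 0 → W1) ![w, w'] (by omega)
  have hz0 : z ≠ 0 := fun e => hz (by rw [e]; exact Submodule.zero_mem _)
  obtain ⟨p, hp1, hp2⟩ := TensorFormMax.UnitSide.exists_aniso hf ![w, w'] hzs fun e => by
    obtain ⟨d, hd⟩ := (Submodule.mem_span_range_iff_exists_fun F).1 e
    simp only [Fin.sum_univ_two, Matrix.cons_val_zero, Matrix.cons_val_one] at hd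
    have e1 : f z w = 0 := hzs 0
    have e2 : f z w' = 0 := hzs 1
    rw [← hd] at e1 e2
    simp only [hf.add_left, hf.smul_left, hww, hw'w', hp, mul_zero, zero_add, add_zero, mul_one] at e1 e2
    rw [hf.herm w' w, hp, map_one, mul_one] at e1
    exact hz0 (by rw [← hd, e1, e2, zero_smul, zero_smul, add_zero])
  exact ⟨p, hp1 0, hp1 1, hp2⟩

theorem exists_torus [Finite F] (hm : 3 ≤ m) {w w' : W1} (hww : f w w = 0) (hw'w' : f w' w' = 0)
    (hp : f w w' = 1) {l : F} (hl : l ≠ 0) :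
    ∃ g ∈ isoG f ⊓ Cfsg.Geo.specialLinear (Fin m) F, (g : Matrix (Fin m) (Fin m) F) *ᵥ w = l • w ∧
      (g : Matrix (Fin m) (Fin m) F) *ᵥ w' = (σ l)⁻¹ • w' := by
  have hp' : f w' w = 1 := by rw [hf.herm, hp, map_one]
  have hσl : σ l ≠ 0 := by simpa using hl
  let L : W1 →ₗ[F] W1 :=
    { toFun := fun z => z + ((l - 1) * f z w') • w + (((σ l)⁻¹ - 1) * f z w) • w'
      map_add' := fun a b => by simp only [hf.add_left]; module
      map_smul' := fun c a => by simp only [hf.smul_left, RingHom.id_apply]; module }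
  obtain ⟨b, hb, hbL⟩ := exists_gl hf L fun x y => by
    simp only [L, LinearMap.coe_mk, AddHom.coe_mk, hf.add_left, add_right hf, hf.smul_left, smul_right hf,
      map_mul, map_sub, map_one, map_inv₀, hf.involutive, hww, hw'w', hp, hp']
    rw [← hf.herm w' y, ← hf.herm w y]
    field_simp
    ring
  obtain ⟨c, hcw, hcw', hc⟩ := exists_aniso_perp hf hm hww hw'w' hp
  obtain ⟨g, hg, hgz⟩ := fix_det hf hc hb
  refine ⟨g, hg, ?_, ?_⟩
  · rw [hgz w (swap_eq_zero hf hcw), hbL]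
    simp only [L, LinearMap.coe_mk, AddHom.coe_mk, hp, hww]
    module
  · rw [hgz w' (swap_eq_zero hf hcw'), hbL]
    simp only [L, LinearMap.coe_mk, AddHom.coe_mk, hp', hw'w']
    module

theorem exists_swap [Finite F] (hm : 3 ≤ m) {w w' : W1} (hww : f w w = 0) (hw'w' : f w' w' = 0)
    (hp : f w w' = 1) :
    ∃ g ∈ isoG f ⊓ Cfsg.Geo.specialLinear (Fin m) F, (g : Matrix (Fin m) (Fin m) F) *ᵥ w = w' ∧
      (g : Matrix (Fin m) (Fin m) F) *ᵥ w' = w := by
  have hp' : f w' w = 1 := by rw [hf.herm, hp, map_one]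
  let L : W1 →ₗ[F] W1 :=
    { toFun := fun z => z + (f z w - f z w') • (w - w')
      map_add' := fun a b => by simp only [hf.add_left]; module
      map_smul' := fun c a => by simp only [hf.smul_left, RingHom.id_apply]; module }
  obtain ⟨b, hb, hbL⟩ := exists_gl hf L fun x y => by
    simp only [L, LinearMap.coe_mk, AddHom.coe_mk, hf.add_left, add_right hf, hf.smul_left, smul_right hf,
      form_sub_left (isLinearLeft_of_unitary hf), sub_right hf, map_sub, hww, hw'w', hp, hp']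
    rw [← hf.herm w' y, ← hf.herm w y]
    ring
  obtain ⟨c, hcw, hcw', hc⟩ := exists_aniso_perp hf hm hww hw'w' hp
  obtain ⟨g, hg, hgz⟩ := fix_det hf hc hb
  refine ⟨g, hg, ?_, ?_⟩
  · rw [hgz w (swap_eq_zero hf hcw), hbL]
    simp only [L, LinearMap.coe_mk, AddHom.coe_mk, hp, hww]
    module
  · rw [hgz w' (swap_eq_zero hf hcw'), hbL]
    simp only [L, LinearMap.coe_mk, AddHom.coe_mk, hp', hw'w']
    module

/-- Transitivity on isotropic lines. -/
theorem exists_move [Finite F] (hm : 3 ≤ m) {v w : W1} (hv : v ≠ 0) (hvv : f v v = 0) (hw : w ≠ 0)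
    (hww : f w w = 0) :
    ∃ g ∈ isoG f ⊓ Cfsg.Geo.specialLinear (Fin m) F, ∃ μ : F, μ ≠ 0 ∧
      (g : Matrix (Fin m) (Fin m) F) *ᵥ v = μ • w := by
  have hnon : ∀ {v w : W1}, f v v = 0 → f w w = 0 → f v w ≠ 0 →
      ∃ g ∈ isoG f ⊓ Cfsg.Geo.specialLinear (Fin m) F, ∃ μ : F, μ ≠ 0 ∧
        (g : Matrix (Fin m) (Fin m) F) *ᵥ v = μ • w := by
    intro v w hvv hww hvw
    obtain ⟨g, hg, hgv, -⟩ := exists_swap hf hm hvv (w' := (σ (f v w))⁻¹ • w)
      (by rw [hf.smul_left, smul_right hf, hww, mul_zero, mul_zero])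
      (by rw [smul_right hf, map_inv₀, hf.involutive, inv_mul_cancel₀ hvw])
    exact ⟨g, hg, _, inv_ne_zero (by simpa using hvw), hgv⟩
  by_cases hvw : f v w ≠ 0
  · exact hnon hvv hww hvw
  by_cases hs : w ∈ Submodule.span F {v}
  · obtain ⟨c, rfl⟩ := Submodule.mem_span_singleton.1 hs
    have hc : c ≠ 0 := fun e => hw (by rw [e, zero_smul])
    refine ⟨1, one_mem _, c⁻¹, inv_ne_zero hc, ?_⟩
    rw [Units.val_one, one_mulVec, inv_smul_smul₀ hc]
  push Not at hvw
  obtain ⟨t, htv, htw⟩ : ∃ t, f t v = 1 ∧ f t w ≠ 0 := by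
    obtain ⟨t1, h1, h1v⟩ := dual_right hf (S := Submodule.span F {w}) (z := v) fun e => by
      obtain ⟨c, hc⟩ := Submodule.mem_span_singleton.1 e
      have hc0 : c ≠ 0 := fun e0 => hv (by rw [← hc, e0, zero_smul])
      exact hs (Submodule.mem_span_singleton.2 ⟨c⁻¹, by rw [← hc, inv_smul_smul₀ hc0]⟩)
    obtain ⟨t2, h2, h2w⟩ := dual_right hf hs
    refine ⟨t1 + t2, ?_, ?_⟩
    · rw [hf.add_left, h1v, h2 v (Submodule.mem_span_singleton_self v), add_zero]
    · rw [hf.add_left, h1 w (Submodule.mem_span_singleton_self w), zero_add, h2w]; exact one_ne_zero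
  obtain ⟨a, -, ha⟩ := exists_isotropic_shift hf hvv (z := t) (by
    rw [hf.herm, htv, map_one]; exact one_ne_zero)
  have h1 : f v (t + a • v) ≠ 0 := by
    rw [add_right hf, smul_right hf, hvv, mul_zero, add_zero, hf.herm, htv, map_one]
    exact one_ne_zero
  have h2 : f (t + a • v) w ≠ 0 := by
    rwa [hf.add_left, hf.smul_left, hvw, mul_zero, add_zero]
  obtain ⟨g, hg, μ, hμ, hgv⟩ := hnon hvv ha h1
  obtain ⟨g', hg', μ', hμ', hgu⟩ := hnon ha hww h2
  exact ⟨g' * g, mul_mem hg' hg, μ * μ', mul_ne_zero hμ hμ', by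
    rw [gl_mul_mulVec, hgv, mulVec_smul, hgu, smul_smul]⟩

end factor

end Cfsg.Agent.Lib.UnitaryPowerMax.Form
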