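import Cfsg.Agent.Lib.UnitaryPowerMax.Alg

/-!
An exceptional central element makes every isotropic vector a centre of transvections.
-/

set_option autoImplicit false
set_option linter.unusedSectionVars false

namespace Cfsg.Agent.Lib.UnitaryPowerMax.Full

open Matrix
open Cfsg.Agent.Lib.Subspaces.Transvection Cfsg.Agent.Lib.Subspaces.FormVec
  Cfsg.Agent.Lib.Subspaces.UnitaryForm Cfsg.Agent.Lib.TensorPowerMax.Basic
  Cfsg.Agent.Lib.UnitaryPowerMax.Form Cfsg.Agent.Lib.UnitaryPowerMax.Rad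

variable {ι : Type} [Fintype ι] [DecidableEq ι] {m : ℕ} {F : Type*} [Field F] {σ : F ≃+* F}
  {f : (Fin m → F) → (Fin m → F) → F}

local notation "A1" => Matrix (Fin m) (Fin m) F
local notation "W1" => Fin m → F
local notation "VV" => (ι → Fin m) → F
local notation "Big" => Matrix (ι → Fin m) (ι → Fin m) F
local notation "GG" => GL (ι → Fin m) F

/-- All transvections with centre `x` lie in the group. -/
def Ctr (σ : F ≃+* F) (f : (Fin m → F) → (Fin m → F) → F) (M : Subgroup (GL (ι → Fin m) F))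
    (x : (ι → Fin m) → F) : Prop :=
  ∀ γ : F, γ + σ γ = 0 → ∃ g ∈ M, ∀ z, (g : Big) *ᵥ z = z + (γ * Bf σ f z x) • x

/-- A radical element supported at one vector. -/
def Has (f : (Fin m → F) → (Fin m → F) → F) (M : Subgroup (GL (ι → Fin m) F)) (j : ι) (w c : Fin m → F)
    (A : Matrix ({i // i ≠ j} → Fin m) ({i // i ≠ j} → Fin m) F) : Prop :=
  ∃ x ∈ M, ∀ y, f y w = 0 → ∀ u, (x : Matrix (ι → Fin m) (ι → Fin m) F) *ᵥ ins j y u =
    ins j y u + f y c • ins j w (A *ᵥ u)

theorem up_oneGL {j : ι} (l : {i // i ≠ j}) (g : GL (Fin m) F) : Alg.up j (oneGL l g) = oneGL l.1 g := by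
  show (spU j).symm _ = _
  rw [MulEquiv.symm_apply_eq, TensorPowerMax.Split.spU_oneGL_ne l.2]

theorem oneGL_ins_ne {j : ι} (l : {i // i ≠ j}) (g : GL (Fin m) F) (v : W1)
    (u : ({i // i ≠ j} → Fin m) → F) :
    (oneGL l.1 g : GG).val *ᵥ ins j v u = ins j v ((oneGL l g).val *ᵥ u) := by
  rw [← up_oneGL, Alg.up_mulVec]

theorem tw_ins {j : ι} (a : ι → GL (Fin m) F) (π : Equiv.Perm ι) (h : π j = j) (v : W1)
    (u : ({i // i ≠ j} → Fin m) → F) :
    (ptGL a * pmGL π : GG).val *ᵥ ins j v u = ins j ((a j : A1) *ᵥ v)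
      ((ptGL (fun i : {i // i ≠ j} => a i.1) * pmGL (TensorPowerMax.Split.restrict π h)).val *ᵥ u) := by
  set R := ptGL (fun i : {i // i ≠ j} => a i.1) * pmGL (TensorPowerMax.Split.restrict π h)
  have e : ptGL a * pmGL π = oneGL j (a j) * Alg.up j R := by
    refine (spU j).injective ?_
    rw [TensorPowerMax.Split.spU_tw a π h, map_mul, TensorPowerMax.Split.spU_oneGL_self,
      show spU j (Alg.up j R) = TensorPowerMax.Side.kronGL R 1 from (spU j).apply_symm_apply _,
      TensorPowerMax.BlockTo.kronGL_mul, one_mul, mul_one]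
  rw [e, gl_mul_mulVec, Alg.up_mulVec, one_mulVec_ins]

theorem partner_perp (hf : Cfsg.Geo.IsUnitaryForm σ f) {w c : W1} (hw : w ≠ 0) (hww : f w w = 0)
    (hcw : f c w = 0) (hc : f c c ≠ 0) : ∃ w', f w' w' = 0 ∧ f w w' = 1 ∧ f w' w = 1 ∧ f w' c = 0 := by
  obtain ⟨y, -, -, hy⟩ := exists_partner hf hw hww
  set y0 := y - (f y c / f c c) • c
  have h1 : f y0 w = 1 := by
    rw [form_sub_left (isLinearLeft_of_unitary hf), hf.smul_left, hcw, mul_zero, sub_zero, hy]
  have h2 : f y0 c = 0 := by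
    rw [form_sub_left (isLinearLeft_of_unitary hf), hf.smul_left, div_mul_cancel₀ _ hc, sub_self]
  obtain ⟨a, -, ha⟩ := exists_isotropic_shift hf hww (z := y0) (by rw [hf.herm, h1, map_one]; exact one_ne_zero)
  have h3 : f (y0 + a • w) w = 1 := by rw [hf.add_left, hf.smul_left, h1, hww, mul_zero, add_zero]
  exact ⟨_, ha, by rw [hf.herm, h3, map_one], h3, by
    rw [hf.add_left, hf.smul_left, h2, swap_eq_zero hf hcw, mul_zero, add_zero]⟩

variable {M : Subgroup (GL (ι → Fin m) F)} (S : Setting σ f M)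
include S

/-- The central coefficients. -/
def sset (j : ι) {w : W1} (hww : f w w = 0) :
    AddSubgroup (Matrix ({i // i ≠ j} → Fin m) ({i // i ≠ j} → Fin m) F) where
  carrier := {T | ∃ x ∈ M, Cen f j w T x}
  add_mem' := by
    rintro T T' ⟨x, hx, h⟩ ⟨x', hx', h'⟩
    exact ⟨x * x', M.mul_mem hx hx', cen_mul S.u hww h h'⟩
  zero_mem' := ⟨1, M.one_mem, cen_one S.u j w⟩
  neg_mem' := by
    rintro T ⟨x, hx, h⟩
    exact ⟨x⁻¹, M.inv_mem hx, cen_inv S.u hww h⟩

theorem sset_scalar (j : ι) {w : W1} (hww : f w w = 0) {s : F} (hs : s + σ s = 0) :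
    s • (1 : Matrix ({i // i ≠ j} → Fin m) _ F) ∈ sset S j hww := by
  obtain ⟨t, ht, htz⟩ := exists_tvec S.u hww hs
  refine ⟨oneGL j t, S.one j t ht, fun z => ?_⟩
  conv_lhs => rw [← sum_ins j z, mulVec_sum]
  rw [ctr_hv_sum, smul_mulVec, one_mulVec]
  conv_rhs => arg 1; rw [← sum_ins j z]
  simp only [one_mulVec_ins, htz, ins_add_left, ins_smul, Finset.sum_add_distrib, Finset.smul_sum, smul_smul,
    map_sum, map_smul]

theorem sset_inv (j : ι) {w : W1} (hww : f w w = 0) (l : {i // i ≠ j}) {g : GL (Fin m) F} (hg : g ∈ SU1 f)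
    {T} (hT : T ∈ sset S j hww) : (oneGL l g).val * T * ((oneGL l g)⁻¹ : GL _ F).val ∈ sset S j hww := by
  obtain ⟨x, hx, h⟩ := hT
  have hgM := S.one l.1 g hg
  exact ⟨oneGL l.1 g * x * (oneGL l.1 g)⁻¹, M.mul_mem (M.mul_mem hgM hx) (M.inv_mem hgM),
    cen_conj S.u h (S.iso hgM) (oneGL_iso S.u l hg.1) fun u => oneGL_ins_ne l g w u⟩

theorem sset_norm [Finite F] (j : ι) {w : W1} (hw : w ≠ 0) (hww : f w w = 0) {r : F} (hr : σ r = r) {T}
    (hT : T ∈ sset S j hww) : r • T ∈ sset S j hww := by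
  rcases eq_or_ne r 0 with rfl | hr0
  · rw [zero_smul]; exact (sset S j hww).zero_mem
  obtain ⟨l, hl⟩ := S.hN r hr
  have hl0 : l ≠ 0 := fun e => hr0 (by rw [← hl, e, zero_mul])
  obtain ⟨w', hw'w', hp, -⟩ := exists_partner S.u hw hww
  obtain ⟨g, hg, hgw, -⟩ := exists_torus S.u S.hm hww hw'w' hp hl0
  obtain ⟨x, hx, h⟩ := hT
  have h1 := cen_conj S.u h (S.iso (S.one j g hg)) (w' := l • w) (D := 1) (one_mem _)
    fun u => by rw [one_mulVec_ins, hgw, Units.val_one, one_mulVec]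
  rw [inv_one, Units.val_one, one_mul, mul_one] at h1
  have h2 := cen_smul_vec S.u h1
  rw [hl] at h2
  exact ⟨_, M.mul_mem (M.mul_mem (S.one j g hg) hx) (M.inv_mem (S.one j g hg)), h2⟩

theorem sset_move [Finite F] (j : ι) {v w : W1} (hv : v ≠ 0) (hvv : f v v = 0) (hw : w ≠ 0) (hww : f w w = 0)
    {T} (hT : T ∈ sset S j hvv) : T ∈ sset S j hww := by
  obtain ⟨g, hg, μ, hμ, hgv⟩ := exists_move S.u S.hm hv hvv hw hww
  obtain ⟨x, hx, h⟩ := hT
  have h1 := cen_conj S.u h (S.iso (S.one j g hg)) (w' := μ • w) (D := 1) (one_mem _)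
    fun u => by rw [one_mulVec_ins, hgv, Units.val_one, one_mulVec]
  rw [inv_one, Units.val_one, one_mul, mul_one] at h1
  have h2 : (μ * σ μ) • T ∈ sset S j hww :=
    ⟨_, M.mul_mem (M.mul_mem (S.one j g hg) hx) (M.inv_mem (S.one j g hg)), cen_smul_vec S.u h1⟩
  have h3 := sset_norm S j hw hww (r := (μ * σ μ)⁻¹) (by rw [map_inv₀, map_mul, S.u.involutive, mul_comm]) h2
  rwa [inv_smul_smul₀ (mul_ne_zero hμ (by simpa using hμ))] at h3

/-- A square-zero central coefficient. -/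
theorem exists_nil [Finite F] (j : ι) {w : W1} (hw : w ≠ 0) (hww : f w w = 0) {T0}
    (hT0 : T0 ∈ sset S j hww) (hns : ∀ c : F, T0 ≠ c • 1) :
    ∃ N ∈ sset S j hww, N * N = 0 ∧ N ≠ 0 := by
  have hf := S.u
  have hm := S.hm
  have hl := isLinearLeft_of_unitary hf
  obtain ⟨u0, hu0, huu0, -⟩ := TensorFormMax.UnitSide.exists_iso_orth hf S.hN (![] : Fin 0 → W1) (by omega)
  obtain ⟨u0', hu0', hp0, -⟩ := exists_partner hf hu0 huu0
  obtain ⟨i, u, huu, hne⟩ : ∃ (i : {i // i ≠ j}) (u : W1), f u u = 0 ∧ Alg.ent i T0 u (formVec f u) ≠ 0 := by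
    by_contra hc
    push Not at hc
    obtain ⟨z, hz⟩ := TensorPowerMax.AlgTop.eq_scalar_of_one (by omega)
      fun i => Alg.one_of_zero hf hm huu0 hu0' hp0 (hc i)
    exact hns z hz
  have hu : u ≠ 0 := fun e => hne (Matrix.mulVec_injective (funext fun r => by
    rw [Alg.ent_mulVec, e, ins_zero_left, mulVec_zero, map_zero, zero_mulVec]))
  have hT : ∀ (i : {i // i ≠ j}), ∀ g ∈ SU1 f, ∀ A ∈ sset S j hww,
      (oneGL i g).val * A * ((oneGL i g)⁻¹ : GL ({i // i ≠ j} → Fin m) F).val ∈ sset S j hww :=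
    fun i g hg A hA => sset_inv S j hww i hg hA
  set U := Alg.el i u (formVec f u) (1 : Matrix ({k // k ≠ i} → Fin m) _ F) with hU
  have hUU : U * U = 0 := by rw [hU, Alg.el_mul, formVec_dot hl, huu, zero_smul]
  by_cases h3 : ∃ r : F, σ r = r ∧ r ≠ 0 ∧ r ≠ 1
  · obtain ⟨r, hr, hr0, hr1⟩ := h3
    obtain ⟨e, he, he'⟩ := exists_skew_scalar hf
    have hmove := Alg.tvec_conj hf hT i
    have d1 := sub_mem (hmove u e huu he' T0 hT0) hT0
    have d2 := sub_mem (hmove u (r * e) huu (by rw [map_mul, hr]; linear_combination r * he') T0 hT0) hT0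
    have hσe : σ e = -e := eq_neg_of_add_eq_zero_right he'
    have hh := sset_norm S j hw hww (r := (r * r * e * e - r * e * e)⁻¹)
      (by simp only [map_inv₀, map_sub, map_mul, hr, hσe]; ring_nf)
      (sub_mem (sset_norm S j hw hww hr d1) d2)
    refine ⟨U * T0 * U, ?_, ?_, ?_⟩
    · convert hh using 1
      rw [eq_inv_smul_iff₀ (by
        rw [show r * r * e * e - r * e * e = r * (r - 1) * (e * e) by ring]
        exact mul_ne_zero (mul_ne_zero hr0 (sub_ne_zero.2 hr1)) (mul_ne_zero he he))]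
      simp only [← hU, mul_sub, add_mul, one_mul, mul_one, Matrix.smul_mul, Matrix.mul_smul, smul_sub,
        smul_add, smul_smul, sub_smul]
      module
    · rw [show U * T0 * U * (U * T0 * U) = U * T0 * (U * U) * (T0 * U) by simp only [Matrix.mul_assoc], hUU,
        Matrix.mul_zero, Matrix.zero_mul]
    · rw [hU, Alg.el_mid]
      exact Alg.el_ne_zero hu (formVec_ne_zero hl hf.nondegenerate hu) hne
  have h4 : 4 ≤ m := S.hex.resolve_right h3
  obtain ⟨h2, ω, hω, hσω, hωsq⟩ := Alg.two_facts hf h3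
  obtain ⟨v, s, hvv, hvu, hvspan, -, -, -⟩ := Alg.exists_second hf S.hN h4 hu huu
  have huv : f u v = 0 := swap_eq_zero hf hvu
  set V := Alg.el i v (formVec f v) (1 : Matrix ({k // k ≠ i} → Fin m) _ F) with hV
  set P := Alg.el i u (formVec f v) (1 : Matrix ({k // k ≠ i} → Fin m) _ F) with hP
  set Q := Alg.el i v (formVec f u) (1 : Matrix ({k // k ≠ i} → Fin m) _ F) with hQ
  let C : F → Matrix ({i // i ≠ j} → Fin m) ({i // i ≠ j} → Fin m) F := fun ε =>
    U * T0 * V + V * T0 * U + ε • (U * T0 * P + P * T0 * U) + σ ε • (U * T0 * Q + Q * T0 * U)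
  have hC : ∀ ε : F, ε * σ ε = 1 → C ε ∈ sset S j hww := Alg.cross_mem hf h2 hT hT0 huu hvv hvu
  have hsq : ∀ ε : F, C ε * C ε = 0 := by
    intro ε
    have hz : ∀ x y : W1, (x = u ∨ x = v) → (y = u ∨ y = v) → f x y = 0 := by
      rintro x y (rfl | rfl) (rfl | rfl) <;> assumption
    have hP2 : U * P = 0 ∧ P * U = 0 ∧ U * Q = 0 ∧ Q * U = 0 ∧ U * V = 0 ∧ V * U = 0 ∧ P * P = 0 ∧ P * Q = 0 ∧
        Q * P = 0 ∧ Q * Q = 0 ∧ P * V = 0 ∧ V * P = 0 ∧ Q * V = 0 ∧ V * Q = 0 ∧ V * V = 0 := by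
      simp only [hU, hV, hP, hQ, Alg.el_mul, formVec_dot hl, huu, hvv, huv, hvu, zero_smul, and_self]
    obtain ⟨a1, a2, a3, a4, a5, a6, a7, a8, a9, a10, a11, a12, a13, a14, a15⟩ := hP2
    have b : ∀ {X Y : Matrix ({i // i ≠ j} → Fin m) ({i // i ≠ j} → Fin m) F}, X * Y = 0 → ∀ Z, X * (Y * Z) = 0 :=
      fun h Z => by rw [← Matrix.mul_assoc, h, Matrix.zero_mul]
    simp only [C, add_mul, mul_add, Matrix.smul_mul, Matrix.mul_smul, smul_add, Matrix.mul_assoc, b hUU, b a1, b a2,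
      b a3, b a4, b a5, b a6, b a7, b a8, b a9, b a10, b a11, b a12, b a13, b a14, b a15, Matrix.mul_zero,
      smul_zero, add_zero]
  have hσ1 : σ (ω + 1) = ω + 1 + 1 := by rw [map_add, map_one, hσω]
  by_contra hc
  push Not at hc
  have c1 := hc _ (hC 1 (by rw [map_one, one_mul])) (hsq 1)
  have c2 := hc _ (hC ω hω) (hsq ω)
  have c3 := hc _ (hC (ω + 1) (by rw [hσ1]; linear_combination hωsq + ω * h2)) (hsq _)
  simp only [C, map_one, one_smul, hσω, hσ1] at c1 c2 c3
  have hW : U * T0 * P + P * T0 * U = 0 := by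
    have e := congrArg₂ (· + ·) (congrArg₂ (· + ·) c1 (congrArg (fun X => (ω + 1) • X) c2))
      (congrArg (fun X => (ω + 1 + 1) • X) c3)
    simp only [smul_zero, add_zero] at e
    rw [← e]
    match_scalars <;> first
      | linear_combination -(ω + 2) * h2 | linear_combination -(ω * ω + 2 * ω + 1) * h2
      | linear_combination -(ω * ω + 3 * ω + 3) * h2
  rw [hU, hP, Alg.el_mid, Alg.el_mid] at hW
  obtain ⟨y, hy, hy1⟩ := dual_right hf (S := Submodule.span F {u}) hvspan
  refine hne (Matrix.mulVec_injective (funext fun r => ins_injective hu ?_))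
  have h1 := congrArg (fun X => X *ᵥ ins i y r) hW
  simp only [add_mulVec, Alg.el_ins, formVec_dot hl, hy1, hy u (Submodule.mem_span_singleton_self u), one_smul,
    zero_smul, add_zero, zero_mulVec] at h1
  rw [h1, zero_mulVec, map_zero]

/-- Scalar radical elements. -/
theorem has_scalar [Finite F] (j : ι) {w c : W1} (hww : f w w = 0) (hcw : f c w = 0) (l : F) :
    Has f M j w c (l • 1) := by
  have hf := S.u
  obtain ⟨y, hy⟩ : ∃ y : W1, y = (-σ l) • c := ⟨_, rfl⟩
  have hyw : f y w = 0 := by rw [hy, hf.smul_left, hcw, mul_zero]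
  obtain ⟨s, hs⟩ := exists_trace hf (r := -f y y) (by rw [map_neg, self_fixed hf])
  obtain ⟨g, hg, hgz⟩ := exists_eich hf hww hyw hs
  refine ⟨oneGL j g, S.one j g hg, fun v hv u => ?_⟩
  rw [one_mulVec_ins, hgz, hv, zero_smul, add_zero, mul_zero, zero_sub, ins_add_left, ins_smul, hy, smul_right hf,
    map_neg, hf.involutive, smul_mulVec, one_mulVec, map_smul, smul_smul]
  congr 2
  ring

theorem has_add [Finite F] {j : ι} {w c : W1} (hww : f w w = 0) (hcw : f c w = 0) {A A'}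
    (hA : Has f M j w c A) (hA' : Has f M j w c A') : Has f M j w c (A + A') := by
  obtain ⟨x, hx, hxz⟩ := hA
  obtain ⟨x', hx', hxz'⟩ := hA'
  refine ⟨x * x', M.mul_mem hx hx', fun y hy u => ?_⟩
  rw [gl_mul_mulVec, hxz' y hy, mulVec_add, mulVec_smul, hxz y hy, hxz w hww, swap_eq_zero S.u hcw, zero_smul,
    add_zero, add_mulVec, map_add, smul_add, add_assoc]

/-- The coefficients all of whose multiples occur. -/
def dmod [Finite F] (j : ι) {w c : W1} (hww : f w w = 0) (hcw : f c w = 0) :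
    Submodule F (Matrix ({i // i ≠ j} → Fin m) ({i // i ≠ j} → Fin m) F) where
  carrier := {A | ∀ l : F, Has f M j w c (l • A)}
  add_mem' := fun {A B} hA hB l => by rw [smul_add]; exact has_add S hww hcw (hA l) (hB l)
  zero_mem' := fun l => by
    have := has_scalar S j hww hcw 0
    rw [zero_smul] at this
    rwa [smul_zero]
  smul_mem' := fun r A hA l => by rw [smul_smul]; exact hA _

theorem one_mem_dmod [Finite F] (j : ι) {w c : W1} (hww : f w w = 0) (hcw : f c w = 0) :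
    (1 : Matrix ({i // i ≠ j} → Fin m) _ F) ∈ dmod S j hww hcw := fun l => has_scalar S j hww hcw l

/-- A square-zero central coefficient acts on the coefficients. -/
theorem has_nil [Finite F] {j : ι} {w w' c : W1} (hw : w ≠ 0) (hww : f w w = 0) (hw'w' : f w' w' = 0)
    (hp : f w w' = 1) (hcw : f c w = 0) {N} (hN : N ∈ sset S j hww) (hNN : N * N = 0) {e : F} (he : e ≠ 0)
    (he' : e + σ e = 0) {A} (hA : Has f M j w c A) : Has f M j w c ((1 + e⁻¹ • N) * A) := by
  have hf := S.u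
  have hp' : f w' w = 1 := by rw [hf.herm, hp, map_one]
  have hw' : w' ≠ 0 := fun e0 => by rw [e0, herm_zero_left hf] at hp'; exact zero_ne_one hp'
  have hσe : σ e = -e := eq_neg_of_add_eq_zero_right he'
  have hfix : σ (e⁻¹ * e⁻¹) = e⁻¹ * e⁻¹ := by rw [map_mul, map_inv₀, hσe]; ring
  have hskew : -e⁻¹ + σ (-e⁻¹) = 0 := by rw [map_neg, map_inv₀, hσe, inv_neg]; ring
  set T := e • (1 : Matrix ({i // i ≠ j} → Fin m) _ F) + N
  set R := (-e⁻¹) • (1 : Matrix ({i // i ≠ j} → Fin m) _ F) + (e⁻¹ * e⁻¹) • N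
  have key : ∀ {T R}, T ∈ sset S j hww → R ∈ sset S j hw'w' → T * R = -1 → R * T = -1 → ∃ g ∈ M,
      (∀ u, (g : Big) *ᵥ ins j w u = ins j w' (R *ᵥ u)) ∧ (∀ u, (g : Big) *ᵥ ins j w' u = ins j w (T *ᵥ u)) ∧
      ∀ y, f y w = 0 → f y w' = 0 → ∀ u, (g : Big) *ᵥ ins j y u = ins j y u := by
    rintro T R ⟨a, ha, hTa⟩ ⟨b, hb, hRb⟩ hTR hRT
    have hai : ∀ y u, (a : Big) *ᵥ ins j y u = ins j y u + f y w • ins j w (T *ᵥ u) := fun y u => by
      rw [hTa, ctr_hv_ins hf, mulVec_smul, map_smul]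
    have hbi : ∀ y u, (b : Big) *ᵥ ins j y u = ins j y u + f y w' • ins j w' (R *ᵥ u) := fun y u => by
      rw [hRb, ctr_hv_ins hf, mulVec_smul, map_smul]
    refine ⟨a * b * a, M.mul_mem (M.mul_mem ha hb) ha, fun u => ?_, fun u => ?_, fun y hy hy' u => ?_⟩ <;>
      simp only [gl_mul_mulVec, mulVec_add, zero_smul, one_smul, add_zero, mulVec_mulVec, neg_mulVec, one_mulVec,
        map_neg, mulVec_neg, *]
    · abel
    · abel
  have hNw' : N ∈ sset S j hw'w' := sset_move S j hw hww hw' hw'w' hN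
  obtain ⟨g1, hg1, h1a, h1b, h1c⟩ := key (T := T) (R := R)
    (add_mem (sset_scalar S j hww he') hN) (add_mem (sset_scalar S j hw'w' hskew) (sset_norm S j hw' hw'w' hfix hNw'))
    (by simp only [T, R, add_mul, mul_add, Matrix.smul_mul, Matrix.mul_smul, hNN, one_mul, mul_one, smul_smul,
          smul_zero, add_zero]
        match_scalars <;> field_simp <;> ring)
    (by simp only [T, R, add_mul, mul_add, Matrix.smul_mul, Matrix.mul_smul, hNN, one_mul, mul_one, smul_smul,
          smul_zero, add_zero]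
        match_scalars <;> field_simp <;> ring)
  obtain ⟨g0, hg0, h0a, h0b, h0c⟩ := key (sset_scalar S j hww he') (sset_scalar S j hw'w' hskew)
    (by rw [Matrix.smul_mul, one_mul, smul_smul, mul_neg, mul_inv_cancel₀ he, neg_smul, one_smul])
    (by rw [Matrix.smul_mul, one_mul, smul_smul, neg_mul, inv_mul_cancel₀ he, neg_smul, one_smul])
  set h := g1 * g0⁻¹
  set H := 1 + e⁻¹ • N
  have hhw : ∀ u, (h : Big) *ᵥ ins j w u = ins j w (H *ᵥ u) := by
    intro u
    have e1 : ((g0⁻¹ : GG) : Big) *ᵥ ins j w u = ins j w' (e⁻¹ • u) := by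
      refine gl_mulVec_injective g0 ?_
      show (g0 : Big) *ᵥ _ = (g0 : Big) *ᵥ _
      rw [gl_mulVec_inv, h0b, smul_mulVec, one_mulVec, smul_smul, mul_inv_cancel₀ he, one_smul]
    rw [gl_mul_mulVec, e1, h1b]
    congr 1
    simp only [T, H, add_mulVec, smul_mulVec, one_mulVec, mulVec_smul, smul_add, smul_smul]
    rw [inv_mul_cancel₀ he, one_smul]
  have hhy : ∀ y, f y w = 0 → f y w' = 0 → ∀ u, (h : Big) *ᵥ ins j y u = ins j y u := fun y hy hy' u => by
    rw [gl_mul_mulVec, show ((g0⁻¹ : GG) : Big) *ᵥ ins j y u = ins j y u by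
      conv_lhs => rw [← h0c y hy hy' u, gl_inv_mulVec], h1c y hy hy']
  obtain ⟨x, hx, hxz⟩ := hA
  have hxw : ∀ u, (x : Big) *ᵥ ins j w u = ins j w u := fun u => by
    rw [hxz w hww, swap_eq_zero hf hcw, zero_smul, add_zero]
  refine ⟨h * x * h⁻¹, M.mul_mem (M.mul_mem (M.mul_mem hg1 (M.inv_mem hg0)) hx)
    (M.inv_mem (M.mul_mem hg1 (M.inv_mem hg0))), fun y hy u => ?_⟩
  have hHH : ∀ v, H *ᵥ ((1 - e⁻¹ • N) *ᵥ v) = v := fun v => by
    rw [mulVec_mulVec, show H * (1 - e⁻¹ • N) = 1 by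
      simp only [H, add_mul, mul_sub, one_mul, mul_one, Matrix.smul_mul, Matrix.mul_smul, hNN, smul_zero, add_zero,
        add_sub_cancel_right], one_mulVec]
  set y0 := y - f y w' • w
  have hy0 : f y0 w = 0 := by
    rw [form_sub_left (isLinearLeft_of_unitary hf), hf.smul_left, hy, hww, mul_zero, sub_zero]
  have hy0' : f y0 w' = 0 := by
    rw [form_sub_left (isLinearLeft_of_unitary hf), hf.smul_left, hp, mul_one, sub_self]
  have hy0c : f y0 c = f y c := by
    rw [form_sub_left (isLinearLeft_of_unitary hf), hf.smul_left, swap_eq_zero hf hcw, mul_zero, sub_zero]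
  have ey : ins j y u = (h : Big) *ᵥ (ins j y0 u + f y w' • ins j w ((1 - e⁻¹ • N) *ᵥ u)) := by
    rw [mulVec_add, mulVec_smul, hhw, hHH, hhy y0 hy0 hy0', ← ins_smul, ← ins_add_left, sub_add_cancel]
  rw [gl_mul_mulVec, gl_mul_mulVec, ey, gl_inv_mulVec, mulVec_add, mulVec_smul, hxw, hxz y0 hy0, hy0c, ← ey,
    mulVec_add, mulVec_add, mulVec_smul, hhw, mulVec_smul, hhw, hHH, hhy y0 hy0 hy0', ← mulVec_mulVec]
  rw [show ins j y u = ins j y0 u + f y w' • ins j w u by rw [← ins_smul, ← ins_add_left, sub_add_cancel]]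
  abel

theorem has_conj [Finite F] {j : ι} {w c : W1} (l : {i // i ≠ j}) {g : GL (Fin m) F} (hg : g ∈ SU1 f) {A}
    (hA : Has f M j w c A) : Has f M j w c ((oneGL l g).val * A * ((oneGL l g)⁻¹ : GL _ F).val) := by
  obtain ⟨x, hx, hxz⟩ := hA
  have hgM := S.one l.1 g hg
  refine ⟨oneGL l.1 g * x * (oneGL l.1 g)⁻¹, M.mul_mem (M.mul_mem hgM hx) (M.inv_mem hgM), fun y hy u => ?_⟩
  have e : ((oneGL l.1 g)⁻¹ : GG).val *ᵥ ins j y u = ins j y (((oneGL l g)⁻¹ : GL _ F).val *ᵥ u) := by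
    rw [Alg.oneGL_inv, oneGL_ins_ne, Alg.oneGL_inv]
  rw [gl_mul_mulVec, gl_mul_mulVec, e, hxz y hy, mulVec_add, mulVec_smul, oneGL_ins_ne, oneGL_ins_ne,
    gl_mulVec_inv, mulVec_mulVec, mulVec_mulVec, Matrix.mul_assoc]

/-- Every coefficient occurs. -/
theorem has_all [Finite F] {j : ι} {w0 : W1} (hw0 : w0 ≠ 0) (hww0 : f w0 w0 = 0) {T0}
    (hT0 : T0 ∈ sset S j hww0) (hns : ∀ z : F, T0 ≠ z • 1) {w c : W1} (hw : w ≠ 0) (hww : f w w = 0)
    (hcw : f c w = 0) (hc : f c c ≠ 0) : ∀ A, Has f M j w c A := by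
  classical
  have hf := S.u
  obtain ⟨N, hN, hNN, hN0⟩ := exists_nil S j hw hww (sset_move S j hw0 hww0 hw hww hT0) hns
  obtain ⟨w', hw'w', hp, hp'⟩ := exists_partner hf hw hww
  obtain ⟨e, he, he'⟩ := exists_skew_scalar hf
  set D := dmod S j hww hcw
  let T : Subalgebra F (Matrix ({i // i ≠ j} → Fin m) ({i // i ≠ j} → Fin m) F) :=
    { carrier := {A | ∀ B ∈ D, A * B ∈ D}
      mul_mem' := fun {A A'} hA hA' B hB => by rw [mul_assoc]; exact hA _ (hA' B hB)
      one_mem' := fun B hB => by rwa [one_mul]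
      add_mem' := fun {A A'} hA hA' B hB => by rw [add_mul]; exact D.add_mem (hA B hB) (hA' B hB)
      zero_mem' := fun B _ => by rw [zero_mul]; exact D.zero_mem
      algebraMap_mem' := fun r B hB => by
        rw [Algebra.algebraMap_eq_smul_one, Matrix.smul_mul, one_mul]; exact D.smul_mem r hB }
  have hTinv : Alg.Inv f T := by
    intro l g hg A hA B hB
    set R := oneGL (ι := {i // i ≠ j}) l g with hR
    have hD : ∀ B ∈ D, R.val * B * (R⁻¹ : GL _ F).val ∈ D := fun B hB r => by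
      rw [← Matrix.smul_mul, ← Matrix.mul_smul]; exact has_conj S l hg (hB r)
    have hD' : ∀ B ∈ D, (R⁻¹ : GL _ F).val * B * R.val ∈ D := fun B hB r => by
      rw [← Matrix.smul_mul, ← Matrix.mul_smul]
      have := has_conj S l (inv_mem hg) (hB r)
      rwa [← Alg.oneGL_inv, inv_inv, ← hR] at this
    have e1 := hD _ (hA _ (hD' B hB))
    convert e1 using 1
    simp only [Matrix.mul_assoc]
    rw [← Units.val_mul, mul_inv_cancel, Units.val_one, mul_one]
  have hNT : N ∈ T := fun B hB => by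
    have hHB : (1 + e⁻¹ • N) * B ∈ D := fun r => by
      rw [← Matrix.mul_smul]; exact has_nil S hw hww hw'w' hp hcw hN hNN he he' (hB r)
    have := D.smul_mem e (D.sub_mem hHB hB)
    rwa [add_mul, one_mul, add_sub_cancel_left, Matrix.smul_mul, smul_smul, mul_inv_cancel₀ he, one_smul] at this
  have hNs : ∀ z : F, N ≠ z • 1 := fun z hz => hN0 (by
    have := hNN
    rw [hz, Matrix.smul_mul, one_mul, smul_smul] at this
    haveI hne := TensorPowerMax.Roots.rest_nonempty (ι := ι) S.hm j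
    rcases smul_eq_zero.1 this with e0 | e0
    · rw [hz, mul_self_eq_zero.1 e0, zero_smul]
    · exact absurd e0 one_ne_zero)
  obtain ⟨l0, hl0⟩ := Alg.exists_factor hf S.hN S.hm S.hex _ {i // i ≠ j} rfl T hTinv ⟨N, hNT, hNs⟩
  have htop : T = ⊤ := Alg.eq_top_of_factors fun l E => by
    by_cases hll : l0 = l
    · rw [← hll]; exact hl0 E
    rcases S.perm with h2 | hperm
    · exfalso
      have h1 : Fintype.card {k // k ≠ j} = 1 := by rw [Fintype.card_subtype_compl, Fintype.card_subtype_eq, h2]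
      exact hll (Fintype.card_le_one_iff.1 h1.le l0 l)
    obtain ⟨a, ha, hM⟩ := hperm (Equiv.swap l0.1 l.1)
    have hfix : Equiv.swap l0.1 l.1 j = j := Equiv.swap_apply_of_ne_of_ne l0.2.symm l.2.symm
    set a' := fun i : {i // i ≠ j} => a i.1
    set R := ptGL a' * pmGL (TensorPowerMax.Split.restrict (Equiv.swap l0.1 l.1) hfix) with hR
    -- correct the frame
    obtain ⟨q, hq, hqd, hqfix, hqc⟩ := exists_qref hf hc (det_norm hf (ha j))
    set d := (a j : A1).det
    obtain ⟨b, hb, hbv⟩ : ∃ b ∈ SU1 f, ∀ v, (b : A1) *ᵥ ((a j : A1) *ᵥ v) = (q : A1) *ᵥ v :=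
      ⟨q * (a j)⁻¹, su_mk hf (mul_mem hq (inv_mem (ha j))) (by
        rw [Units.val_mul, det_mul, hqd, ← det_mul, ← Units.val_mul, mul_inv_cancel, Units.val_one, det_one]),
        fun v => by rw [gl_mul_mulVec, gl_inv_mulVec]⟩
    set g := oneGL j b * (ptGL a * pmGL (Equiv.swap l0.1 l.1))
    have hgM : g ∈ M := M.mul_mem (S.one j b hb) hM
    have hgins : ∀ v u, (g : Big) *ᵥ ins j v u = ins j ((q : A1) *ᵥ v) (R.val *ᵥ u) := fun v u => by
      rw [gl_mul_mulVec, tw_ins a _ hfix, one_mulVec_ins, hbv]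
    have hqinv : ∀ v, f (((q⁻¹ : GL (Fin m) F) : A1) *ᵥ v) c = σ d * f v c := fun v => by
      rw [← iso_move hq, hqc, smul_right hf]
    have hgi : ∀ v u, ((g⁻¹ : GG) : Big) *ᵥ ins j v u =
        ins j (((q⁻¹ : GL (Fin m) F) : A1) *ᵥ v) ((R⁻¹ : GL _ F).val *ᵥ u) := fun v u => by
      refine gl_mulVec_injective g ?_
      show (g : Big) *ᵥ _ = (g : Big) *ᵥ _
      rw [gl_mulVec_inv, hgins, gl_mulVec_inv, gl_mulVec_inv]
    have hσd : σ d ≠ 0 := by simpa using left_ne_zero_of_mul_eq_one (det_norm hf (ha j))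
    have hqw : (q : A1) *ᵥ w = w := hqfix w (swap_eq_zero hf hcw)
    have hD : ∀ B ∈ D, R.val * B * (R⁻¹ : GL _ F).val ∈ D := fun B hB r => by
      obtain ⟨x, hx, hxz⟩ := hB (r / σ d)
      refine ⟨g * x * g⁻¹, M.mul_mem (M.mul_mem hgM hx) (M.inv_mem hgM), fun y hy u => ?_⟩
      rw [gl_mul_mulVec, gl_mul_mulVec, hgi, hxz _ (by rw [← iso_move hq, hqw, hy]), mulVec_add, mulVec_smul,
        hgins, hgins, gl_mulVec_inv, gl_mulVec_inv, hqw, hqinv, smul_mulVec, smul_mulVec, mulVec_smul, map_smul,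
        map_smul, smul_smul, smul_smul, mulVec_mulVec, mulVec_mulVec, Matrix.mul_assoc]
      congr 2
      field_simp
    have hgiM : ∀ B ∈ D, (R⁻¹ : GL _ F).val * B * R.val ∈ D := fun B hB r => by
      obtain ⟨x, hx, hxz⟩ := hB (r * σ d)
      refine ⟨g⁻¹ * x * g, M.mul_mem (M.mul_mem (M.inv_mem hgM) hx) hgM, fun y hy u => ?_⟩
      have hqy : f ((q : A1) *ᵥ y) w = 0 := by conv_lhs => rw [← hqw]; rw [iso_apply hq, hy]
      have hqyc : σ d * f ((q : A1) *ᵥ y) c = f y c := by rw [← hqinv, gl_inv_mulVec]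
      rw [gl_mul_mulVec, gl_mul_mulVec, hgins, hxz _ hqy, mulVec_add, mulVec_smul, hgi, hgi, gl_inv_mulVec,
        gl_inv_mulVec, show ((q⁻¹ : GL (Fin m) F) : A1) *ᵥ w = w by conv_lhs => rw [← hqw, gl_inv_mulVec],
        smul_mulVec, smul_mulVec, mulVec_smul, map_smul, map_smul, smul_smul, smul_smul, mulVec_mulVec,
        mulVec_mulVec, Matrix.mul_assoc, mul_comm r, ← mul_assoc, mul_comm _ (σ d), hqyc]
    set al := a' l
    intro B hB
    have h1 := hD _ (hl0 (((al⁻¹ : GL (Fin m) F) : A1) * E * (al : A1)) _ (hgiM B hB))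
    convert h1 using 1
    have hconj := TensorPowerMax.Split.tw_conj_oneM a' (TensorPowerMax.Split.restrict (Equiv.swap l0.1 l.1) hfix) l0
      (((al⁻¹ : GL (Fin m) F) : A1) * E * (al : A1))
    have hil : TensorPowerMax.Split.restrict (Equiv.swap l0.1 l.1) hfix l0 = l :=
      Subtype.ext (Equiv.swap_apply_left l0.1 l.1)
    rw [hil, ← hR] at hconj
    have he2 : (al : A1) * (((al⁻¹ : GL (Fin m) F) : A1) * E * (al : A1)) * ((al⁻¹ : GL (Fin m) F) : A1) = E := by
      simp only [← mul_assoc, ← Units.val_mul, mul_inv_cancel, Units.val_one, one_mul]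
      rw [mul_assoc, ← Units.val_mul, mul_inv_cancel, Units.val_one, mul_one]
    rw [he2] at hconj
    rw [← hconj]
    simp only [Matrix.mul_assoc]
    rw [← Units.val_mul R, mul_inv_cancel, Units.val_one, mul_one]
  intro A
  have h1 := (htop ▸ Algebra.mem_top : A ∈ T) 1 (one_mem_dmod S j hww hcw) 1
  rwa [mul_one, one_smul] at h1

/-- The transvections with centre in a block. -/
theorem ctr_ins_iso [Finite F] {j : ι} (hall : ∀ w c : W1, w ≠ 0 → f w w = 0 → f c w = 0 → f c c ≠ 0 →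
    ∀ A, Has f M j w c A) {w : W1} (hw : w ≠ 0) (hww : f w w = 0)
    (r : ({i // i ≠ j} → Fin m) → F) : Ctr σ f M (ins j w r) := by
  intro γ hγ
  have hf := S.u
  have hl := isLinearLeft_of_unitary hf
  have hB := Bf_unitary (ι := {i // i ≠ j}) hf
  obtain ⟨w0, hw0, hwp, -⟩ := exists_partner hf hw hww
  obtain ⟨c, hcw, -, hc⟩ := exists_aniso_perp hf S.hm hww hw0 hwp
  obtain ⟨w', hw'w', hp, hp', hw'c⟩ := partner_perp hf hw hww hcw hc
  obtain ⟨t, ht⟩ := exists_trace hf (map_one σ)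
  set κ := γ * t
  have hκ : κ - σ κ = γ := by
    rw [map_mul, eq_neg_of_add_eq_zero_right hγ]; linear_combination γ * ht
  set A := vecMulVec r (formVec (Bf σ f) r)
  have hAu : ∀ u, A *ᵥ u = Bf σ f u r • r := fun u => by
    rw [vecMulVec_mulVec, op_smul_eq_smul, formVec_dot (isLinearLeft_of_unitary hB)]
  obtain ⟨x, hx, hxz⟩ := hall w c hw hww hcw hc A
  set y := (σ κ / f c c) • c with hy
  have hyc : σ (f c y) = σ κ := by
    rw [hy, smul_right hf, map_mul, map_div₀, hf.involutive, self_fixed hf, map_div₀, self_fixed hf,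
      div_mul_cancel₀ _ hc]
  have hyw : f y w = 0 := by rw [hy, hf.smul_left, hcw, mul_zero]
  have hyy' : f y c = σ κ := by rw [hy, hf.smul_left, div_mul_cancel₀ _ hc]
  have hw'y : f w' y = 0 := by rw [hy, smul_right hf, hw'c, mul_zero]
  obtain ⟨s, hs⟩ := exists_trace hf (r := -f y y) (by rw [map_neg, self_fixed hf])
  obtain ⟨g, hg, hgz⟩ := exists_eich hf hww hyw hs
  set T := oneGL j g
  set C := T * x * T⁻¹ * x⁻¹ with hC
  have hxw : ∀ u, (x : Big) *ᵥ ins j w u = ins j w u := fun u => by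
    rw [hxz w hww, swap_eq_zero hf hcw, zero_smul, add_zero]
  have hxr : x ∈ radG σ f j w := radG_of_ins hf hp' (S.iso hx) hxw fun v hv u => by
    rw [hxz v hv, add_sub_cancel_left]; exact Submodule.smul_mem _ _ (LinearMap.mem_range_self _ _)
  have hTr : T ∈ radG σ f j w := eich_radG hf hp' hg.1 hww hyw hgz
  have hCz : ∀ z, (C : Big) *ᵥ ((x : Big) *ᵥ ((T : Big) *ᵥ z)) = (T : Big) *ᵥ ((x : Big) *ᵥ z) := fun z => by
    rw [← gl_mul_mulVec, ← gl_mul_mulVec, ← gl_mul_mulVec]; congr 1; rw [hC]; group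
  set v := fun u => ins (ι := ι) j w' u
  set d := fun u => (x : Big) *ᵥ v u - v u with hd
  have hperp : ∀ u, ctr j (formVec f w) (d u) = 0 := fun u => ctr_eq_zero_of hf j fun p => by
    have h0 := iso_apply (S.iso hx) (v u) (ins j w p)
    rw [hxw] at h0
    rw [form_sub_left (isLinearLeft_of_unitary (Bf_unitary hf)), h0, sub_self]
  have hyd : ∀ u, ctr j (formVec f y) (d u) = -κ • (A *ᵥ u) := fun u => by
    refine eq_of_pair hB fun p => ?_
    have h0 := iso_apply (S.iso hx) (v u) (ins j y p)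
    rw [hxz y hyw, show Bf σ f (v u) (ins j y p) = 0 by rw [Bf_ins_ins hf, hw'y, zero_mul],
      show (x : Big) *ᵥ v u = v u + d u by simp only [hd]; abel] at h0
    have hB2 := Bf_unitary (ι := ι) hf
    rw [add_right hB2, smul_right hB2, Bf_add_left, Bf_add_left, Bf_ins_ins hf, hw'y, zero_mul, zero_add,
      Bf_ins hf j (d u) w, hperp, herm_zero_left hB, add_zero, Bf_ins hf j (d u) y, Bf_ins_ins hf, hp', one_mul,
      hyy', hf.involutive] at h0
    rw [Bf_smul_left, hAu, Bf_smul_left]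
    rw [hAu, smul_right hB, ← hB.herm] at h0
    linear_combination h0
  have hCr : C ∈ radG σ f j w := mul_mem (mul_mem (mul_mem hTr hxr) (inv_mem hTr)) (inv_mem hxr)
  obtain ⟨Sc, hSc⟩ := cen_of_fix hf hw hww hp hCr.1 fun z hz => by
    obtain ⟨b, hb⟩ := hxr.2.2 z hz
    obtain ⟨b', hb'⟩ := hTr.2.2 z hz
    have e1 : (x : Big) *ᵥ ((T : Big) *ᵥ z) = ins j w b + ins j w b' + z := by
      rw [show (T : Big) *ᵥ z = ins j w b' + z by rw [hb', sub_add_cancel], mulVec_add, hxw,
        show (x : Big) *ᵥ z = ins j w b + z by rw [hb, sub_add_cancel]]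
      abel
    have e2 : (T : Big) *ᵥ ((x : Big) *ᵥ z) = ins j w b + ins j w b' + z := by
      rw [show (x : Big) *ᵥ z = ins j w b + z by rw [hb, sub_add_cancel], mulVec_add, hTr.2.1,
        show (T : Big) *ᵥ z = ins j w b' + z by rw [hb', sub_add_cancel], add_assoc]
    have := hCz z
    rwa [e1, e2, mulVec_add, mulVec_add, hCr.2.1, hCr.2.1, add_right_inj] at this
  have hCM : C ∈ M :=
    M.mul_mem (M.mul_mem (M.mul_mem (S.one j g hg) hx) (M.inv_mem (S.one j g hg))) (M.inv_mem hx)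
  have hScu : ∀ u, Sc *ᵥ u = γ • (A *ᵥ u) := fun u => by
    refine ins_injective hw ?_
    have hxu : ctr j (formVec f w) ((x : Big) *ᵥ v u) = u := by
      rw [show (x : Big) *ᵥ v u = v u + d u by simp only [hd]; abel, map_add, hperp, add_zero, ctr_hv_ins hf,
        hp', one_smul]
    have e1 := hCz (v u)
    rw [eich_big hf hgz ((x : Big) *ᵥ v u), eich_big hf hgz (v u), hxu, hSc] at e1
    rw [show (x : Big) *ᵥ v u = v u + d u by simp only [hd]; abel] at e1
    simp only [v, map_add, map_sub, map_smul, ctr_hv_ins hf, hp', hw'y, hyd, hyw, hww, one_smul, zero_smul,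
      smul_zero, sub_zero, add_zero, zero_add, mulVec_add, mulVec_sub, mulVec_smul, hxw, hxz y hyw, hyy', hperp,
      show (x : Big) *ᵥ ins j w' u = ins j w' u + d u by simp only [hd, v]; abel] at e1
    rw [map_smul, ← hκ]
    linear_combination (norm := module) e1
  refine ⟨C, hCM, fun z => ?_⟩
  rw [hSc, hScu, hAu, smul_smul, map_smul, Bf_ins hf]

omit S in
/-- The Eichler transformations at `p` in the group. -/
def InEich (σ : F ≃+* F) (f : (Fin m → F) → (Fin m → F) → F) (e : F) (M : Subgroup (GL (ι → Fin m) F))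
    (p w : (ι → Fin m) → F) : Prop :=
  Bf σ f w p = 0 ∧ ∃ g ∈ M, (g : Big) *ᵥ p = p ∧
    ∀ z, Bf σ f z p = 0 → (g : Big) *ᵥ z = z + (e * Bf σ f z w) • p

/-- The vectors whose Eichler transformations at `p` lie in the group. -/
def eich (e : F) (p : VV) : AddSubgroup VV where
  carrier := {w | InEich σ f e M p w}
  zero_mem' := ⟨herm_zero_left (Bf_unitary S.u) p, 1, M.one_mem, by rw [Units.val_one, one_mulVec], fun z _ => by
    rw [zero_right (Bf_unitary S.u), mul_zero, zero_smul, add_zero, Units.val_one, one_mulVec]⟩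
  add_mem' := by
    rintro w w' ⟨hw, g, hg, hgp, hgz⟩ ⟨hw', g', hg', hgp', hgz'⟩
    refine ⟨by rw [Bf_add_left, hw, hw', add_zero], g * g', M.mul_mem hg hg', by
      rw [gl_mul_mulVec, hgp', hgp], fun z hz => ?_⟩
    rw [gl_mul_mulVec, hgz' z hz, mulVec_add, mulVec_smul, hgz z hz, hgp, add_right (Bf_unitary S.u)]
    module
  neg_mem' := by
    rintro w ⟨hw, g, hg, hgp, hgz⟩
    refine ⟨by rw [← neg_one_smul F w, Bf_smul_left, hw, mul_zero], g⁻¹, M.inv_mem hg, by
      conv_lhs => rw [← hgp, gl_inv_mulVec], fun z hz => gl_mulVec_injective g ?_⟩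
    show (g : Big) *ᵥ _ = (g : Big) *ᵥ _
    rw [gl_mulVec_inv, mulVec_add, mulVec_smul, hgz z hz, hgp, ← neg_one_smul F w,
      smul_right (Bf_unitary S.u), map_neg, map_one]
    module

theorem ctr_conj {x : VV} (h : Ctr σ f M x) {g : GG} (hg : g ∈ M) : Ctr σ f M ((g : Big) *ᵥ x) := fun γ hγ => by
  obtain ⟨t, ht, htz⟩ := h γ hγ
  refine ⟨g * t * g⁻¹, M.mul_mem (M.mul_mem hg ht) (M.inv_mem hg), fun z => ?_⟩
  rw [gl_mul_mulVec, gl_mul_mulVec, htz, mulVec_add, gl_mulVec_inv, mulVec_smul, iso_move (S.iso hg)]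

theorem eich_conj {e : F} {p w : VV} (hw : w ∈ eich S e p) {y : GG} (hy : y ∈ M)
    (hyp : (y : Big) *ᵥ p = p) : (y : Big) *ᵥ w ∈ eich S e p := by
  obtain ⟨hwp, g, hg, hgp, hgz⟩ := hw
  have hyp' : ((y⁻¹ : GG) : Big) *ᵥ p = p := by conv_lhs => rw [← hyp, gl_inv_mulVec]
  refine ⟨by conv_lhs => rw [← hyp]; rw [iso_apply (S.iso hy), hwp], y * g * y⁻¹,
    M.mul_mem (M.mul_mem hy hg) (M.inv_mem hy), by rw [gl_mul_mulVec, gl_mul_mulVec, hyp', hgp, hyp],
    fun z hz => ?_⟩
  have hz' : Bf σ f (((y⁻¹ : GG) : Big) *ᵥ z) p = 0 := by rw [← iso_move (S.iso hy), hyp, hz]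
  rw [gl_mul_mulVec, gl_mul_mulVec, hgz _ hz', mulVec_add, gl_mulVec_inv, mulVec_smul, hyp, iso_move (S.iso hy)]

/-- An exceptional central element makes every isotropic vector a centre. -/
theorem full [Finite F] (hbad : ¬ NoRad f M) (x : VV) (hx : Bf σ f x x = 0) : Ctr σ f M x := by
  classical
  simp only [NoRad, not_forall, not_exists] at hbad
  obtain ⟨j, w0, hw0, hww0, T0, hT0, hns⟩ := hbad
  have hall : ∀ w c : W1, w ≠ 0 → f w w = 0 → f c w = 0 → f c c ≠ 0 → ∀ A, Has f M j w c A :=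
    fun w c hw hww hcw hc => has_all S hw0 hww0 (T0 := T0) hT0 hns hw hww hcw hc
  have hf := S.u
  have hl := isLinearLeft_of_unitary hf
  have hm := S.hm
  have hB := Bf_unitary (ι := ι) hf
  have hB' := Bf_unitary (ι := {i // i ≠ j}) hf
  have hzero : Ctr σ f M (0 : VV) := fun γ _ => ⟨1, M.one_mem, fun z => by
    rw [smul_zero, add_zero, Units.val_one, one_mulVec]⟩
  rcases eq_or_ne x 0 with rfl | hx0
  · exact hzero
  obtain ⟨v, a0, hvv, hxp⟩ : ∃ v a, f v v = 0 ∧ Bf σ f x (ins j v a) ≠ 0 := by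
    by_contra hc
    push Not at hc
    refine hx0 (ctr_ext (j := j) fun φ => ?_)
    rw [map_zero]
    obtain ⟨y, rfl⟩ := formVec_surjective hl (add_right hf) hf.nondegenerate φ
    let W : Submodule F W1 :=
      { carrier := {y | ctr j (formVec f y) x = 0}
        add_mem' := fun {p q} (hp : ctr j _ x = 0) (hq : ctr j _ x = 0) => show ctr j _ x = 0 by
          funext r
          have h1 := congrFun hp r
          have h2 := congrFun hq r
          simp [ctr, formVec_add hf, add_mul, Finset.sum_add_distrib] at h1 h2 ⊢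
          rw [h1, h2, add_zero]
        zero_mem' := show ctr j _ x = 0 by funext r; simp [ctr, formVec, zero_right hf]
        smul_mem' := fun c p (hp : ctr j _ x = 0) => show ctr j _ x = 0 by
          funext r
          have h1 := congrFun hp r
          simp [ctr, formVec_smul hf, mul_assoc, ← Finset.mul_sum] at h1 ⊢
          exact Or.inr h1 }
    have : y ∈ Submodule.span F {v : W1 | f v v = 0} := by
      rw [span_isotropic hf (by rw [Fintype.card_fin]; omega)]; trivial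
    exact (Submodule.span_le (p := W)).2 (fun v hv => ctr_eq_zero_of hf j fun u => hc v u hv) this
  set a := (σ (Bf σ f x (ins j v a0)))⁻¹ • a0
  have hxp1 : Bf σ f x (ins j v a) = 1 := by
    rw [map_smul, smul_right hB, map_inv₀, hf.involutive, inv_mul_cancel₀ hxp]
  have ha : a ≠ 0 := fun e => by rw [e, map_zero, zero_right hB] at hxp1; exact zero_ne_one hxp1
  have hv : v ≠ 0 := fun e => by rw [e, ins_zero_left, zero_right hB] at hxp1; exact zero_ne_one hxp1
  obtain ⟨e, he, he'⟩ := exists_skew_scalar hf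
  have he'' : -e + σ (-e) = 0 := by rw [map_neg]; linear_combination -he'
  set p := ins j v a with hpdef
  have hpp : Bf σ f p p = 0 := by rw [Bf_ins_ins hf, hvv, zero_mul]
  set W := eich S e p
  obtain ⟨y, hyy, hvy, hyv⟩ := exists_partner hf hv hvv
  have hblock : ∀ b, ins j v b ∈ W := by
    intro b
    have hwp : Bf σ f (ins j v b) p = 0 := by rw [Bf_ins_ins hf, hvv, zero_mul]
    obtain ⟨g, hg, hgz⟩ := ctr_ins_iso S hall hv hvv (a + b) e he'
    obtain ⟨g', hg', hgz'⟩ := ctr_ins_iso S hall hv hvv b (-e) he''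
    have hpw : Bf σ f p (ins j v b) = 0 := swap_eq_zero hB hwp
    refine ⟨hwp, g * g', M.mul_mem hg hg', ?_, fun z hz => ?_⟩
    · rw [gl_mul_mulVec, hgz', hpw, mul_zero, zero_smul, add_zero, hgz, map_add, ← hpdef, add_right hB, hpp,
        hpw]
      simp
    · rw [gl_mul_mulVec, hgz', hgz, map_add, ← hpdef, Bf_add_left, Bf_smul_left, add_right hB, add_right hB, hz,
        hwp, Bf_ins_ins hf, hvv]
      module
  have hpart : ∀ (y : W1), f y y = 0 → f v y = 1 → ∀ d, Bf σ f d a = 0 → ins j y d ∈ W := by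
    intro y hy hvy d hd
    rcases eq_or_ne d 0 with rfl | hd0
    · rw [map_zero]; exact W.zero_mem
    have hy0 : y ≠ 0 := fun e0 => by rw [e0, zero_right hf] at hvy; exact zero_ne_one hvy
    obtain ⟨b, hb⟩ := (hB'.nondegenerate d hd0).1
    set b' := (e * Bf σ f b d)⁻¹ • b
    obtain ⟨g, hg, hgz⟩ := ctr_ins_iso S hall hy0 hy d e he'
    have hpu : Bf σ f p (ins j y d) = 0 := by rw [Bf_ins_ins hf, hvy, one_mul, swap_eq_zero hB' hd]
    have h1 := eich_conj S (hblock b') hg (by rw [hgz, hpu, mul_zero, zero_smul, add_zero])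
    have h2 := W.sub_mem h1 (hblock b')
    rwa [hgz, add_sub_cancel_left, Bf_ins_ins hf, hvy, one_mul, Bf_smul_left, ← mul_assoc, mul_comm e, mul_assoc,
      inv_mul_cancel₀ (mul_ne_zero he hb), one_smul] at h2
  -- the orthogonal of the line inside the block's orthogonal
  have hanis : ∀ c : W1, f c v = 0 → f c c ≠ 0 → ∀ b, ins j c b ∈ W := by
    intro c hcv hc b
    obtain ⟨y', hy'y', hvy', hy'v, hy'c⟩ := partner_perp hf hv hvv hcv hc
    obtain ⟨d, hd0, hda⟩ : ∃ d : ({i // i ≠ j} → Fin m) → F, d ≠ 0 ∧ Bf σ f d a = 0 := by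
      obtain ⟨d, hd, hdz⟩ := exists_common_zero_not_mem (⊥ : Submodule F (({i // i ≠ j} → Fin m) → F))
        ![formVec (Bf σ f) a] (by
          rw [finrank_bot, TensorPowerMax.Roots.card_rest]
          have : 2 ≤ m ^ (Fintype.card ι - 1) :=
            le_trans (by omega) (Nat.le_self_pow (by have := S.hι; omega) m)
          omega)
      refine ⟨d, by simpa using hd, ?_⟩
      rw [← formVec_dot (isLinearLeft_of_unitary hB')]
      exact hdz 0
    obtain ⟨e1, he1⟩ := (hB'.nondegenerate d hd0).2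
    set e2 := (σ (Bf σ f d e1))⁻¹ • e1
    have he2 : Bf σ f d e2 = 1 := by rw [smul_right hB', map_inv₀, hf.involutive, inv_mul_cancel₀ he1]
    obtain ⟨x, hxM, hxz⟩ := hall v c hv hvv hcv hc (vecMulVec e2 (formVec (Bf σ f) b))
    have hxv : ∀ u, (x : Big) *ᵥ ins j v u = ins j v u := fun u => by
      rw [hxz v hvv, swap_eq_zero hf hcv, zero_smul, add_zero]
    have hd' := hpart y' hy'y' hvy' d hda
    have hΔW := W.sub_mem (eich_conj S hd' hxM (hxv a)) hd'
    set Δ := (x : Big) *ᵥ ins j y' d - ins j y' d with hΔ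
    have hxd : (x : Big) *ᵥ ins j y' d = ins j y' d + Δ := by rw [hΔ]; abel
    have hΔv : ctr j (formVec f v) Δ = 0 := ctr_eq_zero_of hf j fun u => by
      have h0 := iso_apply (S.iso hxM) (ins j y' d) (ins j v u)
      rw [hxv] at h0
      rw [form_sub_left (isLinearLeft_of_unitary hB), h0, sub_self]
    have hmem : Δ + ins j c b ∈ block j v := mem_block_of_orth hf hv fun v' hv' t => by
      set y0 := v' - (f v' c / f c c) • c
      have hy0 : f y0 v = 0 := by rw [form_sub_left hl, hf.smul_left, hv', hcv, mul_zero, sub_zero]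
      have hy0c : f y0 c = 0 := by rw [form_sub_left hl, hf.smul_left, div_mul_cancel₀ _ hc, sub_self]
      have hx0 : (x : Big) *ᵥ ins j y0 t = ins j y0 t := by rw [hxz y0 hy0, hy0c, zero_smul, add_zero]
      have h1 : Bf σ f Δ (ins j y0 t) = 0 := by
        have h0 := iso_apply (S.iso hxM) (ins j y' d) (ins j y0 t)
        rw [hx0] at h0
        rw [form_sub_left (isLinearLeft_of_unitary hB), h0, sub_self]
      have h2 : Bf σ f Δ (ins j c t) = -(f c c * Bf σ f b t) := by
        have h0 := iso_apply (S.iso hxM) (ins j y' d) (ins j c t)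
        rw [hxz c hcv, hxd, add_right hB, smul_right hB, Bf_add_left, Bf_add_left, Bf_ins_ins hf, hy'c, zero_mul,
          zero_add, Bf_ins hf j Δ v, hΔv, herm_zero_left hB', add_zero, Bf_ins_ins hf, hy'v, one_mul,
          self_fixed hf, vecMulVec_mulVec, op_smul_eq_smul, formVec_dot (isLinearLeft_of_unitary hB'),
          smul_right hB', ← hB'.herm, he2, mul_one] at h0
        linear_combination h0
      rw [show v' = y0 + (f v' c / f c c) • c by simp [y0], ins_add_left, ins_smul, Bf_add_left, add_right hB,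
        smul_right hB, add_right hB, smul_right hB, h1, h2, Bf_ins_ins hf, Bf_ins_ins hf,
        swap_eq_zero hf hy0c]
      ring
    obtain ⟨r, hr⟩ := hmem
    have := W.sub_mem (hblock r) hΔW
    rwa [hr, add_sub_cancel_left] at this
  have hperp : ∀ y' : W1, f y' v = 0 → ∀ b, ins j y' b ∈ W := by
    intro y' hy' b
    set y0 := y' - f y' y • v
    have hy0 : f y0 v = 0 := by rw [form_sub_left hl, hf.smul_left, hy', hvv, mul_zero, sub_zero]
    rw [show y' = y0 + f y' y • v by simp [y0], ins_add_left, ins_smul, ← map_smul]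
    refine W.add_mem ?_ (hblock _)
    by_cases hc0 : f y0 y0 = 0
    swap
    · exact hanis y0 hy0 hc0 b
    obtain ⟨c, hcv, -, hc⟩ := exists_aniso_perp hf hm hvv hyy hvy
    obtain ⟨μ, hμ⟩ : ∃ μ : F, f (y0 + μ • c) (y0 + μ • c) ≠ 0 := by
      obtain ⟨p1, p2, hp1, hp2, hp11, hp21, hp12⟩ := TensorFormMax.UnitSide.exists_norm_one hf
      by_contra hcon
      push Not at hcon
      have hE : ∀ μ : F, μ * σ μ = 1 → μ * μ * f c y0 + μ * f c c + σ (f c y0) = 0 := fun μ hμ => by
        have h1 := hcon μ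
        rw [expand_add_smul hf, hc0, map_mul] at h1
        linear_combination μ * h1 - (σ (f c y0) + μ * f c c) * hμ
      have k1 := hE 1 (by rw [map_one, one_mul])
      have k2 := hE p1 hp1
      have k3 := hE p2 hp2
      have e1 : (1 - p1) * ((1 + p1) * f c y0 + f c c) = 0 := by linear_combination k1 - k2
      have e2 : (1 - p2) * ((1 + p2) * f c y0 + f c c) = 0 := by linear_combination k1 - k3
      have e1' := (mul_eq_zero.1 e1).resolve_left (sub_ne_zero.2 hp11.symm)
      have e2' := (mul_eq_zero.1 e2).resolve_left (sub_ne_zero.2 hp21.symm)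
      have e3 : (p1 - p2) * f c y0 = 0 := by linear_combination e1' - e2'
      rw [(mul_eq_zero.1 e3).resolve_left (sub_ne_zero.2 hp12), mul_zero, zero_add] at e1'
      exact hc e1'
    rw [show ins j y0 b = ins j (y0 + μ • c) b - ins j c (μ • b) by
      rw [ins_add_left, ins_smul, map_smul, add_sub_cancel_right]]
    exact W.sub_mem (hanis _ (by rw [hf.add_left, hf.smul_left, hy0, hcv, mul_zero, add_zero]) hμ b)
      (hanis c hcv hc _)
  have hWall : ∀ z : VV, Bf σ f z p = 0 → z ∈ W := by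
    intro z hz
    set d := ctr j (formVec f v) z
    have hd : Bf σ f d a = 0 := by rw [← Bf_ins hf]; exact hz
    let W' : Submodule F VV :=
      { carrier := {z | ∀ t : F, t • z ∈ W}
        add_mem' := fun hp hq t => by rw [smul_add]; exact W.add_mem (hp t) (hq t)
        zero_mem' := fun t => by rw [smul_zero]; exact W.zero_mem
        smul_mem' := fun c p hp t => by rw [smul_smul]; exact hp _ }
    have h0 : z - ins j y d ∈ W' := perp_le hf hyv (W := W') (fun y' hy' b t => by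
      rw [← map_smul]; exact hperp y' hy' _)
      (by rw [map_sub, ctr_hv_ins hf, hyv, one_smul, sub_self])
    have := W.add_mem (h0 1) (hpart y hyy hvy d hd)
    rwa [one_smul, sub_add_cancel] at this
  obtain ⟨a', ha'⟩ := (hB'.nondegenerate a ha).1
  set q := ins j y ((Bf σ f a' a)⁻¹ • a')
  have hy : y ≠ 0 := fun e0 => by rw [e0, herm_zero_left hf] at hyv; exact zero_ne_one hyv
  have hq := ctr_ins_iso S hall hy hyy ((Bf σ f a' a)⁻¹ • a')
  have hqp : Bf σ f q p = 1 := by rw [Bf_ins_ins hf, hyv, one_mul, Bf_smul_left, inv_mul_cancel₀ ha']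
  have hqq : Bf σ f q q = 0 := by rw [Bf_ins_ins hf, hyy, zero_mul]
  set w := (σ e)⁻¹ • (q - x)
  obtain ⟨-, g, hg, hgp, hgz⟩ := hWall w (by
    rw [Bf_smul_left, form_sub_left (isLinearLeft_of_unitary hB), hqp, hxp1, sub_self, mul_zero])
  set q' := (g : Big) *ᵥ q
  have hq'p : Bf σ f q' p = 1 := by conv_lhs => rw [← hgp]; rw [iso_apply (S.iso hg), hqp]
  have hpq' : Bf σ f p q' = 1 := by rw [hB.herm, hq'p, map_one]
  set t := σ (Bf σ f q (q' - x)) with ht
  have hd : q' - x - t • p = 0 := by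
    by_contra hne
    obtain ⟨u, hu⟩ := (hB.nondegenerate _ hne).1
    apply hu
    have hperp' : ∀ z, Bf σ f z p = 0 → Bf σ f z (q' - x - t • p) = 0 := fun z hz => by
      have h1 := iso_apply (S.iso hg) z q
      rw [hgz z hz, Bf_add_left, Bf_smul_left, hpq', smul_right hB, sub_right hB, map_inv₀, hf.involutive] at h1
      rw [sub_right hB, sub_right hB, smul_right hB, hz, mul_zero, sub_zero]
      field_simp at h1
      linear_combination h1
    rw [show u = (u - Bf σ f u p • q) + Bf σ f u p • q by rw [sub_add_cancel], Bf_add_left, Bf_smul_left,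
      hperp' _ (by rw [form_sub_left (isLinearLeft_of_unitary hB), Bf_smul_left, hqp, mul_one, sub_self]),
      sub_right hB, smul_right hB, hqp, ht, hf.involutive, mul_one, sub_self, mul_zero, add_zero]
  have hq' : q' = x + t • p := by linear_combination (norm := module) hd
  have hσt : t + σ t = 0 := by
    have h1 : Bf σ f q' q' = 0 := by rw [iso_apply (S.iso hg), hqq]
    rw [hq', Bf_add_left, add_right hB, add_right hB, smul_right hB, smul_right hB, Bf_smul_left, Bf_smul_left,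
      hx, hxp1, hB.herm p x, hxp1, hpp, map_one] at h1
    linear_combination h1
  obtain ⟨τ, hτ, hτz⟩ := ctr_ins_iso S hall hv hvv a (-t) (by rw [map_neg]; linear_combination -hσt)
  have h := ctr_conj S (ctr_conj S hq hg) hτ
  rw [hτz, ← hpdef, hq'p, mul_one] at h
  convert h using 1
  show x = q' + -t • p
  rw [hq']
  module

end Cfsg.Agent.Lib.UnitaryPowerMax.Full
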