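import Cfsg.Agent.Lib.UnitaryPowerMax.Rigid
import Cfsg.Agent.Lib.TensorPowerMax.Main
import Cfsg.Agent.Lib.Subspaces.UnitarySplit
import Cfsg.Agent.Lib.TensorMax.Main

/-!
The stabiliser of a tensor power of a hermitian form is maximal in the special unitary group.
-/

set_option autoImplicit false
set_option linter.unusedSectionVars false

namespace Cfsg.Agent.Lib.UnitaryPowerMax.Main

open Matrix
open Cfsg.Agent.Lib.Subspaces.Transvection Cfsg.Agent.Lib.Subspaces.FormVec
  Cfsg.Agent.Lib.Subspaces.UnitaryForm Cfsg.Agent.Lib.Subspaces.UnitaryGen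
  Cfsg.Agent.Lib.TensorPowerMax.Basic
  Cfsg.Agent.Lib.UnitaryPowerMax.Form Cfsg.Agent.Lib.UnitaryPowerMax.Rad

variable {ι : Type} [Fintype ι] [DecidableEq ι] {m : ℕ} {F : Type*} [Field F] {σ : F ≃+* F}
  {f : (Fin m → F) → (Fin m → F) → F}

local notation "A1" => Matrix (Fin m) (Fin m) F
local notation "W1" => Fin m → F
local notation "Big" => Matrix (ι → Fin m) (ι → Fin m) F
local notation "GG" => GL (ι → Fin m) F

/-- A permutation of the factors corrected by isometries to determinant one. -/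
theorem exists_det [Finite F] (hf : Cfsg.Geo.IsUnitaryForm σ f) (hm : 3 ≤ m) (hι : 3 ≤ Fintype.card ι) (π : Equiv.Perm ι) :
    ∃ a : ι → GL (Fin m) F, (∀ i, a i ∈ isoG f) ∧ ((ptGL a * pmGL π : GG) : Big).det = 1 := by
  classical
  obtain ⟨c, -, hc⟩ := TensorFormMax.UnitSide.exists_aniso_of_lt hf (![] : Fin 0 → W1) (by omega)
  induction π using Equiv.Perm.swap_induction_on with
  | one => exact ⟨1, fun i => one_mem _, by rw [map_one, map_one, mul_one, Units.val_one, det_one]⟩
  | swap_mul π p q _ ih =>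
    obtain ⟨a', ha', hda'⟩ := ih
    obtain ⟨a0, hd0⟩ := TensorPowerMax.Main.exists_det_swap (F := F) hm hι p q
    set d := (pm (F := F) (m := m) (Equiv.swap p q)).det
    have hd : d * d = 1 := by rw [← det_mul, pm_mul, Equiv.swap_mul_self, pm_one, det_one]
    have heven : Even m → d = 1 := by
      intro he
      obtain ⟨k, -, hk⟩ := Finset.exists_mem_notMem_of_card_lt_card
        (show ({p, q} : Finset ι).card < (Finset.univ : Finset ι).card by
          rw [Finset.card_univ]; exact lt_of_le_of_lt Finset.card_le_two (by omega))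
      simp only [Finset.mem_insert, Finset.mem_singleton, not_or] at hk
      have hfix : Equiv.swap p q k = k := Equiv.swap_apply_of_ne_of_ne hk.1 hk.2
      rw [show d = (sp k (pm (F := F) (m := m) (Equiv.swap p q))).det from (TensorPowerMax.Main.det_sp k _).symm,
        sp_pm k _ (TensorPowerMax.Split.fix_iff hfix), det_kronecker, det_one, one_pow, mul_one, Fintype.card_fin]
      obtain ⟨r, rfl⟩ := he
      rw [← two_mul, pow_mul, sq, ← det_mul, pm_mul]
      have hsq : ((Equiv.swap p q).subtypePerm (p := fun i => i ≠ k) fun i => (TensorPowerMax.Split.fix_iff hfix i).symm) *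
          ((Equiv.swap p q).subtypePerm (p := fun i => i ≠ k) fun i => (TensorPowerMax.Split.fix_iff hfix i).symm) = 1 :=
        Equiv.ext fun i => Subtype.ext (Equiv.swap_apply_self p q i.1)
      rw [hsq, pm_one, det_one, one_pow]
    obtain ⟨b, hb, hbd, -, -⟩ := exists_qref hf hc (d := d) (by
      rcases mul_self_eq_one_iff.1 hd with e | e <;> simp [e])
    refine ⟨(Function.update 1 p b : ι → GL (Fin m) F) * a' ∘ (Equiv.swap p q).symm, fun i => mul_mem ?_ (ha' _), ?_⟩
    · by_cases hi : i = p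
      · rw [hi, Function.update_self]; exact hb
      · rw [Function.update_of_ne hi]; exact (isoG f).one_mem
    rw [← tw_mul, Units.val_mul, det_mul, hda', mul_one, Units.val_mul, det_mul]
    show (oneGL p b : Big).det * d = 1
    rw [TensorPowerMax.Main.det_oneGL, hbd]
    rcases Nat.even_or_odd m with he | ho
    · rw [heven he, one_pow, one_mul]
    · obtain ⟨r, hr⟩ : Odd (m ^ (Fintype.card ι - 1)) := ho.pow
      rw [hr, pow_succ, pow_mul, sq, hd, one_pow, one_mul, hd]

theorem maximal {F : Type*} [Field F] [Fintype F] (n q : ℕ) (hF : Fintype.card F = q ^ 2) (hn : 13 ≤ n) (k t : ℕ)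
    (hk : 3 ≤ k) (ht : 2 ≤ t) (hex : ¬ (q = 2 ∧ k = 3)) (e : Fin n ≃ (Fin t → Fin k)) (P : GL (Fin n) F)
    (f₁ : (Fin k → F) → (Fin k → F) → F) (hf₁ : Cfsg.Geo.IsUnitaryFormPow q f₁)
    (hT : Cfsg.Geo.IsTensorPowerFormStructure (fun x : F => x ^ q) (Cfsg.hermForm n F q) f₁ e P) :
    Cfsg.Geo.IsMaximalIn (Cfsg.GU n F q ⊓ Cfsg.Geo.specialLinear (Fin n) F)
      (Cfsg.Geo.tensorWreathSubgroup k t e P ⊓ (Cfsg.GU n F q ⊓ Cfsg.Geo.specialLinear (Fin n) F)) := by
  classical
  set σ := powAut hF with hσdef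
  have hH := hermForm_isUnitary (n := n) hF
  set h := Cfsg.hermForm n F q with hhdef
  rw [← hσdef] at hH
  have u1 : Cfsg.Geo.IsUnitaryForm σ f₁ :=
    ⟨hH.ne_refl, hH.involutive, hf₁.add_left, hf₁.smul_left, fun v w => hf₁.herm v w, hf₁.nondegenerate⟩
  obtain ⟨c, hc, hcT⟩ := hT
  set φ : GL (Fin t → Fin k) F ≃* GL (Fin n) F :=
    (Cfsg.Geo.glReindex (F := F) e.symm).trans (MulAut.conj P) with hφ
  -- coordinates
  let T : ((Fin t → Fin k) → F) →ₗ[F] (Fin n → F) :=
    (Matrix.mulVecLin (P : Matrix (Fin n) (Fin n) F)).comp (LinearMap.funLeft F F e)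
  have hTapp : ∀ z, T z = (P : Matrix (Fin n) (Fin n) F) *ᵥ (z ∘ e) := fun z => rfl
  have hTinj : Function.Injective T := fun a b h => by
    have := gl_mulVec_injective P (show (P : Matrix (Fin n) (Fin n) F) *ᵥ (a ∘ e) = _ *ᵥ (b ∘ e) from h)
    funext p
    simpa using congrFun this (e.symm p)
  have hTsurj : Function.Surjective T := fun x =>
    ⟨(((P⁻¹ : GL (Fin n) F) : Matrix (Fin n) (Fin n) F) *ᵥ x) ∘ e.symm, by
      rw [hTapp]
      conv_rhs => rw [← gl_mulVec_inv P x]
      congr 1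
      funext i; simp⟩
  have hφT : ∀ g z, (φ g : Matrix (Fin n) (Fin n) F) *ᵥ T z =
      T ((g : Matrix (Fin t → Fin k) (Fin t → Fin k) F) *ᵥ z) := by
    intro g z
    rw [hTapp, hTapp]
    show ((P * Cfsg.Geo.glReindex e.symm g * P⁻¹ : GL (Fin n) F) : Matrix (Fin n) (Fin n) F) *ᵥ _ = _
    rw [gl_mul_mulVec, gl_mul_mulVec, gl_inv_mulVec]
    congr 1
    show (Matrix.reindexAlgEquiv F F e.symm) (g : Matrix (Fin t → Fin k) (Fin t → Fin k) F) *ᵥ _ = _
    rw [Matrix.coe_reindexAlgEquiv, Matrix.reindex_apply, Equiv.symm_symm, Matrix.submatrix_mulVec_equiv]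
    congr 1
    congr 1
    funext p; simp
  have hB : ∀ x y, h (T x) (T y) = c * Bf σ f₁ x y := fun x y => by
    rw [hTapp, hTapp, hcT]
    congr 1
    simp only [Bf, dotProduct, Matrix.mulVec, Finset.mul_sum, pt_apply, Function.comp_apply, mul_assoc]
    rfl
  obtain ⟨a1, -, ha1⟩ := TensorFormMax.UnitSide.exists_aniso_of_lt u1 (![] : Fin 0 → Fin k → F) (by omega)
  have hσc : σ c = c := by
    have h0 := self_fixed hH (T (pv fun _ => a1))
    rw [hB, Bf_pv u1, map_mul, map_prod] at h0
    simp only [self_fixed u1] at h0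
    exact mul_right_cancel₀ (Finset.prod_ne_zero_iff.2 fun _ _ => ha1) h0
  have hdet : ∀ g : GL (Fin t → Fin k) F, φ g ∈ Cfsg.Geo.specialLinear (Fin n) F ↔
      (g : Matrix (Fin t → Fin k) (Fin t → Fin k) F).det = 1 := fun g => by
    rw [mem_specialLinear_iff]
    exact Eq.congr_left (congrArg Units.val (Cfsg.Agent.Lib.TensorMax.Main.det_transport e.symm P g))
  have hGU : ∀ g : GL (Fin t → Fin k) F, φ g ∈ Cfsg.GU n F q ↔ g ∈ isoG (Bf σ f₁) := by
    intro g
    rw [mem_GU_iff']
    refine ⟨fun hg x y => mul_left_cancel₀ hc ?_, fun hg u v => ?_⟩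
    · rw [← hB, ← hB, ← hφT, ← hφT, hhdef, hg]
    · obtain ⟨u, rfl⟩ := hTsurj u
      obtain ⟨v, rfl⟩ := hTsurj v
      rw [hφT, hφT, ← hhdef, hB, hB, iso_apply hg]
  have hmem : ∀ x : GL (Fin t → Fin k) F,
      φ x ∈ Cfsg.Geo.tensorWreathSubgroup k t e P ↔ x ∈ stab (Fin t) k F := by
    intro x
    rw [← stab_eq]
    constructor
    · rintro ⟨y, ⟨z, hz, rfl⟩, hy⟩
      have : φ z = φ x := hy
      rwa [← φ.injective this]
    · exact fun hx => ⟨_, ⟨x, hx, rfl⟩, rfl⟩
  have htv : ∀ (x : (Fin t → Fin k) → F) (a : F), h (T x) (T x) = 0 → ∀ z,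
      ((φ.symm (tv (T x) (a • formVec h (T x)))) : Matrix (Fin t → Fin k) (Fin t → Fin k) F) *ᵥ z =
        z + (a * c * Bf σ f₁ z x) • x := by
    intro x a hx z
    refine hTinj ?_
    rw [← hφT, φ.apply_symm_apply, utv_mulVec hH hx, map_add, map_smul, hB, mul_assoc]
  obtain ⟨v, hv, hvv, -⟩ := TensorFormMax.UnitSide.exists_iso_orth u1
    (Subspaces.UnitarySplit.norm_surjective hF) (![] : Fin 0 → Fin k → F) (by omega)
  obtain ⟨e0, he0, he0'⟩ := exists_skew_scalar u1
  refine ⟨lt_of_le_of_ne inf_le_right fun heq => ?_, fun M hM hMle => ?_⟩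
  · -- a transvection at a pure vector
    obtain ⟨w, hww, -, hwv⟩ := exists_partner u1 hv hvv
    set x := pv fun _ : Fin t => v with hx
    have hxx : h (T x) (T x) = 0 := by
      rw [hB, hx, Bf_pv u1, Finset.prod_eq_zero (Finset.mem_univ (⟨0, by omega⟩ : Fin t)) hvv, mul_zero]
    have hg := utv_mem_SU hF hxx he0'
    rw [← heq, Subgroup.mem_inf] at hg
    obtain ⟨a, π, hk'⟩ := (hmem _).1 (show φ (φ.symm (tv (T x) (e0 • formVec h (T x)))) ∈ _ by
      rw [φ.apply_symm_apply]; exact hg.1)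
    have h1 := htv x e0 hxx (pv fun _ => w)
    rw [hk', tw_mulVec, Bf_pv u1, Finset.prod_eq_one (fun _ _ => hwv), mul_one,
      ← one_smul F (pv fun _ : Fin t => w)] at h1
    have hw0 : w ≠ 0 := fun e' => by rw [e', herm_zero_left u1] at hwv; exact zero_ne_one hwv
    have hns : v ∉ Submodule.span F {w} := fun e' => by
      obtain ⟨d, hd⟩ := Submodule.mem_span_singleton.1 e'
      have hd' : f₁ (d • w) v = 0 := by rw [hd]; exact hvv
      rw [hf₁.smul_left, hwv, mul_one] at hd'
      exact hv (by rw [← hd, hd', zero_smul])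
    have hns' : w ∉ Submodule.span F {v} := fun e' => by
      obtain ⟨d, hd⟩ := Submodule.mem_span_singleton.1 e'
      rw [← hd, hf₁.smul_left, hvv, mul_zero] at hwv
      exact zero_ne_one hwv
    exact not_pure_of_two one_ne_zero (mul_ne_zero he0 hc) h1.symm (fun _ => hw0) (fun _ => hv)
      (i := (⟨0, by omega⟩ : Fin t)) (j := ⟨1, by omega⟩) (by simp) hns hns' hns
  · set M' := M.comap φ.toMonoidHom with hM'
    have hsub : ∀ g ∈ M', φ g ∈ Cfsg.GU n F q ⊓ Cfsg.Geo.specialLinear (Fin n) F := fun g hg => hMle hg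
    have hin : ∀ g : GL (Fin t → Fin k) F, g ∈ stab (Fin t) k F → g ∈ isoG (Bf σ f₁) →
        (g : Matrix (Fin t → Fin k) (Fin t → Fin k) F).det = 1 → g ∈ M' :=
      fun g h1 h2 h3 => hM ⟨(hmem g).2 h1, (hGU g).2 h2, (hdet g).2 h3⟩
    have S : Rad.Setting σ f₁ M' :=
      { u := u1
        hN := Subspaces.UnitarySplit.norm_surjective hF
        iso := fun g hg => (hGU g).1 (hsub g hg).1
        one := fun j b hb => hin _ (oneGL_mem_stab j b) (oneGL_iso u1 j hb.1) (by
          rw [TensorPowerMax.Main.det_oneGL, (mem_specialLinear_iff _).1 hb.2, one_pow])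
        perm := by
          rcases Nat.lt_or_ge (Fintype.card (Fin t)) 3 with h2 | h3
          · exact Or.inl (by rw [Fintype.card_fin] at h2 ⊢; omega)
          · refine Or.inr fun π => ?_
            obtain ⟨a, ha, hd⟩ := exists_det u1 hk h3 π
            exact ⟨a, ha, hin _ ⟨a, π, rfl⟩ (mul_mem (ptGL_iso u1 ha) (pmGL_iso u1 π)) hd⟩
        hm := hk
        hι := by rw [Fintype.card_fin]; exact ht
        hex := by
          by_cases h4 : 4 ≤ k
          · exact Or.inl h4
          right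
          by_contra hct
          push Not at hct
          refine hex ⟨?_, by omega⟩
          have h2 := Cfsg.Agent.Lib.Unitary.card_fixed hF
          have hle : Nat.card {x : F // x ^ q = x} ≤ Nat.card (({0, 1} : Finset F)) := by
            refine Nat.card_le_card_of_injective (fun x => ⟨x.1, ?_⟩) fun a b e => by simpa [Subtype.ext_iff] using e
            rcases eq_or_ne x.1 0 with e | e
            · simp [e]
            · simp [hct x.1 x.2 e]
          rw [h2, Nat.card_eq_finsetCard, Finset.card_pair zero_ne_one] at hle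
          have := Cfsg.Agent.Lib.Unitary.one_lt_q hF
          omega }
    rcases Rigid.dichotomy _ (Fin t) rfl M' S with hle | hall
    · refine Or.inl (le_antisymm (fun x hx => ⟨?_, hMle hx⟩) hM)
      have := (hmem _).2 (hle (show φ.symm x ∈ M' by show φ (φ.symm x) ∈ M; rwa [φ.apply_symm_apply]))
      rwa [φ.apply_symm_apply] at this
    · refine Or.inr (le_antisymm hMle (su_le hF (by omega) fun v hv => ⟨hv, fun a ha => ?_⟩))
      obtain ⟨x, rfl⟩ := hTsurj v
      have hx : Bf σ f₁ x x = 0 := by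
        have h0 : h (T x) (T x) = 0 := hv
        rw [hB] at h0
        exact (mul_eq_zero.1 h0).resolve_left hc
      obtain ⟨g, hg, hgz⟩ := hall x hx (a * c) (by rw [map_mul, hσc]; linear_combination c * ha)
      have he : φ.symm (tv (T x) (a • formVec h (T x))) = g := gl_ext fun z => by rw [htv x a hv, hgz]
      have : φ g ∈ M := hg
      rwa [← he, φ.apply_symm_apply] at this

end Cfsg.Agent.Lib.UnitaryPowerMax.Main
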