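import Cfsg.Agent.Lib.UnitaryPowerMax.Form
import Cfsg.Agent.Lib.TensorPowerMax.Fixed

/-!
Overgroups of the one-factor special unitary groups, the radical of a block stabiliser and its centre.
-/

set_option autoImplicit false
set_option linter.unusedSectionVars false

namespace Cfsg.Agent.Lib.UnitaryPowerMax.Rad

open Matrix
open Cfsg.Agent.Lib.Subspaces.Transvection Cfsg.Agent.Lib.Subspaces.FormVec
  Cfsg.Agent.Lib.Subspaces.UnitaryForm Cfsg.Agent.Lib.TensorPowerMax.Basic
  Cfsg.Agent.Lib.UnitaryPowerMax.Form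

variable {ι : Type} [Fintype ι] [DecidableEq ι] {m : ℕ} {F : Type*} [Field F] {σ : F ≃+* F}
  {f : (Fin m → F) → (Fin m → F) → F}

local notation "A1" => Matrix (Fin m) (Fin m) F
local notation "W1" => Fin m → F
local notation "VV" => (ι → Fin m) → F
local notation "Big" => Matrix (ι → Fin m) (ι → Fin m) F
local notation "GG" => GL (ι → Fin m) F

/-- The group of isometries of determinant one of a factor. -/
abbrev SU1 (f : (Fin m → F) → (Fin m → F) → F) : Subgroup (GL (Fin m) F) :=
  isoG f ⊓ Cfsg.Geo.specialLinear (Fin m) F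

/-- The hypotheses on the group. -/
structure Setting (σ : F ≃+* F) (f : (Fin m → F) → (Fin m → F) → F) (M : Subgroup (GL (ι → Fin m) F)) :
    Prop where
  u : Cfsg.Geo.IsUnitaryForm σ f
  hN : ∀ r : F, σ r = r → ∃ c, c * σ c = r
  iso : M ≤ isoG (Bf σ f)
  one : ∀ (j : ι) (b : GL (Fin m) F), b ∈ SU1 f → oneGL j b ∈ M
  perm : Fintype.card ι = 2 ∨
    ∀ π : Equiv.Perm ι, ∃ a : ι → GL (Fin m) F, (∀ i, a i ∈ isoG f) ∧ ptGL a * pmGL π ∈ M
  hm : 3 ≤ m
  hι : 2 ≤ Fintype.card ι
  hex : 4 ≤ m ∨ ∃ r : F, σ r = r ∧ r ≠ 0 ∧ r ≠ 1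

/-- The elements of a central radical element. -/
def Cen (f : (Fin m → F) → (Fin m → F) → F) (j : ι) (w : Fin m → F)
    (S : Matrix ({i // i ≠ j} → Fin m) ({i // i ≠ j} → Fin m) F) (x : GL (ι → Fin m) F) : Prop :=
  ∀ z, (x : Matrix (ι → Fin m) (ι → Fin m) F) *ᵥ z = z + ins j w (S *ᵥ ctr j (formVec f w) z)

/-- Only scalar central radical elements. -/
def NoRad (f : (Fin m → F) → (Fin m → F) → F) (M : Subgroup (GL (ι → Fin m) F)) : Prop :=
  ∀ (j : ι) (w : Fin m → F), w ≠ 0 → f w w = 0 → ∀ S, (∃ x ∈ M, Cen f j w S x) → ∃ c : F, S = c • 1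

/-- The radical of the stabiliser of a block. -/
def radG (σ : F ≃+* F) (f : (Fin m → F) → (Fin m → F) → F) (j : ι) (w : Fin m → F) :
    Subgroup (GL (ι → Fin m) F) where
  carrier := {x | x ∈ isoG (Bf σ f) ∧ (∀ u, (x : Big) *ᵥ ins j w u = ins j w u) ∧
    ∀ z, ctr j (formVec f w) z = 0 → (x : Big) *ᵥ z - z ∈ block j w}
  one_mem' := ⟨one_mem _, fun u => by rw [Units.val_one, one_mulVec], fun z _ => by
    rw [Units.val_one, one_mulVec, sub_self]; exact Submodule.zero_mem _⟩
  mul_mem' := fun {x y} hx hy => ⟨mul_mem hx.1 hy.1, fun u => by rw [gl_mul_mulVec, hy.2.1, hx.2.1],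
    fun z hz => by
      obtain ⟨u, hu⟩ := hy.2.2 z hz
      rw [gl_mul_mulVec, show (y : Big) *ᵥ z = ins j w u + z by rw [hu, sub_add_cancel], mulVec_add, hx.2.1,
        add_sub_assoc]
      exact Submodule.add_mem _ (LinearMap.mem_range_self _ _) (hx.2.2 z hz)⟩
  inv_mem' := fun {x} hx => ⟨inv_mem hx.1, fun u => by
    conv_lhs => rw [← hx.2.1 u, gl_inv_mulVec], fun z hz => by
    obtain ⟨u, hu⟩ := hx.2.2 z hz
    have h1 : ((x⁻¹ : GG) : Big) *ᵥ ((x : Big) *ᵥ z) = ((x⁻¹ : GG) : Big) *ᵥ (ins j w u + z) := by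
      rw [hu, sub_add_cancel]
    rw [gl_inv_mulVec, mulVec_add,
      show ((x⁻¹ : GG) : Big) *ᵥ ins j w u = ins j w u by conv_lhs => rw [← hx.2.1 u, gl_inv_mulVec]] at h1
    refine ⟨-u, ?_⟩
    rw [map_neg]
    linear_combination (norm := module) h1⟩

/-! ### insertions -/

theorem ins_add_left (j : ι) (v v' : W1) (u : ({i // i ≠ j} → Fin m) → F) :
    ins j (v + v') u = ins j v u + ins j v' u := by
  ext x; simp [ins, mul_add]

theorem ins_sub_left (j : ι) (v v' : W1) (u : ({i // i ≠ j} → Fin m) → F) :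
    ins j (v - v') u = ins j v u - ins j v' u := by
  ext x; simp [ins, mul_sub]

theorem ins_zero_left (j : ι) (u : ({i // i ≠ j} → Fin m) → F) : ins (F := F) j (0 : W1) u = 0 := by
  ext x; simp [ins]

theorem sum_ins (j : ι) (z : VV) :
    ∑ a, ins j (Pi.single a 1) (ctr j (Pi.single a (1 : F)) z) = z := by
  ext x
  simp only [Finset.sum_apply, ins, ctr, LinearMap.coe_mk, AddHom.coe_mk, Pi.single_apply, mul_ite, mul_one,
    mul_zero, ite_mul, one_mul, zero_mul, Finset.sum_ite_eq', Finset.mem_univ, if_true, Finset.sum_ite_eq]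
  exact congrArg z ((TensorPowerMax.Basic.split j).symm_apply_apply x)

/-- Maps agreeing on insertions agree. -/
theorem ext_ins (j : ι) {X Y : Big} (h : ∀ v u, X *ᵥ ins j v u = Y *ᵥ ins j v u) : X = Y :=
  Matrix.mulVec_injective (funext fun z => by
    rw [← sum_ins j z, mulVec_sum, mulVec_sum]
    exact Finset.sum_congr rfl fun a _ => h _ _)

theorem gl_ext_ins (j : ι) {x y : GG} (h : ∀ v u, (x : Big) *ᵥ ins j v u = (y : Big) *ᵥ ins j v u) : x = y :=
  Units.ext (ext_ins j h)

theorem eq_of_pair {κ : Type} [Fintype κ] [DecidableEq κ] {g : (κ → F) → (κ → F) → F}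
    (hg : Cfsg.Geo.IsUnitaryForm σ g) {x y : κ → F} (h : ∀ u, g x u = g y u) : x = y := by
  by_contra hne
  obtain ⟨u, hu⟩ := (hg.nondegenerate _ (sub_ne_zero.2 hne)).2
  exact hu (by rw [form_sub_left (isLinearLeft_of_unitary hg), h, sub_self])

variable (hf : Cfsg.Geo.IsUnitaryForm σ f)
include hf

theorem ctr_hv_ins (j : ι) (v y : W1) (u : ({i // i ≠ j} → Fin m) → F) :
    ctr j (formVec f v) (ins j y u) = f y v • u := by
  rw [ctr_ins, formVec_dot (isLinearLeft_of_unitary hf)]

/-- The orthogonal of a block is spanned by insertions. -/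
theorem perp_le {j : ι} {w y : W1} (hyw : f y w = 1) {W : Submodule F VV}
    (h : ∀ v, f v w = 0 → ∀ u, ins j v u ∈ W) {z : VV} (hz : ctr j (formVec f w) z = 0) : z ∈ W := by
  set c := fun a => ctr j (Pi.single a (1 : F)) z
  have h0 : ∑ a, f (Pi.single a 1) w • c a = 0 := by
    rw [← hz]
    funext r
    simp [c, ctr, Finset.sum_apply, Pi.single_apply, formVec]
  have h1 : z = ∑ a, ins j (Pi.single a 1 - f (Pi.single a 1) w • y) (c a) := by
    simp only [ins_sub_left, ins_smul, Finset.sum_sub_distrib]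
    rw [sum_ins, show ∑ a, f (Pi.single a 1) w • ins j y (c a) = ins j y (∑ a, f (Pi.single a 1) w • c a) by
      simp only [map_sum, map_smul], h0, map_zero, sub_zero]
  rw [h1]
  refine sum_mem fun a _ => h _ ?_ _
  rw [form_sub_left (isLinearLeft_of_unitary hf), hf.smul_left, hyw, mul_one, sub_self]

theorem Bf_ins_ins (j : ι) (v v' : W1) (u u' : ({i // i ≠ j} → Fin m) → F) :
    Bf σ f (ins j v u) (ins j v' u') = f v v' * Bf σ f u u' := by
  rw [Bf_ins hf, ctr_hv_ins hf, Bf_smul_left]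

theorem Bf_ins_left (j : ι) (z : VV) (w : W1) (u : ({i // i ≠ j} → Fin m) → F) :
    Bf σ f (ins j w u) z = Bf σ f u (ctr j (formVec f w) z) := by
  rw [Bf_herm hf, Bf_ins hf, ← Bf_herm hf]

theorem mem_block_of_orth [Finite F] {j : ι} {w : W1} (hw : w ≠ 0) {d : VV}
    (h : ∀ v, f v w = 0 → ∀ u, Bf σ f d (ins j v u) = 0) : d ∈ block j w := by
  rw [mem_block_iff hw]
  intro φ hφ
  obtain ⟨v, rfl⟩ := formVec_surjective (isLinearLeft_of_unitary hf) (add_right hf) hf.nondegenerate φ
  rw [formVec_dot (isLinearLeft_of_unitary hf)] at hφ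
  exact ctr_eq_zero_of hf j (h v (swap_eq_zero hf hφ))

theorem block_perp {j : ι} {w : W1} (hww : f w w = 0) {z : VV} (hz : z ∈ block j w) :
    ctr j (formVec f w) z = 0 := by
  obtain ⟨u, rfl⟩ := hz
  rw [ctr_hv_ins hf, hww, zero_smul]

/-! ### central elements -/

theorem cen_apply_perp {j : ι} {w : W1} {S} {x : GG} (hx : Cen f j w S x) {z : VV}
    (hz : ctr j (formVec f w) z = 0) : (x : Big) *ᵥ z = z := by
  rw [hx, hz, mulVec_zero, map_zero, add_zero]

theorem cen_mul {j : ι} {w : W1} (hww : f w w = 0) {S S'} {x x' : GG} (hx : Cen f j w S x)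
    (hx' : Cen f j w S' x') : Cen f j w (S + S') (x * x') := fun z => by
  rw [gl_mul_mulVec, hx', mulVec_add, hx, cen_apply_perp hf hx (block_perp hf hww (LinearMap.mem_range_self _ _)),
    add_mulVec, map_add, add_assoc]

theorem cen_one (j : ι) (w : W1) : Cen f j w 0 (1 : GG) := fun z => by
  rw [Units.val_one, one_mulVec, zero_mulVec, map_zero, add_zero]

theorem cen_inv {j : ι} {w : W1} (hww : f w w = 0) {S} {x : GG} (hx : Cen f j w S x) :
    Cen f j w (-S) x⁻¹ := fun z => by
  refine gl_mulVec_injective x ?_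
  show (x : Big) *ᵥ _ = (x : Big) *ᵥ _
  rw [gl_mulVec_inv, mulVec_add, hx, cen_apply_perp hf hx (block_perp hf hww (LinearMap.mem_range_self _ _)),
    neg_mulVec, map_neg, add_neg_cancel_right]

theorem cen_inj {j : ι} {w y : W1} (hw : w ≠ 0) (hyw : f y w = 1) {S S'} {x : GG}
    (hx : Cen f j w S x) (hx' : Cen f j w S' x) : S = S' :=
  Matrix.mulVec_injective (funext fun u => ins_injective hw (by
    have h := (hx (ins j y u)).symm.trans (hx' (ins j y u))
    rwa [ctr_hv_ins hf, hyw, one_smul, add_right_inj] at h))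

/-- An isometry fixing the orthogonal of a block pointwise is central in the radical. -/
theorem cen_of_fix [Finite F] {j : ι} {w y : W1} (hw : w ≠ 0) (hww : f w w = 0) (hwy : f w y = 1)
    {x : GG} (hx : x ∈ isoG (Bf σ f)) (hfix : ∀ z, ctr j (formVec f w) z = 0 → (x : Big) *ᵥ z = z) :
    ∃ S, Cen f j w S x := by
  have hyw : f y w = 1 := by rw [hf.herm, hwy, map_one]
  let L : (({i // i ≠ j} → Fin m) → F) →ₗ[F] (({i // i ≠ j} → Fin m) → F) :=
    (ctr j (formVec f y)).comp ((Matrix.mulVecLin ((x : Big) - 1)).comp (ins j y))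
  refine ⟨LinearMap.toMatrix' L, fun z => ?_⟩
  rw [LinearMap.toMatrix'_mulVec]
  have key : ∀ u, (x : Big) *ᵥ ins j y u - ins j y u = ins j w (L u) := by
    intro u
    obtain ⟨r, hr⟩ := mem_block_of_orth hf hw (d := (x : Big) *ᵥ ins j y u - ins j y u) (j := j) fun v hv t => by
      have h0 := iso_apply hx (ins j y u) (ins j v t)
      rw [hfix (ins j v t) (by rw [ctr_hv_ins hf, hv, zero_smul])] at h0
      rw [form_sub_left (isLinearLeft_of_unitary (Bf_unitary hf)), h0, sub_self]
    have : L u = r := by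
      show ctr j (formVec f y) (((x : Big) - 1) *ᵥ ins j y u) = r
      rw [sub_mulVec, one_mulVec, ← hr, ctr_hv_ins hf, hwy, one_smul]
    rw [this, hr]
  set u := ctr j (formVec f w) z
  have hz : ctr j (formVec f w) (z - ins j y u) = 0 := by
    rw [map_sub, ctr_hv_ins hf, hyw, one_smul, sub_self]
  have h1 := hfix _ hz
  rw [mulVec_sub] at h1
  linear_combination (norm := module) h1 + key u

/-- Conjugating a central element. -/
theorem cen_conj {j : ι} {w w' : W1} {S} {x g : GG} (hx : Cen f j w S x) (hg : g ∈ isoG (Bf σ f))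
    {D : GL ({i // i ≠ j} → Fin m) F} (hD : D ∈ isoG (Bf σ f))
    (hgD : ∀ u, (g : Big) *ᵥ ins j w u = ins j w' (D.val *ᵥ u)) :
    Cen f j w' (D.val * S * (D⁻¹ : GL ({i // i ≠ j} → Fin m) F).val) (g * x * g⁻¹) := fun z => by
  have hc : ctr j (formVec f w) (((g⁻¹ : GG) : Big) *ᵥ z) =
      (D⁻¹ : GL ({i // i ≠ j} → Fin m) F).val *ᵥ ctr j (formVec f w') z := by
    refine eq_of_pair (Bf_unitary hf) fun u => ?_
    rw [← Bf_ins hf, ← iso_move hg, hgD, Bf_ins hf]
    exact iso_move hD _ _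
  rw [gl_mul_mulVec, gl_mul_mulVec, hx, mulVec_add, gl_mulVec_inv, hgD, hc, mulVec_mulVec, mulVec_mulVec,
    Matrix.mul_assoc]

theorem cen_smul_vec {j : ι} {w : W1} {μ : F} {S} {x : GG} (hx : Cen f j (μ • w) S x) :
    Cen f j w ((μ * σ μ) • S) x := fun z => by
  rw [hx, ins_smul, formVec_smul hf, show ctr j (σ μ • formVec f w) z = σ μ • ctr j (formVec f w) z by
    ext r; simp [ctr, Finset.mul_sum, mul_assoc], mulVec_smul, map_smul, smul_smul, smul_mulVec, map_smul]

/-! ### coefficients -/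

omit hf in
/-- The coefficient of a radical element at a vector orthogonal to the centre. -/
def coef (f : (Fin m → F) → (Fin m → F) → F) (j : ι) (w' : Fin m → F) (x : GL (ι → Fin m) F) :
    (Fin m → F) →ₗ[F] Matrix ({i // i ≠ j} → Fin m) ({i // i ≠ j} → Fin m) F where
  toFun y := LinearMap.toMatrix'
    ((ctr j (formVec f w')).comp ((Matrix.mulVecLin ((x : Big) - 1)).comp (ins j y)))
  map_add' y y' := by
    rw [← map_add]; congr 1
    refine LinearMap.ext fun u => ?_
    simp only [LinearMap.comp_apply, LinearMap.add_apply, ins_add_left, map_add]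
  map_smul' c y := by
    rw [RingHom.id_apply, ← map_smul]; congr 1
    refine LinearMap.ext fun u => ?_
    simp only [LinearMap.comp_apply, LinearMap.smul_apply, ins_smul, map_smul]

theorem coef_spec {j : ι} {w w' y : W1} (hp : f w w' = 1) (hy : f y w = 0) {x : GG}
    (hx : x ∈ radG σ f j w) (u : ({i // i ≠ j} → Fin m) → F) :
    (x : Big) *ᵥ ins j y u = ins j y u + ins j w (coef f j w' x y *ᵥ u) := by
  obtain ⟨t, ht⟩ := hx.2.2 (ins j y u) (by rw [ctr_hv_ins hf, hy, zero_smul])
  have h1 : coef f j w' x y *ᵥ u = t := by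
    simp only [coef, LinearMap.coe_mk, AddHom.coe_mk]
    rw [LinearMap.toMatrix'_mulVec]
    show ctr j (formVec f w') (((x : Big) - 1) *ᵥ ins j y u) = t
    rw [sub_mulVec, one_mulVec, ← ht, ctr_hv_ins hf, hp, one_smul]
  rw [h1, ht, add_sub_cancel]

theorem radG_of_ins {j : ι} {w y : W1} (hyw : f y w = 1) {x : GG} (hx : x ∈ isoG (Bf σ f))
    (hB : ∀ u, (x : Big) *ᵥ ins j w u = ins j w u)
    (h : ∀ v, f v w = 0 → ∀ u, (x : Big) *ᵥ ins j v u - ins j v u ∈ block j w) : x ∈ radG σ f j w := by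
  refine ⟨hx, hB, fun z hz => ?_⟩
  have := perp_le hf hyw (W := (block j w).comap (Matrix.mulVecLin ((x : Big) - 1)))
    (fun v hv u => show ((x : Big) - 1) *ᵥ ins j v u ∈ block j w by rw [sub_mulVec, one_mulVec]; exact h v hv u) hz
  rw [Submodule.mem_comap, Matrix.mulVecLin_apply, sub_mulVec, one_mulVec] at this
  exact this

omit hf in
theorem ctr_hv_sum (j : ι) (w : W1) (z : VV) :
    ctr j (formVec f w) z = ∑ a, f (Pi.single a 1) w • ctr j (Pi.single a (1 : F)) z := by
  funext r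
  simp [ctr, Finset.sum_apply, Pi.single_apply, formVec]

theorem eich_big {j : ι} {w y : W1} {s : F} {g : GL (Fin m) F}
    (hg : ∀ z, (g : A1) *ᵥ z = z + f z w • y + (s * f z w - f z y) • w) (z : VV) :
    (oneGL j g : GG).val *ᵥ z = z + ins j y (ctr j (formVec f w) z) +
      ins j w (s • ctr j (formVec f w) z - ctr j (formVec f y) z) := by
  have _ := hf
  rw [ctr_hv_sum, ctr_hv_sum]
  conv_lhs => rw [← sum_ins j z, mulVec_sum]
  conv_rhs => arg 1; arg 1; rw [← sum_ins j z]
  simp only [one_mulVec_ins, hg, ins_add_left, ins_sub_left, ins_smul, sub_smul, Finset.smul_sum, smul_smul,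
    map_sum, map_sub, map_smul, Finset.sum_add_distrib, Finset.sum_sub_distrib]

theorem eich_radG {j : ι} {w w' y : W1} {s : F} {g : GL (Fin m) F} (hp : f w' w = 1) (hgi : g ∈ isoG f)
    (hww : f w w = 0) (hyw : f y w = 0)
    (hg : ∀ z, (g : A1) *ᵥ z = z + f z w • y + (s * f z w - f z y) • w) : oneGL j g ∈ radG σ f j w := by
  refine radG_of_ins hf hp (oneGL_iso hf j hgi) (fun u => ?_) fun v hv u => ?_
  · rw [one_mulVec_ins, hg, hww, swap_eq_zero hf hyw, mul_zero, zero_smul, sub_zero, zero_smul, add_zero, add_zero]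
  · rw [one_mulVec_ins, hg, hv, mul_zero, zero_smul, add_zero, zero_sub, ins_add_left, ins_smul, add_sub_cancel_left]
    exact Submodule.smul_mem _ _ (LinearMap.mem_range_self _ _)

/-- The coefficients are scalars when the commutators with the one-factor radical are. -/
theorem rad_scalar [Finite F] {j : ι} {w w' : W1} (hw : w ≠ 0) (hww : f w w = 0) (hp : f w w' = 1)
    {M' : Subgroup GG} (hM : ∀ S, (∃ e ∈ M', Cen f j w S e) → ∃ c : F, S = c • 1) {x : GG}
    (hx : x ∈ radG σ f j w)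
    (hcom : ∀ g ∈ SU1 f, oneGL j g ∈ radG σ f j w → x * oneGL j g * x⁻¹ * (oneGL j g)⁻¹ ∈ M') {y : W1}
    (hy : f y w = 0) : ∃ c : F, coef f j w' x y = c • 1 := by
  have hp' : f w' w = 1 := by rw [hf.herm, hp, map_one]
  set R := fun u : ({i // i ≠ j} → Fin m) → F => (x : Big) *ᵥ ins j w' u - ins j w' u with hR
  have hRperp : ∀ u, ctr j (formVec f w) (R u) = 0 := fun u => ctr_eq_zero_of hf j fun t => by
    have h0 := iso_apply hx.1 (ins j w' u) (ins j w t)
    rw [hx.2.1] at h0
    rw [form_sub_left (isLinearLeft_of_unitary (Bf_unitary hf)), h0, sub_self]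
  -- the sum with the conjugate-linear part is scalar
  have key : ∀ y : W1, f y w = 0 → ∃ c : F, ∀ u,
      coef f j w' x y *ᵥ u + ctr j (formVec f y) (R u) = c • u := by
    intro y hy
    obtain ⟨s, hs⟩ := exists_trace hf (r := -f y y) (by rw [map_neg, self_fixed hf])
    obtain ⟨g, hg, hgz⟩ := exists_eich hf hww hy hs
    have hT := eich_radG hf hp' hg.1 hww hy hgz (j := j)
    set T := oneGL j g
    set C := x * T * x⁻¹ * T⁻¹ with hC
    have hCr : C ∈ radG σ f j w := mul_mem (mul_mem (mul_mem hx hT) (inv_mem hx)) (inv_mem hT)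
    have hCz : ∀ z, (C : Big) *ᵥ ((T : Big) *ᵥ ((x : Big) *ᵥ z)) = (x : Big) *ᵥ ((T : Big) *ᵥ z) := fun z => by
      rw [← gl_mul_mulVec, ← gl_mul_mulVec, ← gl_mul_mulVec]; congr 1; rw [hC]; group
    obtain ⟨S, hS⟩ := cen_of_fix hf hw hww hp hCr.1 fun z hz => by
      obtain ⟨b, hb⟩ := hx.2.2 z hz
      obtain ⟨b', hb'⟩ := hT.2.2 z hz
      have e1 : (T : Big) *ᵥ ((x : Big) *ᵥ z) = ins j w b + ins j w b' + z := by
        rw [show (x : Big) *ᵥ z = ins j w b + z by rw [hb, sub_add_cancel], mulVec_add, hT.2.1,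
          show (T : Big) *ᵥ z = ins j w b' + z by rw [hb', sub_add_cancel], add_assoc]
      have e2 : (x : Big) *ᵥ ((T : Big) *ᵥ z) = ins j w b + ins j w b' + z := by
        rw [show (T : Big) *ᵥ z = ins j w b' + z by rw [hb', sub_add_cancel], mulVec_add, hx.2.1,
          show (x : Big) *ᵥ z = ins j w b + z by rw [hb, sub_add_cancel]]
        abel
      have := hCz z
      rwa [e1, e2, mulVec_add, mulVec_add, hCr.2.1, hCr.2.1, add_right_inj] at this
    obtain ⟨c, hc⟩ := hM S ⟨C, hcom g hg hT, hS⟩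
    refine ⟨c, fun u => ins_injective hw ?_⟩
    have hv : (x : Big) *ᵥ ins j w' u = ins j w' u + R u := by simp only [hR]; abel
    have hxu : ctr j (formVec f w) ((x : Big) *ᵥ ins j w' u) = u := by
      rw [hv, map_add, hRperp, add_zero, ctr_hv_ins hf, hp', one_smul]
    have e1 := hCz (ins j w' u)
    rw [hS, eich_big hf hgz ((x : Big) *ᵥ ins j w' u), eich_big hf hgz (ins j w' u), hxu] at e1
    simp only [map_add, map_sub, map_smul, ctr_hv_ins hf, hp', hy, hww, hxu, one_smul, zero_smul, smul_zero,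
      sub_zero, add_zero, mulVec_add, mulVec_sub, mulVec_smul, hx.2.1, coef_spec hf hp hy hx, hc, smul_mulVec,
      one_mulVec, hv, hRperp] at e1
    simp only [map_add, map_smul]
    linear_combination (norm := module) -e1
  obtain ⟨l, hl⟩ : ∃ l, σ l ≠ l := by
    by_contra h
    push Not at h
    exact hf.ne_refl (RingEquiv.ext h)
  obtain ⟨a, ha⟩ := key y hy
  obtain ⟨b, hb⟩ := key (l • y) (by rw [hf.smul_left, hy, mul_zero])
  refine ⟨(b - σ l * a) / (l - σ l), Matrix.mulVec_injective (funext fun u => ?_)⟩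
  have h1 := ha u
  have h2 := hb u
  rw [map_smul, smul_mulVec, formVec_smul hf, show ctr j (σ l • formVec f y) (R u) = σ l • ctr j (formVec f y) (R u) by
    ext r; simp [ctr, Finset.mul_sum, mul_assoc]] at h2
  rw [smul_mulVec, one_mulVec]
  refine smul_right_injective _ (sub_ne_zero.2 hl.symm) ?_
  show (l - σ l) • _ = (l - σ l) • _
  rw [smul_smul, mul_div_cancel₀ _ (sub_ne_zero.2 hl.symm)]
  linear_combination (norm := module) h2 - σ l • h1

/-- A radical element with scalar coefficients is one-factor up to a central element. -/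
theorem rad_split [Finite F] (hm : 1 ≤ m) {j : ι} {w w' : W1} (hw : w ≠ 0) (hww : f w w = 0)
    (hp : f w w' = 1) {x : GG} (hx : x ∈ radG σ f j w)
    (hsc : ∀ y, f y w = 0 → ∃ c : F, coef f j w' x y = c • 1) :
    ∃ g ∈ SU1 f, ∃ S, Cen f j w S ((oneGL j g)⁻¹ * x) := by
  have hp' : f w' w = 1 := by rw [hf.herm, hp, map_one]
  have hl := isLinearLeft_of_unitary hf
  let o : {i // i ≠ j} → Fin m := fun _ => ⟨0, hm⟩
  let L : W1 →ₗ[F] F :=
    { toFun := fun z => coef f j w' x (z - f z w • w') o o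
      map_add' := fun a b => by
        rw [hf.add_left, show a + b - (f a w + f b w) • w' = (a - f a w • w') + (b - f b w • w') by module,
          map_add, Matrix.add_apply]
      map_smul' := fun c a => by
        rw [hf.smul_left, show c • a - (c * f a w) • w' = c • (a - f a w • w') by module, map_smul,
          Matrix.smul_apply, RingHom.id_apply] }
  obtain ⟨y1, hy1⟩ := formVec_surjective hl (add_right hf) hf.nondegenerate fun a => L (Pi.single a 1)
  have hfL : ∀ z, f z y1 = L z := fun z => by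
    rw [← formVec_dot hl, hy1]
    conv_rhs => rw [← Finset.univ_sum_single z, map_sum]
    refine Finset.sum_congr rfl fun a _ => ?_
    rw [show Pi.single a (z a) = z a • (Pi.single a 1 : W1) by simp [← Pi.single_smul], map_smul, smul_eq_mul,
      mul_comm]
  have hyw : f (-y1) w = 0 := by
    have h0 : coef f j w' x w = 0 := Matrix.mulVec_injective (funext fun u => ins_injective hw (by
      have := (hx.2.1 u).symm.trans (coef_spec hf hp hww hx u)
      rw [left_eq_add] at this
      rw [this, zero_mulVec, map_zero]))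
    rw [show -y1 = (-1 : F) • y1 by simp, hf.smul_left, hf.herm, hfL]
    show -1 * σ (coef f j w' x (w - f w w • w') o o) = 0
    rw [hww, zero_smul, sub_zero, h0, Matrix.zero_apply, map_zero, mul_zero]
  obtain ⟨s, hs⟩ := exists_trace hf (r := -f (-y1) (-y1)) (by rw [map_neg, self_fixed hf])
  obtain ⟨g, hg, hgz⟩ := exists_eich hf hww hyw hs
  refine ⟨g, hg, cen_of_fix hf hw hww hp (mul_mem (inv_mem (oneGL_iso hf j hg.1)) hx.1) fun z hz =>
    perp_le hf hp' (W := LinearMap.eqLocus (Matrix.mulVecLin (((oneGL j g)⁻¹ * x : GG) : Big)) LinearMap.id)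
      (fun v hv u => ?_) hz⟩
  show (((oneGL j g)⁻¹ * x : GG) : Big) *ᵥ ins j v u = ins j v u
  obtain ⟨c, hc⟩ := hsc v hv
  have hcv : f v y1 = c := by
    rw [hfL]
    show coef f j w' x (v - f v w • w') o o = c
    rw [hv, zero_smul, sub_zero, hc, Matrix.smul_apply, Matrix.one_apply_eq, smul_eq_mul, mul_one]
  have e : (x : Big) *ᵥ ins j v u = (oneGL j g : GG).val *ᵥ ins j v u := by
    rw [coef_spec hf hp hv hx, hc, smul_mulVec, one_mulVec, map_smul, one_mulVec_ins, hgz, hv,
      show f v (-y1) = -c by rw [show -y1 = (-1 : F) • y1 by simp, smul_right hf, hcv, map_neg, map_one, neg_one_mul]]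
    rw [zero_smul, add_zero, ins_add_left, ins_smul, mul_zero, zero_sub, neg_neg]
  rw [gl_mul_mulVec, e, gl_inv_mulVec]

omit hf in
/-- Without exceptional central elements the radical elements of the group act on one factor. -/
theorem rad_one_factor [Finite F] {M : Subgroup GG} (S : Setting σ f M) (hG : NoRad f M) {j : ι} {w : W1}
    (hw : w ≠ 0) (hww : f w w = 0) {x : GG} (hxM : x ∈ M) (hx : x ∈ radG σ f j w) :
    ∃ g ∈ SU1 f, x = oneGL j g := by
  have hf := S.u
  obtain ⟨w', -, hp, hp'⟩ := exists_partner hf hw hww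
  obtain ⟨g, hg, T, hT⟩ := rad_split hf (by have := S.hm; omega) hw hww hp hx fun y hy =>
    rad_scalar hf hw hww hp (M' := M) (hG j w hw hww) hx
      (fun g hg _ => mul_mem (mul_mem (mul_mem hxM (S.one j g hg)) (inv_mem hxM)) (inv_mem (S.one j g hg))) hy
  set e := (oneGL j g)⁻¹ * x with he
  obtain ⟨c, hc⟩ := hG j w hw hww T ⟨e, mul_mem (inv_mem (S.one j g hg)) hxM, hT⟩
  have hec : ∀ v u, (e : Big) *ᵥ ins j v u = ins j (v + (c * f v w) • w) u := fun v u => by
    rw [hT, ctr_hv_ins hf, hc, smul_mulVec, one_mulVec, smul_smul, ins_add_left, map_smul, ins_smul]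
  have hsk : c + σ c = 0 := by
    obtain ⟨u, hu⟩ : ∃ u : ({i // i ≠ j} → Fin m) → F, Bf σ f u u ≠ 0 := by
      obtain ⟨u, -, hu⟩ := exists_anisotropic (Bf_unitary hf) (![] : Fin 0 → ({i // i ≠ j} → Fin m) → F)
        (Fintype.card_pos_iff.2 (TensorPowerMax.Roots.rest_nonempty S.hm j))
      exact ⟨u, hu⟩
    have h0 := iso_apply (mul_mem (inv_mem (oneGL_iso hf j hg.1)) hx.1 : e ∈ isoG (Bf σ f)) (ins j w' u) (ins j w' u)
    rw [hec, Bf_ins_ins hf, Bf_ins_ins hf, hp'] at h0
    have h1 := mul_right_cancel₀ hu h0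
    rw [hf.add_left, add_right hf, add_right hf, hf.smul_left, hf.smul_left, smul_right hf, smul_right hf, hp,
      hww, hp'] at h1
    simp only [mul_one, map_mul, map_one, mul_zero, add_zero] at h1
    linear_combination h1
  obtain ⟨t, ht, htz⟩ := exists_tvec hf hww hsk
  refine ⟨g * t, mul_mem hg ht, ?_⟩
  rw [← TensorPowerMax.Fixed.oneGL_mul, ← mul_inv_cancel_left (oneGL j g) x, ← he]
  congr 1
  exact gl_ext_ins j fun v u => by rw [hec, one_mulVec_ins, htz]

end Cfsg.Agent.Lib.UnitaryPowerMax.Rad
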