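import Cfsg.Agent.Lib.UnitaryPowerMax.Near
import Cfsg.Agent.Lib.Induced.FrobeniusKernel

/-!
Without exceptional central elements the group stays in the stabiliser; the dichotomy.
-/

set_option autoImplicit false
set_option linter.unusedSectionVars false

namespace Cfsg.Agent.Lib.UnitaryPowerMax.Rigid

open Matrix
open scoped Pointwise
open Cfsg.Agent.Lib.Subspaces.Transvection Cfsg.Agent.Lib.Subspaces.FormVec
  Cfsg.Agent.Lib.Subspaces.UnitaryForm Cfsg.Agent.Lib.TensorPowerMax.Basic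
  Cfsg.Agent.Lib.UnitaryPowerMax.Form Cfsg.Agent.Lib.UnitaryPowerMax.Rad
  Cfsg.Agent.Lib.UnitaryPowerMax.BlockTo Cfsg.Agent.Lib.UnitaryPowerMax.Fixed
  Cfsg.Agent.Lib.UnitaryPowerMax.Near

variable {ι : Type} [Fintype ι] [DecidableEq ι] {m : ℕ} {F : Type*} [Field F] {σ : F ≃+* F}
  {f : (Fin m → F) → (Fin m → F) → F}

local notation "A1" => Matrix (Fin m) (Fin m) F
local notation "W1" => Fin m → F
local notation "VV" => (ι → Fin m) → F
local notation "Big" => Matrix (ι → Fin m) (ι → Fin m) F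
local notation "GG" => GL (ι → Fin m) F

/-- The elements moving everything into a subspace. -/
def mov (M : Subgroup (GL (ι → Fin m) F)) (U : Submodule F ((ι → Fin m) → F)) :
    Subgroup (GL (ι → Fin m) F) where
  carrier := {x | x ∈ M ∧ ∀ z, (x : Big) *ᵥ z - z ∈ U}
  one_mem' := ⟨M.one_mem, fun z => by simp⟩
  mul_mem' := fun {x y} hx hy => ⟨M.mul_mem hx.1 hy.1, fun z => by
    rw [gl_mul_mulVec, ← sub_add_sub_cancel _ ((y : Big) *ᵥ z) z]
    exact U.add_mem (hx.2 _) (hy.2 z)⟩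
  inv_mem' := fun {x} hx => ⟨M.inv_mem hx.1, fun z => by
    have := U.neg_mem (hx.2 (((x⁻¹ : GG) : Big) *ᵥ z))
    rwa [gl_mulVec_inv, neg_sub] at this⟩

theorem conj_rt_mem (hf : Cfsg.Geo.IsUnitaryForm σ f) {M : Subgroup GG} (S : Setting σ f M) {g : GG} (hg : g ∈ M)
    {i : ι} {v : W1} (hvv : f v v = 0) {γ : F} (hγ : γ + σ γ = 0) {U : Submodule F VV}
    (hU : (block i v).map (Matrix.mulVecLin (g : Big)) ≤ U) : g * rt f i v γ * g⁻¹ ∈ mov M U :=
  ⟨M.mul_mem (M.mul_mem hg (rt_mem hf S i hvv hγ)) (M.inv_mem hg), fun z => hU ⟨_,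
    rt_sub_mem hf hvv γ (((g⁻¹ : GG) : Big) *ᵥ z), by
      show (g : Big) *ᵥ _ = _
      rw [mulVec_sub, gl_mulVec_inv, gl_mul_mulVec, gl_mul_mulVec]⟩⟩

section

variable [Finite F] {M : Subgroup (GL (ι → Fin m) F)} (S : Setting σ f M) (hG : NoRad f M)
  (hIH : Lower σ f ι)
include S hG hIH

/-- The contradiction from a maximal configuration with a line, for a field with a fixed element other
than zero and one. -/
theorem false_of_line {r : F} (hr : σ r = r) (hr0 : r ≠ 0) (hr1 : r ≠ 1) {g : GG} (hg : g ∈ M)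
    (hgs : g ∉ stab ι m F) {i : ι} {v : W1} (hv : v ≠ 0) (hvv : f v v = 0) {j : ι} {w : W1} (hw : w ≠ 0)
    (hww : f w w = 0)
    (hU : (block j w ⊔ (block i v).map (Matrix.mulVecLin (g : Big))) ⊓ perp f j w ≤ block j w)
    (hnp : ∀ d : W1, (∀ u, ins j d u ∈ block j w ⊔ (block i v).map (Matrix.mulVecLin (g : Big))) →
      d ∈ Submodule.span F {w}) : False := by
  classical
  have hf := S.u
  have hm := S.hm
  set U := block j w ⊔ (block i v).map (Matrix.mulVecLin (g : Big))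
  obtain ⟨w', hw'w', hp, hp'⟩ := exists_partner hf hw hww
  obtain ⟨c, hcw, -, hc⟩ := exists_aniso_perp hf hm hww hw'w' hp
  have hcs : c ∉ Submodule.span F {w} := fun e => by
    obtain ⟨d, rfl⟩ := Submodule.mem_span_singleton.1 e
    exact hc (by rw [hf.smul_left, smul_right hf, hww, mul_zero, mul_zero])
  obtain ⟨φ0, hφ0, h01⟩ := exists_functional hcs
  have hc0 : c ≠ 0 := fun e => hcs (e ▸ Submodule.zero_mem _)
  set K := mov M U
  have hN : ∀ x ∈ K, x ∈ stab ι m F → ∃ γ, γ + σ γ = 0 ∧ x = rt f j w γ := by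
    intro x hx hxs
    have hxB : ∀ z ∈ block j w, (x : Big) *ᵥ z ∈ block j w := by
      obtain ⟨a, π, rfl⟩ := hxs
      have hmap := tw_map_block hf a π (i := j) hw
      have hsub : block (π j) ((a (π j) : A1) *ᵥ w) ≤ U := by
        rw [← hmap]
        rintro _ ⟨y, hy, rfl⟩
        have h1 := U.add_mem (hx.2 y) (Submodule.mem_sup_left hy)
        rwa [sub_add_cancel] at h1
      intro z hz
      have hzl := TensorPowerMax.Roots.tw_mulVec_block a π hw hz
      by_cases hπ : π j = j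
      · rw [hπ] at hzl hsub
        obtain ⟨d, hd⟩ := Submodule.mem_span_singleton.1 (hnp _ fun u => hsub (LinearMap.mem_range_self _ u))
        obtain ⟨u, hu⟩ := hzl
        rw [← hu, ← hd, ins_smul]
        exact Submodule.smul_mem _ _ (LinearMap.mem_range_self _ _)
      exfalso
      set s : ι → W1 := fun k => if k = π j then (a (π j) : A1) *ᵥ w else c
      have hs : ∀ k, s k ≠ 0 := fun k => by
        simp only [s]; split_ifs
        · exact gl_ne_zero _ hw
        · exact hc0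
      have hsj : s j = c := if_neg (Ne.symm hπ)
      have h1 : pv s ∈ perp f j w := LinearMap.mem_ker.2 (by
        rw [ctr_pv, formVec_dot (isLinearLeft_of_unitary hf), hsj, hcw, zero_smul])
      have h2 := TensorPowerMax.Rigid.mem_span_of_pv_block hw hs
        (hU ⟨hsub (pv_mem_block (by simp [s])), h1⟩)
      rw [hsj] at h2
      exact hcs h2
    obtain ⟨D, hD, hxD⟩ := one_of_stab hf hm hw (Q := Submodule.span F {w}) (U := U)
      (Submodule.mem_span_singleton_self w)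
      (fun z hz hzp φ hφ => (mem_block_iff hw).1 (hU ⟨hz, hzp⟩) φ (hφ w (Submodule.mem_span_singleton_self w)))
      hnp hcw hφ0 h01 (S.iso hx.1) hxs hx.2 hxB
    exact root_of_one hf hm hw hww (S.iso hx.1) hD hxD
  let N : Subgroup K := (stab ι m F).subgroupOf K
  obtain ⟨e, he, he'⟩ := exists_skew_scalar hf
  have hre : r * e + σ (r * e) = 0 := by rw [map_mul, hr]; linear_combination r * he'
  have hTI : ∀ x : K, x ∉ N → ∀ n ∈ N, x * n * x⁻¹ ∈ N → n = 1 := by
    intro x hx n hn hn'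
    by_contra hn1
    obtain ⟨γ, -, hγe⟩ := hN n.1 n.2 hn
    obtain ⟨δ, -, hδe⟩ := hN _ (x * n * x⁻¹).2 hn'
    have hγ0 : γ ≠ 0 := fun e0 => hn1 (Subtype.ext (by rw [hγe, e0, rt_zero hf]; rfl))
    refine hx (mem_of_block S hG hIH x.2.1 (i := j) (j := j) hw hww hw hww fun z hz => ?_)
    obtain ⟨u, rfl⟩ := hz
    have h1 : (x : GG) * rt f j w γ = rt f j w δ * (x : GG) := by
      rw [← hγe, ← hδe]; simp only [Subgroup.coe_mul, Subgroup.coe_inv]; group
    have h2 := congrArg (fun Z : GG => (Z : Big) *ᵥ ins j w' u) h1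
    simp only [gl_mul_mulVec, rt_ins hf hww, hp', mul_one, mulVec_add, mulVec_smul, rt_apply hf hww δ,
      add_right_inj] at h2
    show ((x : GG) : Big) *ᵥ ins j w u ∈ block j w
    rw [show ((x : GG) : Big) *ᵥ ins j w u = γ⁻¹ • (γ • (((x : GG) : Big) *ᵥ ins j w u)) by
      rw [inv_smul_smul₀ hγ0], h2]
    exact Submodule.smul_mem _ _ (Submodule.smul_mem _ _ (LinearMap.mem_range_self _ _))
  have hne : N ≠ ⊤ := by
    intro htop
    refine hgs (mem_of_conj S hG hIH hg (i := i) hv hvv fun γ hγ => ?_)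
    exact (show (⟨_, conj_rt_mem hf S hg hvv hγ (le_sup_right : _ ≤ U)⟩ : K) ∈ N from htop ▸ Subgroup.mem_top _)
  have hrtK : ∀ γ, γ + σ γ = 0 → rt f j w γ ∈ K := fun γ hγ =>
    ⟨rt_mem hf S j hww hγ, fun z => Submodule.mem_sup_left (rt_sub_mem hf hww γ z)⟩
  set ne : K := ⟨rt f j w e, hrtK e he'⟩ with hne'
  have hneN : ne ∈ N := Subgroup.mem_subgroupOf.2 (oneGL_mem_stab _ _)
  have hne1 : ne ≠ 1 := fun e0 => by
    have h1 := congrArg (fun Z : K => (((Z : GG)) : Big) *ᵥ ins j w' (fun _ => 1)) e0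
    simp only [hne', Subgroup.coe_one, Units.val_one, one_mulVec, rt_ins hf hww, hp', mul_one,
      add_eq_left, smul_eq_zero] at h1
    exact const_ne_zero hm j (ins_injective hw ((h1.resolve_left he).trans (map_zero _).symm))
  obtain ⟨C, hCn, hC, -⟩ := Cfsg.Agent.Lib.Induced.FrobeniusKernel.exists_normal_complement hTI
  haveI := hCn
  obtain ⟨p, hp0⟩ := CharP.exists F
  haveI hpp : Fact p.Prime := ⟨(CharP.char_is_prime_or_zero F p).resolve_right (CharP.char_ne_zero_of_finite F p)⟩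
  have hNp : IsPGroup p N := fun x => by
    obtain ⟨γ, -, hγ⟩ := hN _ x.1.2 x.2
    exact ⟨1, Subtype.ext (Subtype.ext (by
      rw [pow_one, Subgroup.coe_pow, Subgroup.coe_pow, hγ, rt_pow hf hww, CharP.cast_eq_zero, zero_mul, rt_zero hf]
      rfl))⟩
  have hfix : MulAction.fixedPoints N (K ⧸ N) = {((1 : K) : K ⧸ N)} := by
    refine Set.eq_singleton_iff_unique_mem.2 ⟨fun x => ?_, fun q hq => ?_⟩
    · show (((x : K) * 1 : K) : K ⧸ N) = _
      rw [QuotientGroup.eq, mul_one, mul_one]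
      exact N.inv_mem x.2
    · induction q using QuotientGroup.induction_on with
      | _ d =>
        refine QuotientGroup.eq.2 ?_
        rw [mul_one]
        refine N.inv_mem ?_
        by_contra hd
        have h1 : ((⟨ne, hneN⟩ : N) : K) * d = (ne * d : K) := rfl
        have h2 : ((ne * d : K) : K ⧸ N) = (d : K ⧸ N) := hq ⟨ne, hneN⟩
        rw [QuotientGroup.eq] at h2
        refine hne1 (hTI d⁻¹ (fun h => hd (by simpa using N.inv_mem h)) ne hneN ?_)
        rw [inv_inv]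
        have := N.inv_mem h2
        simpa [mul_assoc] using this
  have hidx := hNp.card_modEq_card_fixedPoints (K ⧸ N)
  rw [hfix, Nat.card_coe_set_eq, Set.ncard_singleton, ← Subgroup.index_eq_card] at hidx
  have hCcard : ¬ p ∣ Nat.card C := by
    rw [← hC.index_eq_card]
    intro hd
    rw [Nat.ModEq, Nat.mod_eq_zero_of_dvd hd, Nat.one_mod_eq_one.2 hpp.out.ne_one] at hidx
    exact zero_ne_one hidx
  have hC1 : Nat.card C ≠ 1 := fun h1 => hne (by
    rw [← Subgroup.index_eq_one, hC.index_eq_card, h1])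
  obtain ⟨l, hl, hlC⟩ := Nat.exists_prime_and_dvd hC1
  haveI : Fact l.Prime := ⟨hl⟩
  letI : MulDistribMulAction N C := MulDistribMulAction.compHom C ((MulAut.conjNormal (H := C)).comp N.subtype)
  obtain ⟨P, hP⟩ := hNp.nonempty_fixed_point_of_prime_not_dvd_card (Sylow l C) fun hd =>
    hCcard (hd.trans (((default : Sylow l C).card_dvd_index).trans (Subgroup.index_dvd_card _)))
  have hPne : Nontrivial P.1 := by
    rw [← Finite.one_lt_card_iff_nontrivial]
    have := P.dvd_card_of_dvd_card hlC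
    exact lt_of_lt_of_le hl.one_lt (Nat.le_of_dvd Nat.card_pos this)
  haveI := hPne
  haveI := P.isPGroup'.center_nontrivial
  obtain ⟨y, hy⟩ := exists_ne (1 : Subgroup.center P.1)
  set Y : GG := ((((y : P.1) : C) : K) : GG)
  have hcomm : ∀ n ∈ N, Commute Y ((n : GG) * Y * (n : GG)⁻¹) := by
    intro n hn
    have hmem : ((⟨n, hn⟩ : N) • ((y : P.1) : C)) ∈ P.1 := by
      have h1 := Subgroup.smul_mem_pointwise_smul ((y : P.1) : C) (⟨n, hn⟩ : N) P.1 (y : P.1).2
      rwa [show (⟨n, hn⟩ : N) • P.1 = P.1 from congrArg Sylow.toSubgroup (hP ⟨n, hn⟩)] at h1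
    have h2 := Subgroup.mem_center_iff.1 y.2 ⟨_, hmem⟩
    have h3 := congrArg (fun z : P.1 => (((z : C) : K) : GG)) h2
    exact h3.symm
  set T : Big := oneM j (vecMulVec w (formVec f w))
  have hrtT : ∀ γ, (rt f j w γ : Big) = 1 + γ • T := fun γ => by
    rw [rt, coe_oneGL, coe_tv (orth hf hww γ), oneM_add, oneM_one, vecMulVec_smul, oneM_smul]
  have hrti : ∀ γ, ((rt f j w γ)⁻¹ : GG).val = 1 - γ • T := fun γ => by
    rw [show (rt f j w γ)⁻¹ = rt f j w (-γ) from inv_eq_of_mul_eq_one_right (by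
      rw [rt_mul hf hww, add_neg_cancel, rt_zero hf]), hrtT, neg_smul, sub_eq_add_neg]
  set Yv : Big := (Y : Big)
  set Yi : Big := ((Y⁻¹ : GG) : Big)
  have hYi : Yv * Yi = 1 := by rw [← Units.val_mul, mul_inv_cancel, Units.val_one]
  have hiY : Yi * Yv = 1 := by rw [← Units.val_mul, inv_mul_cancel, Units.val_one]
  have hquad : ∀ γ, γ + σ γ = 0 → γ • ((2 : F) • (Yv * T * Yv) - Yv * Yv * T - T * (Yv * Yv)) +
      (γ * γ) • (T * Yv * T * Yv - Yv * T * Yv * T) = 0 := by
    intro γ hγ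
    have h1 : (Y : GG) * (rt f j w γ * Y * (rt f j w γ)⁻¹) = rt f j w γ * Y * (rt f j w γ)⁻¹ * Y :=
      hcomm ⟨rt f j w γ, hrtK γ hγ⟩ (Subgroup.mem_subgroupOf.2 (oneGL_mem_stab _ _))
    have h2 := congrArg Units.val h1
    simp only [Units.val_mul, hrtT, hrti] at h2
    rw [← sub_eq_zero] at h2
    rw [← h2]
    simp only [mul_add, add_mul, mul_sub, sub_mul, one_mul, mul_one, Matrix.smul_mul, Matrix.mul_smul, smul_sub,
      smul_add, smul_smul, Matrix.mul_assoc]
    module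
  have hA : (2 : F) • (Yv * T * Yv) - Yv * Yv * T - T * (Yv * Yv) = 0 := by
    have q1 := hquad e he'
    have q2 := hquad (r * e) hre
    set A := (2 : F) • (Yv * T * Yv) - Yv * Yv * T - T * (Yv * Yv)
    set B := T * Yv * T * Yv - Yv * T * Yv * T
    have h3 : ((r * r - r) * e) • A = 0 := by
      linear_combination (norm := module) (r * r) • q1 - q2
    refine (smul_eq_zero.1 h3).resolve_left (mul_ne_zero (fun e0 => hr1 ?_) he)
    exact mul_left_cancel₀ hr0 (by linear_combination e0)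
  set Δ := Yv * T * Yi - T
  have hΔ : Yv * Δ * Yi = Δ := by
    have h4 := congrArg (fun Z => Z * (Yi * Yi)) hA
    simp only [sub_mul, Matrix.smul_mul, zero_mul, Matrix.mul_assoc] at h4
    rw [← Matrix.mul_assoc Yv Yi, hYi, one_mul, hYi, mul_one] at h4
    simp only [Δ, mul_sub, sub_mul, Matrix.mul_assoc]
    linear_combination (norm := module) -h4
  have hpowT : ∀ n : ℕ, ((Y ^ n : GG) : Big) * T = (T + (n : F) • Δ) * ((Y ^ n : GG) : Big) := by
    intro n
    induction n with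
    | zero => simp
    | succ n ih =>
      have hT' : Yv * T = (T + Δ) * Yv := by
        simp only [Δ, add_sub_cancel, Matrix.mul_assoc, hiY, mul_one]
      have hΔ' : Yv * Δ = Δ * Yv := by
        conv_rhs => rw [← hΔ]
        simp only [Matrix.mul_assoc, hiY, mul_one]
      rw [pow_succ', Units.val_mul, Matrix.mul_assoc, ih, ← Matrix.mul_assoc, mul_add, Matrix.mul_smul, hT', hΔ']
      simp only [add_mul, Matrix.smul_mul, Matrix.mul_assoc, Nat.cast_succ, add_smul, one_smul]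
      abel
  have hY1 : Y ≠ 1 := fun e0 => hy (Subtype.ext (Subtype.ext (Subtype.ext (Subtype.ext e0))))
  have hΔ0 : Δ = 0 := by
    have h5 := hpowT (orderOf Y)
    rw [pow_orderOf_eq_one, Units.val_one, one_mul, mul_one, left_eq_add, smul_eq_zero] at h5
    refine h5.resolve_left fun e0 => hCcard ?_
    have h6 : orderOf Y ∣ Nat.card C := by
      show orderOf ((((y : P.1) : C) : K) : GG) ∣ _
      rw [Subgroup.orderOf_coe, Subgroup.orderOf_coe]
      exact orderOf_dvd_natCard _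
    exact ((CharP.cast_eq_zero_iff F p _).1 e0).trans h6
  have hcy : Y * rt f j w e * Y⁻¹ = rt f j w e := by
    refine Units.ext ?_
    rw [Units.val_mul, Units.val_mul, hrtT]
    show Yv * (1 + e • T) * Yi = _
    rw [mul_add, add_mul, mul_one, hYi, Matrix.mul_smul, Matrix.smul_mul, show Yv * T * Yi = T by
      rwa [sub_eq_zero] at hΔ0]
  have hyN : (((y : P.1) : C) : K) ∈ N := by
    by_contra hyn
    refine hne1 (hTI _ hyn ne hneN ?_)
    rw [show (((y : P.1) : C) : K) * ne * (((y : P.1) : C) : K)⁻¹ = ne from Subtype.ext hcy]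
    exact hneN
  have hbot : (((y : P.1) : C) : K) = 1 :=
    Subgroup.disjoint_def.1 hC.disjoint ((y : P.1) : C).2 hyN
  exact hY1 (show ((((y : P.1) : C) : K) : GG) = 1 by rw [hbot]; rfl)

/-- The group stays in the stabiliser, for a field with a fixed element other than zero and one. -/
theorem le_stab_of_three {r : F} (hr : σ r = r) (hr0 : r ≠ 0) (hr1 : r ≠ 1) : M ≤ stab ι m F := by
  classical
  by_contra hnot
  obtain ⟨g₀, hg₀, hg₀'⟩ := SetLike.not_le_iff_exists.1 hnot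
  have hf := S.u
  have hl := isLinearLeft_of_unitary hf
  have hm := S.hm
  obtain ⟨i₀⟩ : Nonempty ι := Fintype.card_pos_iff.1 (by have := S.hι; omega)
  obtain ⟨v₀, hv₀, hvv₀, -⟩ := TensorFormMax.UnitSide.exists_iso_orth hf S.hN (![] : Fin 0 → W1) (by omega)
  let Conf : ℕ → Prop := fun e => ∃ g ∈ M, g ∉ stab ι m F ∧ ∃ (i j : ι) (v w : W1), v ≠ 0 ∧ f v v = 0 ∧
    w ≠ 0 ∧ f w w = 0 ∧
    e ≤ Module.finrank F ((block i v).map (Matrix.mulVecLin (g : Big)) ⊓ block j w : Submodule F VV)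
  have h0 : Conf 0 := ⟨g₀, hg₀, hg₀', i₀, i₀, v₀, v₀, hv₀, hvv₀, hv₀, hvv₀, Nat.zero_le _⟩
  set e := Nat.findGreatest Conf (m ^ (Fintype.card ι - 1))
  obtain ⟨g, hg, hgs, i, j, v, w, hv, hvv, hw, hww, he⟩ : Conf e := Nat.findGreatest_spec (Nat.zero_le _) h0
  set X := (block i v).map (Matrix.mulVecLin (g : Big))
  have hmax : ∀ (j' : ι) (w' : W1), w' ≠ 0 → f w' w' = 0 →
      Module.finrank F (X ⊓ block j' w' : Submodule F VV) ≤ e := by
    intro j' w' hw' hw'w'
    refine Nat.le_findGreatest ?_ ⟨g, hg, hgs, i, j', v, w', hv, hvv, hw', hw'w', le_rfl⟩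
    rw [← finrank_block (j := j') hw']
    exact Submodule.finrank_mono inf_le_right
  have hnear : ∀ (j' : ι) (w' : W1), w' ≠ 0 → f w' w' = 0 →
      e ≤ Module.finrank F (X ⊓ block j' w' : Submodule F VV) →
      (block j' w' ⊔ X) ⊓ perp f j' w' ≤ block j' w' := by
    intro j' w' hw' hw'w' hew
    obtain ⟨x, hxM, ⟨a, π, rfl⟩, hle⟩ := key S hG hIH hg hv hvv (Y := block i v)
      (fun z hz => LinearMap.mem_ker.2 (block_perp hf hvv hz)) (j := j') hw' hw'w'
    rw [tw_map_block hf a π hv] at hle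
    have hiso : f ((a (π i) : A1) *ᵥ v) ((a (π i) : A1) *ᵥ v) = 0 :=
      iso_of_map hf (S.iso hxM) hv hvv (gl_ne_zero _ hv) fun z hz => TensorPowerMax.Roots.tw_mulVec_block a π hv hz
    have hbp : block j' w' ≤ perp f j' w' := fun z hz => LinearMap.mem_ker.2 (block_perp hf hw'w' hz)
    have h1 : X ⊓ block j' w' ≤ X ⊓ perp f j' w' := inf_le_inf_left _ hbp
    have h2 : Module.finrank F (X ⊓ perp f j' w' : Submodule F VV) ≤
        Module.finrank F (X ⊓ block j' w' : Submodule F VV) :=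
      ((Submodule.finrank_mono (le_inf inf_le_left hle)).trans (hmax _ _ (gl_ne_zero _ hv) hiso)).trans hew
    have h4 := Submodule.eq_of_le_of_finrank_le h1 h2
    rintro z ⟨hz, hzp⟩
    obtain ⟨b, hb, y, hy, rfl⟩ := Submodule.mem_sup.1 hz
    have hy2 : y ∈ X ⊓ perp f j' w' := ⟨hy, by
      have := Submodule.sub_mem _ hzp (hbp hb)
      rwa [add_sub_cancel_left] at this⟩
    rw [← h4] at hy2
    exact add_mem hb hy2.2
  -- the line without a plane
  have hnp : ∀ (w' : W1), w' ≠ 0 → f w' w' = 0 → (block j w' ⊔ X) ⊓ perp f j w' ≤ block j w' →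
      (∀ y, f y w' ≠ 0 → ¬ block j y ≤ block j w' ⊔ X) →
      ∀ d : W1, (∀ u, ins j d u ∈ block j w' ⊔ X) → d ∈ Submodule.span F {w'} := by
    intro w' hw' hw'w' hU hpl d hd
    by_cases hdw : f d w' = 0
    · refine TensorPowerMax.Basic.mem_span_of_orth fun φ hφ => ?_
      have h1 := hU ⟨hd fun _ => 1, LinearMap.mem_ker.2 (by rw [ctr_hv_ins hf, hdw, zero_smul])⟩
      have h2 := (mem_block_iff hw').1 h1 φ hφ
      rw [ctr_ins, smul_eq_zero] at h2
      exact h2.resolve_right (const_ne_zero hm j)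
    · exact absurd (by rintro _ ⟨u, rfl⟩; exact hd u) (hpl d hdw)
  by_cases hpl : ∀ y, f y w ≠ 0 → ¬ block j y ≤ block j w ⊔ X
  · exact false_of_line S hG hIH hr hr0 hr1 hg hgs hv hvv hw hww (hnear j w hw hww he)
      (hnp w hw hww (hnear j w hw hww he) hpl)
  push Not at hpl
  obtain ⟨y, hyw, hy⟩ := hpl
  have hy0 : y ≠ 0 := fun e0 => hyw (by rw [e0, herm_zero_left hf])
  -- the plane
  set N := m ^ (Fintype.card ι - 1)
  have hXN : Module.finrank F X ≤ N := (Submodule.finrank_map_le _ _).trans_eq (finrank_block hv)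
  have hdisj : block j w ⊓ block j y = ⊥ := by
    rw [Submodule.eq_bot_iff]
    rintro z ⟨⟨p, hp⟩, ⟨q, hq⟩⟩
    have h1 := congrArg (ctr j (formVec f w)) (hq.trans hp.symm)
    rw [ctr_hv_ins hf, ctr_hv_ins hf, hww, zero_smul, smul_eq_zero] at h1
    rw [← hq, h1.resolve_left hyw, map_zero]
  have hdim : Module.finrank F (block j w ⊔ block j y : Submodule F VV) = N + N := by
    have := Submodule.finrank_sup_add_finrank_inf_eq (block j w) (block j y)
    rw [hdisj, finrank_bot, finrank_block hw, finrank_block hy0, add_zero] at this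
    exact this
  have hle : block j w ⊔ block j y ≤ block j w ⊔ X := sup_le le_sup_left hy
  have hsum := Submodule.finrank_sup_add_finrank_inf_eq (block j w) X
  rw [finrank_block hw] at hsum
  have hmono := Submodule.finrank_mono hle
  rw [inf_comm (block j w) X] at hsum
  have he0 : e = 0 := by omega
  have hUeq : block j w ⊔ block j y = block j w ⊔ X := Submodule.eq_of_le_of_finrank_le hle (by omega)
  set P := Submodule.span F {w} ⊔ Submodule.span F {y}
  have hP2 : Module.finrank F P ≤ 2 := by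
    refine (Submodule.finrank_add_le_finrank_add_finrank _ _).trans ?_
    rw [finrank_span_singleton hw, finrank_span_singleton hy0]
  obtain ⟨w3, hw3i, hw3P⟩ : ∃ w3 : W1, f w3 w3 = 0 ∧ w3 ∉ P := by
    by_contra hc
    push Not at hc
    have h1 : Submodule.span F {v : W1 | f v v = 0} ≤ P := Submodule.span_le.2 hc
    rw [span_isotropic hf (by rw [Fintype.card_fin]; omega)] at h1
    have := Submodule.finrank_mono h1
    rw [finrank_top, Module.finrank_fintype_fun_eq_card, Fintype.card_fin] at this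
    omega
  have hw3 : w3 ≠ 0 := fun e0 => hw3P (e0 ▸ Submodule.zero_mem _)
  have hU3 := hnear j w3 hw3 hw3i (by rw [he0]; exact Nat.zero_le _)
  by_cases hpl3 : ∀ y, f y w3 ≠ 0 → ¬ block j y ≤ block j w3 ⊔ X
  · exact false_of_line S hG hIH hr hr0 hr1 hg hgs hv hvv hw3 hw3i hU3 (hnp w3 hw3 hw3i hU3 hpl3)
  push Not at hpl3
  obtain ⟨y3, hy3w, hy3⟩ := hpl3
  have hy30 : y3 ≠ 0 := fun e0 => hy3w (by rw [e0, herm_zero_left hf])
  have hdisj3 : block j w3 ⊓ block j y3 = ⊥ := by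
    rw [Submodule.eq_bot_iff]
    rintro z ⟨⟨p, hp⟩, ⟨q, hq⟩⟩
    have h1 := congrArg (ctr j (formVec f w3)) (hq.trans hp.symm)
    rw [ctr_hv_ins hf, ctr_hv_ins hf, hw3i, zero_smul, smul_eq_zero] at h1
    rw [← hq, h1.resolve_left hy3w, map_zero]
  have hsum3 := Submodule.finrank_sup_add_finrank_inf_eq (block j w3) X
  have hd3 := Submodule.finrank_sup_add_finrank_inf_eq (block j w3) (block j y3)
  rw [hdisj3, finrank_bot, finrank_block hw3, finrank_block hy30, add_zero] at hd3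
  rw [finrank_block hw3] at hsum3
  have hUeq3 : block j w3 ⊔ block j y3 = block j w3 ⊔ X :=
    Submodule.eq_of_le_of_finrank_le (sup_le le_sup_left hy3) (by omega)
  set P3 := Submodule.span F {w3} ⊔ Submodule.span F {y3}
  have hne : P ⊓ P3 ≠ P3 := fun h =>
    hw3P ((h.ge (Submodule.mem_sup_left (Submodule.mem_span_singleton_self w3))).1)
  have hP32 : Module.finrank F P3 ≤ 2 := by
    refine (Submodule.finrank_add_le_finrank_add_finrank _ _).trans ?_
    rw [finrank_span_singleton hw3, finrank_span_singleton hy30]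
  have hlt := Submodule.finrank_lt_finrank_of_lt (lt_of_le_of_ne inf_le_right hne)
  obtain ⟨⟨u, huP⟩, hu⟩ := finrank_le_one_iff.1 (show Module.finrank F (P ⊓ P3 : Submodule F W1) ≤ 1 by omega)
  have hslice : ∀ z ∈ X, ∀ r, slice j z r ∈ Submodule.span F {u} := by
    intro z hz r
    have key : ∀ (a b : W1), z ∈ block j a ⊔ block j b →
        slice j z r ∈ Submodule.span F {a} ⊔ Submodule.span F {b} := by
      intro a b hab
      obtain ⟨_, ⟨p, rfl⟩, _, ⟨q, rfl⟩, rfl⟩ := Submodule.mem_sup.1 hab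
      rw [show slice j (ins j a p + ins j b q) r = slice j (ins j a p) r + slice j (ins j b q) r from rfl,
        slice_ins, slice_ins]
      exact Submodule.add_mem_sup (Submodule.smul_mem _ _ (Submodule.mem_span_singleton_self _))
        (Submodule.smul_mem _ _ (Submodule.mem_span_singleton_self _))
    have h1 : slice j z r ∈ P ⊓ P3 :=
      ⟨key w y (hUeq ▸ Submodule.mem_sup_right hz), key w3 y3 (hUeq3 ▸ Submodule.mem_sup_right hz)⟩
    obtain ⟨c, hc⟩ := hu ⟨_, h1⟩
    exact Submodule.mem_span_singleton.2 ⟨c, congrArg Subtype.val hc⟩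
  have hu0 : u ≠ 0 := by
    intro e0
    subst e0
    have hz : (g : Big) *ᵥ ins i v (fun _ => 1) ∈ X := ⟨_, LinearMap.mem_range_self _ _, rfl⟩
    have h1 : (g : Big) *ᵥ ins i v (fun _ => 1) = 0 := by
      funext x
      have h2 := hslice _ hz (TensorPowerMax.Basic.split j x).1
      rw [Submodule.span_singleton_eq_bot.2 rfl, Submodule.mem_bot] at h2
      have h3 := congrFun h2 (x j)
      rwa [slice, show ((TensorPowerMax.Basic.split j x).1, x j) = TensorPowerMax.Basic.split j x from rfl,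
        Equiv.symm_apply_apply] at h3
    exact const_ne_zero hm i (ins_injective hv
      ((gl_mulVec_injective g (h1.trans (mulVec_zero _).symm)).trans (map_zero _).symm))
  exact hgs (mem_of_block' S hG hIH hg hv hvv hu0 fun z hz => mem_block_of_slice hu0 (hslice _ ⟨z, hz, rfl⟩))

/-- The group stays in the stabiliser, for the smallest field in dimension at least four. -/
theorem le_stab_of_four (h3 : ¬ ∃ r : F, σ r = r ∧ r ≠ 0 ∧ r ≠ 1) (h4 : 4 ≤ m) : M ≤ stab ι m F := by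
  classical
  by_contra hnot
  obtain ⟨g₀, hg₀, hg₀'⟩ := SetLike.not_le_iff_exists.1 hnot
  have hf := S.u
  have hl := isLinearLeft_of_unitary hf
  have hm := S.hm
  obtain ⟨h2, -⟩ := Alg.two_facts hf h3
  obtain ⟨i₀⟩ : Nonempty ι := Fintype.card_pos_iff.1 (by have := S.hι; omega)
  let TI : W1 → W1 → Prop := fun a b =>
    a ≠ 0 ∧ b ∉ Submodule.span F {a} ∧ f a a = 0 ∧ f a b = 0 ∧ f b b = 0
  obtain ⟨a₀, b₀, hab₀⟩ : ∃ a b, TI a b := by
    obtain ⟨a, ha, haa, -⟩ := TensorFormMax.UnitSide.exists_iso_orth hf S.hN (![] : Fin 0 → W1) (by omega)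
    obtain ⟨b, s, hbb, hba, hbs, -, -, -⟩ := Alg.exists_second hf S.hN h4 ha haa
    exact ⟨a, b, ha, hbs, haa, swap_eq_zero hf hba, hbb⟩
  let DP : ι → W1 → W1 → Submodule F VV := fun j a b => block j a ⊔ block j b
  let Conf : ℕ → Prop := fun e => ∃ g ∈ M, g ∉ stab ι m F ∧ ∃ (i j : ι) (v1 v2 w1 w2 : W1), TI v1 v2 ∧
    TI w1 w2 ∧ e ≤ Module.finrank F ((DP i v1 v2).map (Matrix.mulVecLin (g : Big)) ⊓ DP j w1 w2 : Submodule F VV)
  have h0 : Conf 0 := ⟨g₀, hg₀, hg₀', i₀, i₀, a₀, b₀, a₀, b₀, hab₀, hab₀, Nat.zero_le _⟩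
  set e := Nat.findGreatest Conf (m ^ Fintype.card ι)
  obtain ⟨g, hg, hgs, i, j, v1, v2, w1, w2, hTv, hTw, he⟩ : Conf e := Nat.findGreatest_spec (Nat.zero_le _) h0
  obtain ⟨hv1, hv2s, hv11, hv12, hv22⟩ := hTv
  obtain ⟨hw1, hw2s, hw11, hw12, hw22⟩ := hTw
  have hv2 : v2 ≠ 0 := fun e0 => hv2s (e0 ▸ Submodule.zero_mem _)
  have hw2 : w2 ≠ 0 := fun e0 => hw2s (e0 ▸ Submodule.zero_mem _)
  set D0 := DP i v1 v2
  set D := DP j w1 w2
  set X := D0.map (Matrix.mulVecLin (g : Big))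
  set P := Submodule.span F {w1} ⊔ Submodule.span F {w2}
  have hw1P : w1 ∈ P := Submodule.mem_sup_left (Submodule.mem_span_singleton_self _)
  have hw2P : w2 ∈ P := Submodule.mem_sup_right (Submodule.mem_span_singleton_self _)
  have hP2 : Module.finrank F P ≤ 2 := by
    refine (Submodule.finrank_add_le_finrank_add_finrank _ _).trans ?_
    rw [finrank_span_singleton hw1, finrank_span_singleton hw2]
  have hPel : ∀ p ∈ P, ∃ c d : F, p = c • w1 + d • w2 := by
    intro p hp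
    obtain ⟨a, ha, b, hb, rfl⟩ := Submodule.mem_sup.1 hp
    obtain ⟨c, rfl⟩ := Submodule.mem_span_singleton.1 ha
    obtain ⟨d, rfl⟩ := Submodule.mem_span_singleton.1 hb
    exact ⟨c, d, rfl⟩
  have hPP : ∀ p ∈ P, ∀ q ∈ P, f p q = 0 := by
    intro p hp q hq
    obtain ⟨c, d, rfl⟩ := hPel p hp
    obtain ⟨c', d', rfl⟩ := hPel q hq
    simp only [hf.add_left, add_right hf, hf.smul_left, smul_right hf, hw11, hw12, hw22, swap_eq_zero hf hw12,
      mul_zero, add_zero]
  have hins : ∀ p ∈ P, ∀ u, ins j p u ∈ D := by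
    intro p hp u
    obtain ⟨c, d, rfl⟩ := hPel p hp
    rw [ins_add_left, ins_smul, ins_smul]
    exact Submodule.add_mem_sup (Submodule.smul_mem _ _ (LinearMap.mem_range_self _ _))
      (Submodule.smul_mem _ _ (LinearMap.mem_range_self _ _))
  have hDctr : ∀ z ∈ D, ∀ φ : W1, (∀ q ∈ P, φ ⬝ᵥ q = 0) → ctr j φ z = 0 := by
    intro z hz φ hφ
    obtain ⟨_, ⟨p, rfl⟩, _, ⟨q, rfl⟩, rfl⟩ := Submodule.mem_sup.1 hz
    rw [map_add, ctr_ins, ctr_ins, hφ _ hw1P, hφ _ hw2P, zero_smul, zero_smul, add_zero]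
  have hDperp : ∀ p ∈ P, D ≤ perp f j p := fun p hp z hz => LinearMap.mem_ker.2 (hDctr z hz _ fun q hq => by
    rw [formVec_dot hl, hPP q hq p hp])
  have hmemP : ∀ (d : W1), ins j d (fun _ => 1) ∈ D → d ∈ P := fun d hd => by
    by_contra hdP
    obtain ⟨φ, hφ, hφd⟩ := exists_functional hdP
    have h1 := hDctr _ hd φ hφ
    rw [ctr_ins, hφd, one_smul] at h1
    exact const_ne_zero hm j h1
  have hmax : ∀ (j' : ι) (a b : W1), TI a b →
      Module.finrank F (X ⊓ DP j' a b : Submodule F VV) ≤ e := by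
    intro j' a b hab
    refine Nat.le_findGreatest ?_ ⟨g, hg, hgs, i, j', v1, v2, a, b, ⟨hv1, hv2s, hv11, hv12, hv22⟩, hab, le_rfl⟩
    refine (Submodule.finrank_le _).trans_eq ?_
    rw [Module.finrank_fintype_fun_eq_card, Fintype.card_fun, Fintype.card_fin]
  set U := D ⊔ X
  have hD0perp : D0 ≤ perp f i v1 := fun z hz => LinearMap.mem_ker.2 (by
    obtain ⟨_, ⟨p, rfl⟩, _, ⟨q, rfl⟩, rfl⟩ := Submodule.mem_sup.1 hz
    rw [map_add, ctr_hv_ins hf, ctr_hv_ins hf, hv11, swap_eq_zero hf hv12, zero_smul, zero_smul, add_zero])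
  have hUP : ∀ p ∈ P, p ≠ 0 → ∀ z ∈ U, z ∈ perp f j p → z ∈ D := by
    intro p hp hp0 z hz hzp
    obtain ⟨x, hxM, ⟨a, π, rfl⟩, hle⟩ := key S hG hIH hg hv1 hv11 hD0perp (j := j) hp0 (hPP p hp p hp)
    rw [show D0.map (Matrix.mulVecLin ((ptGL a * pmGL π : GG) : Big)) = DP (π i) ((a (π i) : A1) *ᵥ v1)
      ((a (π i) : A1) *ᵥ v2) by
      rw [Submodule.map_sup, tw_map_block hf a π hv1, tw_map_block hf a π hv2]] at hle
    have hTI' : TI ((a (π i) : A1) *ᵥ v1) ((a (π i) : A1) *ᵥ v2) := by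
      refine ⟨gl_ne_zero _ hv1, fun e0 => hv2s ?_, ?_, ?_, ?_⟩
      · obtain ⟨c, hc⟩ := Submodule.mem_span_singleton.1 e0
        exact Submodule.mem_span_singleton.2 ⟨c, gl_mulVec_injective _
          (show (a (π i) : A1) *ᵥ (c • v1) = (a (π i) : A1) *ᵥ v2 by rw [mulVec_smul, hc])⟩
      all_goals
        obtain ⟨u, -, hu⟩ := exists_anisotropic (Bf_unitary (ι := {k // k ≠ π i}) hf)
          (![] : Fin 0 → ({k // k ≠ π i} → Fin m) → F)
          (Fintype.card_pos_iff.2 (TensorPowerMax.Roots.rest_nonempty hm _))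
      · obtain ⟨_, ⟨q, rfl⟩, hq⟩ := (tw_map_block hf a π (i := i) hv1).ge (LinearMap.mem_range_self
          (ins (π i) ((a (π i) : A1) *ᵥ v1)) u)
        have h1 := iso_apply (S.iso hxM) (ins i v1 q) (ins i v1 q)
        rw [Matrix.mulVecLin_apply] at hq
        rw [hq, Bf_ins_ins hf, Bf_ins_ins hf, hv11, zero_mul] at h1
        exact (mul_eq_zero.1 h1).resolve_right hu
      · obtain ⟨_, ⟨q, rfl⟩, hq⟩ := (tw_map_block hf a π (i := i) hv1).ge (LinearMap.mem_range_self
          (ins (π i) ((a (π i) : A1) *ᵥ v1)) u)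
        obtain ⟨_, ⟨q', rfl⟩, hq'⟩ := (tw_map_block hf a π (i := i) hv2).ge (LinearMap.mem_range_self
          (ins (π i) ((a (π i) : A1) *ᵥ v2)) u)
        have h1 := iso_apply (S.iso hxM) (ins i v1 q) (ins i v2 q')
        rw [Matrix.mulVecLin_apply] at hq hq'
        rw [hq, hq', Bf_ins_ins hf, Bf_ins_ins hf, hv12, zero_mul] at h1
        exact (mul_eq_zero.1 h1).resolve_right hu
      · obtain ⟨_, ⟨q, rfl⟩, hq⟩ := (tw_map_block hf a π (i := i) hv2).ge (LinearMap.mem_range_self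
          (ins (π i) ((a (π i) : A1) *ᵥ v2)) u)
        have h1 := iso_apply (S.iso hxM) (ins i v2 q) (ins i v2 q)
        rw [Matrix.mulVecLin_apply] at hq
        rw [hq, Bf_ins_ins hf, Bf_ins_ins hf, hv22, zero_mul] at h1
        exact (mul_eq_zero.1 h1).resolve_right hu
    have h1 : X ⊓ D ≤ X ⊓ perp f j p := inf_le_inf_left _ (hDperp p hp)
    have h4 := Submodule.eq_of_le_of_finrank_le h1
      (((Submodule.finrank_mono (le_inf inf_le_left hle)).trans (hmax _ _ _ hTI')).trans he)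
    obtain ⟨b, hb, y, hy, rfl⟩ := Submodule.mem_sup.1 hz
    have hy2 : y ∈ X ⊓ perp f j p := ⟨hy, by
      have := Submodule.sub_mem _ hzp (hDperp p hp hb)
      rwa [add_sub_cancel_left] at this⟩
    rw [← h4] at hy2
    exact add_mem hb hy2.2
  have hQ : ∀ d : W1, (∀ u, ins j d u ∈ U) → d ∈ P := by
    intro d hd
    obtain ⟨p, hp, hp0, hdp⟩ : ∃ p ∈ P, p ≠ 0 ∧ f d p = 0 := by
      by_cases h1 : f d w1 = 0
      · exact ⟨w1, hw1P, hw1, h1⟩
      refine ⟨σ (f d w2) • w1 - σ (f d w1) • w2, P.sub_mem (P.smul_mem _ hw1P) (P.smul_mem _ hw2P),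
        fun e0 => hw2s ?_, ?_⟩
      · refine Submodule.mem_span_singleton.2 ⟨(σ (f d w1))⁻¹ * σ (f d w2), ?_⟩
        rw [mul_smul, sub_eq_zero.1 e0, inv_smul_smul₀ (by simpa using h1)]
      · rw [sub_right hf, smul_right hf, smul_right hf, hf.involutive, hf.involutive]
        ring
    exact hmemP d (hUP p hp hp0 _ (hd _) (LinearMap.mem_ker.2 (by rw [ctr_hv_ins hf, hdp, zero_smul])))
  set K := mov M U
  -- stabilising elements of `K` fixing a block of the plane
  have hone : ∀ p ∈ P, p ≠ 0 → ∀ x ∈ K, x ∈ stab ι m F → (∀ z ∈ block j p, (x : Big) *ᵥ z ∈ block j p) →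
      ∃ E : A1, (∀ y, E *ᵥ y ∈ P) ∧ ∀ y u, (x : Big) *ᵥ ins j y u = ins j y u + ins j (E *ᵥ y) u := by
    intro p hp hp0 x hx hxs hxB
    obtain ⟨y0, hy0, hy0p⟩ := exists_common_zero_not_mem P ![formVec f p] (by rw [Fintype.card_fin]; omega)
    obtain ⟨φ0, hφ0, h01⟩ := exists_functional hy0
    exact one_of_stab hf hm hp0 hp (fun z hz hzp => hDctr z (hUP p hp hp0 z hz hzp)) hQ
      (by rw [← formVec_dot hl]; exact hy0p 0) hφ0 h01 (S.iso hx.1) hxs hx.2 hxB
  -- the two involutions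
  obtain ⟨ε, hε, hε'⟩ := exists_skew_scalar hf
  have hεε : ε + ε = 0 := by rw [← two_mul, h2, zero_mul]
  set t := rt f j w1 ε
  obtain ⟨z0, hz0def⟩ : ∃ z0 : GG, z0 = rt f i v1 ε * rt f i v2 ε := ⟨_, rfl⟩
  have hz0 : ∀ z, (z0 : Big) *ᵥ z - z =
      ε • ins i v1 (ctr i (formVec f v1) z) + ε • ins i v2 (ctr i (formVec f v2) z) := by
    intro z
    rw [hz0def, gl_mul_mulVec, rt_apply hf hv22, rt_apply hf hv11, map_add, map_smul, ctr_hv_ins hf,
      swap_eq_zero hf hv12, zero_smul, smul_zero, add_zero]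
    abel
  have hz0sq : z0 * z0 = 1 := by
    refine gl_ext fun z => ?_
    rw [gl_mul_mulVec, Units.val_one, one_mulVec]
    have e1 := hz0 ((z0 : Big) *ᵥ z)
    have e2 := hz0 z
    rw [sub_eq_iff_eq_add] at e1 e2
    rw [e1, e2]
    simp only [map_add, map_smul, ctr_hv_ins hf, hv11, hv12, hv22, swap_eq_zero hf hv12, zero_smul, smul_zero,
      zero_add]
    match_scalars <;> first | linear_combination hεε | linear_combination -hεε | ring1
  obtain ⟨z', hz'def⟩ : ∃ z' : GG, z' = g * z0 * g⁻¹ := ⟨_, rfl⟩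
  have hz'M : z' ∈ M := by rw [hz'def, hz0def]; exact M.mul_mem (M.mul_mem hg
    (M.mul_mem (rt_mem hf S i hv11 hε') (rt_mem hf S i hv22 hε'))) (M.inv_mem hg)
  have hz'K : z' ∈ K := ⟨hz'M, fun z => Submodule.mem_sup_right ⟨(z0 : Big) *ᵥ (((g⁻¹ : GG) : Big) *ᵥ z) -
    ((g⁻¹ : GG) : Big) *ᵥ z, by
      rw [hz0]
      exact Submodule.add_mem_sup (Submodule.smul_mem _ _ (LinearMap.mem_range_self _ _))
        (Submodule.smul_mem _ _ (LinearMap.mem_range_self _ _)),
    by show (g : Big) *ᵥ _ = _; rw [mulVec_sub, gl_mulVec_inv, hz'def, gl_mul_mulVec, gl_mul_mulVec]⟩⟩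
  have htK : t ∈ K := ⟨rt_mem hf S j hw11 hε', fun z =>
    Submodule.mem_sup_left (Submodule.mem_sup_left (rt_sub_mem hf hw11 ε z))⟩
  have htsq : t * t = 1 := by rw [rt_mul hf hw11, hεε, rt_zero hf]
  have hz'sq : z' * z' = 1 := by
    rw [show z' * z' = g * (z0 * z0) * g⁻¹ by rw [hz'def]; group, hz0sq, mul_one, mul_inv_cancel]
  -- the range of the second involution
  obtain ⟨y1, hy1s, hy1⟩ := dual_right hf (S := Submodule.span F {v2}) (z := v1) fun e0 => by
    obtain ⟨c, hc⟩ := Submodule.mem_span_singleton.1 e0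
    have hc0 : c ≠ 0 := fun e1 => hv1 (by rw [← hc, e1, zero_smul])
    exact hv2s (Submodule.mem_span_singleton.2 ⟨c⁻¹, by rw [← hc, inv_smul_smul₀ hc0]⟩)
  obtain ⟨y2, hy2s, hy2⟩ := dual_right hf hv2s
  have hz'ins : ∀ u, (z' : Big) *ᵥ ((g : Big) *ᵥ ins i y1 u) - (g : Big) *ᵥ ins i y1 u =
      ε • ((g : Big) *ᵥ ins i v1 u) ∧ (z' : Big) *ᵥ ((g : Big) *ᵥ ins i y2 u) - (g : Big) *ᵥ ins i y2 u =
      ε • ((g : Big) *ᵥ ins i v2 u) := by
    intro u
    constructor <;> rw [hz'def, gl_mul_mulVec, gl_mul_mulVec, gl_inv_mulVec, ← mulVec_sub, hz0, ctr_hv_ins hf,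
      ctr_hv_ins hf]
    · rw [hy1, hy1s v2 (Submodule.mem_span_singleton_self _), zero_smul, one_smul, map_zero, smul_zero, add_zero,
        mulVec_smul]
    · rw [hy2, hy2s v1 (Submodule.mem_span_singleton_self _), zero_smul, one_smul, map_zero, smul_zero, zero_add,
        mulVec_smul]
  have hnc : ∀ k : GG, k * t * k⁻¹ ≠ z' := by
    intro k hk
    set B := (block j w1).map (Matrix.mulVecLin (k : Big))
    have hB : Module.finrank F B ≤ m ^ (Fintype.card ι - 1) :=
      (Submodule.finrank_map_le _ _).trans_eq (finrank_block hw1)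
    have himg : ∀ z, (z' : Big) *ᵥ z - z ∈ B := fun z => ⟨_, rt_sub_mem hf hw11 ε (((k⁻¹ : GG) : Big) *ᵥ z), by
      show (k : Big) *ᵥ _ = _
      rw [mulVec_sub, gl_mulVec_inv, ← hk, gl_mul_mulVec, gl_mul_mulVec]⟩
    have hsub : ∀ (v y : W1), v ≠ 0 → (∀ u, (z' : Big) *ᵥ ((g : Big) *ᵥ ins i y u) - (g : Big) *ᵥ ins i y u =
        ε • ((g : Big) *ᵥ ins i v u)) → (block i v).map (Matrix.mulVecLin (g : Big)) = B := by
      intro v y hv hvy
      refine Submodule.eq_of_le_of_finrank_le ?_ ?_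
      · rintro _ ⟨_, ⟨u, rfl⟩, rfl⟩
        have := himg ((g : Big) *ᵥ ins i y u)
        rw [hvy] at this
        exact (Submodule.smul_mem_iff _ hε).1 this
      · refine hB.trans ?_
        rw [← finrank_block (j := i) hv]
        exact le_of_eq (LinearEquiv.finrank_eq (Submodule.equivMapOfInjective _
          (fun x y e => gl_mulVec_injective _ e) _))
    have heq := (hsub v2 y2 hv2 fun u => (hz'ins u).2).trans (hsub v1 y1 hv1 fun u => (hz'ins u).1).symm
    obtain ⟨_, hb, hbe⟩ := (heq ▸ ⟨_, LinearMap.mem_range_self (ins i v2) (fun _ => 1), rfl⟩ :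
      (g : Big) *ᵥ ins i v2 (fun _ => 1) ∈ (block i v1).map (Matrix.mulVecLin (g : Big)))
    have h5 : ins i v2 (fun _ => 1) ∈ block i v1 := gl_mulVec_injective g hbe ▸ hb
    refine hv2s (TensorPowerMax.Basic.mem_span_of_orth fun φ hφ => ?_)
    have h6 := (mem_block_iff hv1).1 h5 φ hφ
    rw [ctr_ins, smul_eq_zero] at h6
    exact h6.resolve_right (const_ne_zero hm i)
  obtain ⟨n, hu1, huz, hut⟩ := exists_central hz'sq htsq hnc
  set u := (z' * t) ^ n
  have huK : u ∈ K := K.pow_mem (K.mul_mem hz'K htK) n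
  have hus : ∀ z ∈ block j w1, (u : Big) *ᵥ z ∈ block j w1 := by
    rintro _ ⟨p, rfl⟩
    obtain ⟨w1', -, -, hw1'⟩ := exists_partner hf hw1 hw11
    have h5 := congrArg (fun Z : GG => (Z : Big) *ᵥ ins j w1' p) hut
    simp only [gl_mul_mulVec, t, rt_ins hf hw11, hw1', mul_one, mulVec_add, mulVec_smul,
      rt_apply hf hw11 ε, add_right_inj] at h5
    rw [show (u : Big) *ᵥ ins j w1 p = ε⁻¹ • (ε • ((u : Big) *ᵥ ins j w1 p)) by rw [inv_smul_smul₀ hε], h5]
    exact Submodule.smul_mem _ _ (Submodule.smul_mem _ _ (LinearMap.mem_range_self _ _))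
  obtain ⟨E, hE, huE⟩ := hone w1 hw1P hw1 u huK (mem_of_block S hG hIH huK.1 hw1 hw11 hw1 hw11 hus) hus
  have hrange : ∀ z, ∃ c : Fin m → ({k // k ≠ j} → Fin m) → F,
      (u : Big) *ᵥ z - z = ∑ a, ins j (E *ᵥ Pi.single a 1) (c a) := fun z => by
    refine ⟨fun a => ctr j (Pi.single a (1 : F)) z, ?_⟩
    conv_lhs => rw [← sum_ins j z, mulVec_sum, ← Finset.sum_sub_distrib]
    simp only [huE, add_sub_cancel_left]
  have hcommz : ∀ y p, (z' : Big) *ᵥ ins j (E *ᵥ y) p =
      (u : Big) *ᵥ ((z' : Big) *ᵥ ins j y p) - (z' : Big) *ᵥ ins j y p := fun y p => by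
    rw [← gl_mul_mulVec, huz, gl_mul_mulVec, huE, mulVec_add, add_sub_cancel_left]
  -- the second involution fixes a block of the plane
  obtain ⟨w0, hw0P, hw0, hz'B, hz's⟩ : ∃ w0 ∈ P, w0 ≠ 0 ∧ (∀ z ∈ block j w0, (z' : Big) *ᵥ z ∈ block j w0) ∧
      z' ∈ stab ι m F := by
    obtain ⟨d0, hd0⟩ : ∃ y, E *ᵥ y ≠ 0 := by
      by_contra hc
      push Not at hc
      exact hu1 (gl_ext_ins j fun y p => by rw [huE, hc, ins_zero_left, add_zero, Units.val_one, one_mulVec])
    by_cases hline : ∀ y, E *ᵥ y ∈ Submodule.span F {E *ᵥ d0}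
    · have hB : ∀ z ∈ block j (E *ᵥ d0), (z' : Big) *ᵥ z ∈ block j (E *ᵥ d0) := by
        rintro _ ⟨p, rfl⟩
        rw [hcommz]
        obtain ⟨c, hc⟩ := hrange ((z' : Big) *ᵥ ins j d0 p)
        rw [hc]
        refine sum_mem fun a _ => ?_
        obtain ⟨r, hr⟩ := Submodule.mem_span_singleton.1 (hline (Pi.single a 1))
        rw [← hr, ins_smul]
        exact Submodule.smul_mem _ _ (LinearMap.mem_range_self _ _)
      exact ⟨_, hE d0, hd0, hB, mem_of_block S hG hIH hz'M hd0 (hPP _ (hE d0) _ (hE d0)) hd0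
        (hPP _ (hE d0) _ (hE d0)) hB⟩
    push Not at hline
    obtain ⟨d1, hd1⟩ := hline
    have hPeq : Submodule.span F {E *ᵥ d0} ⊔ Submodule.span F {E *ᵥ d1} = P := by
      refine Submodule.eq_of_le_of_finrank_le (sup_le ((Submodule.span_singleton_le_iff_mem _ _).2 (hE d0))
        ((Submodule.span_singleton_le_iff_mem _ _).2 (hE d1))) ?_
      rw [Submodule.finrank_sup_span_singleton hd1, finrank_span_singleton hd0]
      exact hP2
    have hzD : ∀ p ∈ P, ∀ r, (z' : Big) *ᵥ ins j p r ∈ D := by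
      intro p hp r
      have hgen : ∀ y r, (z' : Big) *ᵥ ins j (E *ᵥ y) r ∈ D := fun y r => by
        rw [hcommz]
        obtain ⟨c, hc⟩ := hrange ((z' : Big) *ᵥ ins j y r)
        rw [hc]
        exact sum_mem fun a _ => hins _ (hE _) _
      rw [← hPeq] at hp
      obtain ⟨a, ha, b, hb, rfl⟩ := Submodule.mem_sup.1 hp
      obtain ⟨c, rfl⟩ := Submodule.mem_span_singleton.1 ha
      obtain ⟨d, rfl⟩ := Submodule.mem_span_singleton.1 hb
      rw [ins_add_left, ins_smul, ins_smul, mulVec_add, mulVec_smul, mulVec_smul]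
      exact D.add_mem (D.smul_mem _ (hgen _ _)) (D.smul_mem _ (hgen _ _))
    have hz's : z' ∈ stab ι m F := mem_of_perp S hG hIH hz'M hw1 hw11 (j := j) hw1 hw11 fun z hz => by
      obtain ⟨r, rfl⟩ := hz
      exact hDperp w1 hw1P (hzD w1 hw1P r)
    obtain ⟨a, π, haπ⟩ := hz's
    have hsub : ∀ p ∈ P, p ≠ 0 → block (π j) ((a (π j) : A1) *ᵥ p) ≤ D := fun p hp hp0 => by
      rw [← tw_map_block hf a π hp0, ← haπ]
      rintro _ ⟨_, ⟨r, rfl⟩, rfl⟩
      exact hzD p hp r
    obtain ⟨yP, hyP⟩ : ∃ yP : W1, yP ∉ P := by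
      obtain ⟨y, hy, -⟩ := exists_common_zero_not_mem P (![] : Fin 0 → W1) (by rw [Fintype.card_fin]; omega)
      exact ⟨y, hy⟩
    obtain ⟨φ, hφ, hφy⟩ := exists_functional hyP
    have hπ : π j = j := by
      by_contra hne
      set s : ι → W1 := fun k => if k = π j then (a (π j) : A1) *ᵥ w1 else yP
      have hs : ∀ k, s k ≠ 0 := fun k => by
        simp only [s]; split_ifs
        · exact gl_ne_zero _ hw1
        · exact fun e0 => hyP (e0 ▸ P.zero_mem)
      have h5 := dot_eq_zero_of_pv (j := j) hs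
        (hDctr _ (hsub w1 hw1P hw1 (pv_mem_block (s := s) (by simp [s]))) φ hφ)
      rw [show s j = yP from if_neg (Ne.symm hne), hφy] at h5
      exact one_ne_zero h5
    have haP : ∀ p ∈ P, p ≠ 0 → (a j : A1) *ᵥ p ∈ P := fun p hp hp0 => hmemP _ (by
      have := hsub p hp hp0 (LinearMap.mem_range_self (ins (π j) ((a (π j) : A1) *ᵥ p)) fun _ => 1)
      rw [hπ] at this
      exact this)
    obtain ⟨d, hd⟩ : ∃ d : F, (a j : A1) * (a j : A1) = d • 1 := by
      have h5 : ptGL a * pmGL π * (ptGL a * pmGL π) = 1 := by rw [← haπ]; exact hz'sq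
      rw [tw_mul] at h5
      obtain ⟨d, hd⟩ := (TensorPowerMax.Roots.tw_eq_one hm h5).2 j
      rw [Pi.mul_apply, Function.comp_apply, show π.symm j = j by rw [Equiv.symm_apply_eq, hπ],
        Units.val_mul] at hd
      exact ⟨d, hd⟩
    obtain ⟨δ, hδ⟩ : ∃ δ : F, δ * δ = d := by
      refine (Finite.injective_iff_surjective (f := fun x : F => x * x)).1 (fun x y hxy => ?_) d
      have : (x - y) * (x - y) = 0 := by linear_combination hxy + (y * y - x * y) * h2
      exact sub_eq_zero.1 (mul_self_eq_zero.1 this)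
    obtain ⟨w0, hw0P, hw0, c, hc⟩ : ∃ w0 ∈ P, w0 ≠ 0 ∧ ∃ c : F, (a j : A1) *ᵥ w0 = c • w0 := by
      by_cases hv : (a j : A1) *ᵥ w1 + δ • w1 = 0
      · exact ⟨w1, hw1P, hw1, -δ, by rw [eq_neg_of_add_eq_zero_left hv, neg_smul]⟩
      refine ⟨_, P.add_mem (haP w1 hw1P hw1) (P.smul_mem _ hw1P), hv, δ, ?_⟩
      rw [mulVec_add, mulVec_mulVec, hd, mulVec_smul, smul_mulVec, one_mulVec, ← hδ]
      module
    refine ⟨w0, hw0P, hw0, fun z hz => ?_, ⟨a, π, haπ⟩⟩
    have h5 := TensorPowerMax.Roots.tw_mulVec_block a π hw0 hz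
    rw [hπ, hc, ← haπ] at h5
    obtain ⟨r, hr⟩ := h5
    exact ⟨c • r, by rw [← hr, ins_smul, map_smul]⟩
  obtain ⟨E', hE', hz'E⟩ := hone w0 hw0P hw0 z' hz'K hz's hz'B
  have hz'D : ∀ z, (z' : Big) *ᵥ z - z ∈ D := fun z => by
    rw [← sum_ins j z, mulVec_sum, ← Finset.sum_sub_distrib]
    refine sum_mem fun a _ => ?_
    rw [hz'E, add_sub_cancel_left]
    exact hins _ (hE' _) _
  refine hgs (mem_of_perp S hG hIH hg (i := i) hv1 hv11 (j := j) hw1 hw11 ?_)
  rintro _ ⟨p, rfl⟩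
  refine hDperp w1 hw1P ?_
  have := hz'D ((g : Big) *ᵥ ins i y1 p)
  rw [(hz'ins p).1] at this
  exact (Submodule.smul_mem_iff _ hε).1 this

/-- Without exceptional central elements the group stays in the stabiliser. -/
theorem le_stab : M ≤ stab ι m F := by
  by_cases h3 : ∃ r : F, σ r = r ∧ r ≠ 0 ∧ r ≠ 1
  · obtain ⟨r, hr, hr0, hr1⟩ := h3
    exact le_stab_of_three S hG hIH hr hr0 hr1
  · exact le_stab_of_four S hG hIH h3 (S.hex.resolve_right h3)

end

/-- The dichotomy. -/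
theorem dichotomy [Finite F] : ∀ (n : ℕ) (κ : Type) [Fintype κ] [DecidableEq κ], Fintype.card κ = n →
    ∀ M : Subgroup (GL (κ → Fin m) F), Setting σ f M →
      M ≤ stab κ m F ∨ ∀ x, Bf σ f x x = 0 → Full.Ctr σ f M x := by
  intro n
  induction n using Nat.strongRecOn with
  | _ n ih =>
    intro κ _ _ hκ M S
    by_cases hG : NoRad f M
    · exact Or.inl (le_stab S hG fun κ' _ _ hlt M' S' => ih (Fintype.card κ') (hκ ▸ hlt) κ' rfl M' S')
    · exact Or.inr fun x hx => Full.full S hG x hx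

end Cfsg.Agent.Lib.UnitaryPowerMax.Rigid
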